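import Cfsg.Agent.MinDeg.SLBound

/-!
A nontrivial unitary representation of `SL_n`, `n ≥ 3`, outside four small cases, is either large
or gives a tame level; in both cases its degree is at least `(q^n - 1) / (q - 1) - 1`.
-/

namespace Cfsg.Agent.MinDeg.SLMin

open Matrix

variable {k : ℕ} {F : Type*} [Field F] [Fintype F] {m : ℕ}

/-- the scalar by which an element commuting with the weight projection acts on it -/
theorem scalar_of_comm {W X : Matrix (Fin k) (Fin k) ℂ} (hW : IsPr W) (h1 : W.trace = 1)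
    (hc : X * W = W * X) : X * W = (X * W).trace • W := by
  have h := hW.sandwich h1 X
  rw [← hc, Matrix.mul_assoc, hW.2] at h
  exact h

theorem fixes_of_scale {G : Type*} [Group G] {R : G →* Matrix (Fin k) (Fin k) ℂ}
    {W : Matrix (Fin k) (Fin k) ℂ} (hW : IsPr W) (h1 : W.trace = 1) {T : F → G}
    (hadd : ∀ x y, T (x + y) = T x * T y) (hcomm : ∀ x, R (T x) * W = W * R (T x)) {g : G}
    (hg : R g * W = W * R g) {c : F} (hc : c ≠ 1) (hconj : ∀ x, g * T x = T (c * x) * g) (x : F) :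
    R (T x) * W = W := by
  have hW0 : W ≠ 0 := by
    rintro rfl
    rw [Matrix.trace_zero] at h1
    exact zero_ne_one h1
  set f : F → ℂ := fun y => (R (T y) * W).trace with hf
  have hs : ∀ y, R (T y) * W = f y • W := fun y => scalar_of_comm hW h1 (hcomm y)
  have h0 : T 0 = 1 := by simpa using hadd 0 0
  have hfa : ∀ y z, f (y + z) = f y * f z := by
    intro y z
    apply smul_left_injective ℂ hW0
    dsimp only
    rw [← hs, hadd, map_mul, Matrix.mul_assoc, hs z, Matrix.mul_smul, hs y, smul_smul, mul_comm]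
  have hf0 : f 0 = 1 := by simp [hf, h0, h1]
  have hne : ∀ y, f y ≠ 0 := fun y h => by
    have := hfa y (-y)
    rw [add_neg_cancel, hf0, h, zero_mul] at this
    exact one_ne_zero this
  have hinv : ∀ y, f (c * y) = f y := by
    intro y
    obtain ⟨G0, hG0⟩ : ∃ a, R g * W = a • W := ⟨_, scalar_of_comm hW h1 hg⟩
    have hG0' : G0 ≠ 0 := by
      rintro rfl
      rw [zero_smul] at hG0
      have := congrArg (R g⁻¹ * ·) hG0
      simp only [← Matrix.mul_assoc, ← map_mul, inv_mul_cancel, map_one, Matrix.one_mul,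
        Matrix.mul_zero] at this
      exact hW0 this
    have h := congrArg (fun a => R a * W) (hconj y)
    simp only [map_mul, Matrix.mul_assoc, hs, hG0, Matrix.mul_smul, smul_smul] at h
    have := smul_left_injective ℂ hW0 h
    rw [mul_comm G0 (f (c * y))] at this
    exact (mul_right_cancel₀ hG0' (by rw [← this])).symm
  have hy : c * (x / (c - 1)) = x / (c - 1) + x := by
    field_simp [sub_ne_zero.2 hc]
    ring
  have h := hinv (x / (c - 1))
  rw [hy, hfa] at h
  rw [hs, (mul_eq_left₀ (hne _)).1 h, one_smul]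

omit [Fintype F] in
theorem tv_commutator {u φ z η : Fin m → F} (h : φ ⬝ᵥ u = 0) (hz : φ ⬝ᵥ z = 0) (hη : η ⬝ᵥ u = 0)
    (h1 : η ⬝ᵥ z = 1) : tv u η * tv z φ = tv u φ * (tv z φ * tv u η) := by
  apply sl_ext
  intro x
  simp only [sl_mul_mulVec, tv_mulVec h, tv_mulVec hz, tv_mulVec hη, dotProduct_add, dotProduct_smul,
    h, hz, hη, h1, smul_zero, add_zero, smul_eq_mul, mul_one, mul_zero, add_smul]
  abel

variable {R : SpecialLinearGroup (Fin (m + 1)) F →* Matrix (Fin k) (Fin k) ℂ} {ψ : AddChar F ℂ}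

theorem comm_of_fix {l : SpecialLinearGroup (Fin m) F} {w : Fin m → F} (h : l.1 *ᵥ w = w) :
    R (emb l) * wproj ψ R w = wproj ψ R w * R (emb l) := by
  rw [wproj_conj, h]

theorem fixes_commutator (hR : IsU R) {w : Fin m → F} (h1 : (wproj ψ R w).trace = 1)
    {u φ z η : Fin m → F} (h : φ ⬝ᵥ u = 0) (hw : φ ⬝ᵥ w = 0) (hz : φ ⬝ᵥ z = 0) (hη : η ⬝ᵥ u = 0)
    (hηw : η ⬝ᵥ w = 0) (hηz : η ⬝ᵥ z = 1) :
    R (emb (tv u φ)) * wproj ψ R w = wproj ψ R w := by
  set W := wproj ψ R w
  have hW : IsPr W := avgC_isPr qEl_add hR _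
  have hfix : ∀ {a b : Fin m → F}, b ⬝ᵥ a = 0 → b ⬝ᵥ w = 0 → (tv a b).1 *ᵥ w = w := fun ha hb => by
    rw [tv_mulVec ha, hb, zero_smul, add_zero]
  have hA := scalar_of_comm hW h1 (comm_of_fix (ψ := ψ) (R := R) (hfix hη hηw))
  have hB := scalar_of_comm hW h1 (comm_of_fix (ψ := ψ) (R := R) (hfix hz hw))
  set a := (R (emb (tv u η)) * W).trace
  set b := (R (emb (tv z φ)) * W).trace
  have hab : R (emb (tv u η) * emb (tv z φ)) * W = (b * a) • W := by
    rw [map_mul, Matrix.mul_assoc, hB, Matrix.mul_smul, hA, smul_smul]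
  have hba : R (emb (tv z φ) * emb (tv u η)) * W = (a * b) • W := by
    rw [map_mul, Matrix.mul_assoc, hA, Matrix.mul_smul, hB, smul_smul]
  have hne : a * b ≠ 0 := by
    intro h0
    rw [h0, zero_smul] at hba
    have := congrArg (R (emb (tv z φ) * emb (tv u η))⁻¹ * ·) hba
    simp only [← Matrix.mul_assoc, ← map_mul, inv_mul_cancel, map_one, Matrix.one_mul,
      Matrix.mul_zero] at this
    rw [this, Matrix.trace_zero] at h1
    exact zero_ne_one h1
  rw [← map_mul emb, tv_commutator h hz hη hηz, map_mul, map_mul emb, map_mul R, Matrix.mul_assoc,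
    hba, Matrix.mul_smul, mul_comm b a] at hab
  exact smul_right_injective _ hne hab

/-- monomial element of the plane `⟨u, z⟩` -/
noncomputable def planeW (u φ z η : Fin m → F) (b : F) : SpecialLinearGroup (Fin m) F :=
  tv u (b • φ) * tv z (-b⁻¹ • η) * tv u (b • φ)

omit [Fintype F] in
theorem planeW_spec {u φ z η : Fin m → F} (h : φ ⬝ᵥ u = 0) (hη : η ⬝ᵥ z = 0) (hφz : φ ⬝ᵥ z = 1)
    (hηu : η ⬝ᵥ u = 1) {b : F} (hb : b ≠ 0) (x : Fin m → F) :
    η ⬝ᵥ ((planeW u φ z η b).1 *ᵥ x) = b * (φ ⬝ᵥ x) ∧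
      φ ⬝ᵥ ((planeW u φ z η b).1 *ᵥ x) = -(b⁻¹ * (η ⬝ᵥ x)) ∧
      (planeW u φ z η b).1 *ᵥ x = x + (b * (φ ⬝ᵥ x) - η ⬝ᵥ x) • u +
        (-(b⁻¹ * (η ⬝ᵥ x)) - φ ⬝ᵥ x) • z := by
  have h1 : (b • φ) ⬝ᵥ u = 0 := by rw [smul_dotProduct, h, smul_zero]
  have h2 : (-b⁻¹ • η) ⬝ᵥ z = 0 := by rw [smul_dotProduct, hη, smul_zero]
  have e : (planeW u φ z η b).1 *ᵥ x = x + (b * (φ ⬝ᵥ x) - η ⬝ᵥ x) • u +
      (-(b⁻¹ * (η ⬝ᵥ x)) - φ ⬝ᵥ x) • z := by
    simp only [planeW, sl_mul_mulVec, tv_mulVec h1, tv_mulVec h2, smul_dotProduct, dotProduct_add,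
      dotProduct_smul, h, hη, hφz, hηu, smul_eq_mul, mul_one, mul_zero, add_zero, zero_add]
    match_scalars <;> field_simp <;> ring
  refine ⟨?_, ?_, e⟩ <;>
    · rw [e]
      simp only [dotProduct_add, dotProduct_smul, h, hη, hφz, hηu, smul_eq_mul, mul_one, mul_zero]
      ring

omit [Fintype F] in
theorem exists_functional {u v z : Fin m → F} (hz : ∀ a b : F, a • u + b • v ≠ z) :
    ∃ η : Fin m → F, η ⬝ᵥ u = 0 ∧ η ⬝ᵥ v = 0 ∧ η ⬝ᵥ z = 1 := by
  set p := Submodule.span F {u, v}
  have hzp : z ∉ p := fun h => by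
    obtain ⟨a, b, hab⟩ := Submodule.mem_span_pair.1 h
    exact hz a b hab
  obtain ⟨f, hf, hp⟩ := Submodule.exists_dual_map_eq_bot_of_notMem hzp inferInstance
  have hker : ∀ x ∈ p, f x = 0 := fun x hx =>
    (Submodule.mem_bot F).1 (hp ▸ Submodule.mem_map_of_mem hx)
  have hdot : ∀ x, (fun i => f (Pi.single i 1)) ⬝ᵥ x = f x := by
    intro x
    conv_rhs => rw [pi_eq_sum_univ' x]
    rw [map_sum, dotProduct]
    exact Finset.sum_congr rfl fun i _ => by rw [map_smul, smul_eq_mul, mul_comm]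
  refine ⟨(f z)⁻¹ • fun i => f (Pi.single i 1), ?_, ?_, ?_⟩ <;> rw [smul_dotProduct, hdot, smul_eq_mul]
  · rw [hker u (Submodule.subset_span (by simp)), mul_zero]
  · rw [hker v (Submodule.subset_span (by simp)), mul_zero]
  · exact inv_mul_cancel₀ hf

omit [Fintype F] in
theorem exists_row {r : Fin (m + 2) → F} (hr : r ≠ 0) :
    ∃ A : SpecialLinearGroup (Fin (m + 2)) F, Pi.single 0 1 ᵥ* A.1 = r := by
  obtain ⟨h, hh⟩ := Weights.exists_sl_apply_single (show 2 ≤ m + 2 by omega) r hr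
  refine ⟨h.transpose, ?_⟩
  rw [Matrix.SpecialLinearGroup.coe_transpose, Matrix.vecMul_transpose]
  exact hh

theorem card_two_span {u w : Fin m → F} [DecidableEq F] :
    (Finset.univ.image fun p : F × F => p.1 • u + p.2 • w).card ≤ Fintype.card F ^ 2 := by
  refine Finset.card_image_le.trans ?_
  rw [Finset.card_univ, Fintype.card_prod, sq]

theorem exists_scalar_pow (d : ℕ) (hd : d + 1 < Fintype.card F) (hd0 : d ≠ 0) :
    ∃ s : F, s ≠ 0 ∧ s ^ d ≠ 1 := by
  classical
  by_contra! h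
  have hsub : (Finset.univ.erase (0 : F)) ⊆ (Polynomial.nthRoots d (1 : F)).toFinset := by
    intro s hs
    rw [Multiset.mem_toFinset, Polynomial.mem_nthRoots (Nat.pos_of_ne_zero hd0)]
    exact h s (Finset.ne_of_mem_erase hs)
  have h1 := (Finset.card_le_card hsub).trans
    ((Multiset.toFinset_card_le _).trans (Polynomial.card_nthRoots d (1 : F)))
  rw [Finset.card_erase_of_mem (Finset.mem_univ _), Finset.card_univ] at h1
  omega

section Three

variable {R₃ : SpecialLinearGroup (Fin 3) F →* Matrix (Fin k) (Fin k) ℂ}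

omit [Fintype F] in
theorem scale_three {s : F} (hs : s ≠ 0) :
    let g : SpecialLinearGroup (Fin 3) F := hE 0 2 s * hE 1 2 s
    (∀ r : Fin 2 → F, g * qEl r = qEl ![r 0, s * s * s * r 1] * g) ∧
      ∀ x : F, g * root 1 2 x = root 1 2 (s * s * s * x) * g := by
  intro g
  obtain ⟨h01, h12, h02⟩ := fin3_ne 0
  have hall : ∀ l : Fin 3, l = 0 ∨ l = 1 ∨ l = 2 := by decide
  have hg : ∀ x : Fin 3 → F, g.1 *ᵥ x = ![s * x 0, s * x 1, s⁻¹ * s⁻¹ * x 2] := by
    intro x
    funext l
    simp only [g, sl_mul_mulVec]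
    rcases hall l with rfl | rfl | rfl <;>
      simp [-Matrix.mulVec_mulVec, hE_mulVec h02 hs, hE_mulVec h12 hs, mul_assoc]
  constructor
  · intro r
    apply sl_ext
    intro x
    have e : ∀ (r : Fin 2 → F) (y : Fin 3 → F), (qEl r).1 *ᵥ y =
        y + ((Fin.cons 0 r : Fin 3 → F) ⬝ᵥ y) • Pi.single 0 1 := fun r y => tv_mulVec (qEl_ok r) y
    simp only [sl_mul_mulVec, hg, e]
    have hc3 : ∀ r : Fin 2 → F, (Fin.cons 0 r : Fin 3 → F) = ![0, r 0, r 1] := fun r => by
      funext i; fin_cases i <;> rfl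
    simp only [hc3]
    funext l
    rcases hall l with rfl | rfl | rfl <;>
      simp [dotProduct, Fin.sum_univ_three] <;> field_simp <;> ring
  · intro x
    apply sl_ext
    intro y
    simp only [sl_mul_mulVec, hg]
    funext l
    rcases hall l with rfl | rfl | rfl <;>
      simp [-Matrix.mulVec_mulVec, root_mulVec h12] <;> field_simp <;> ring

theorem fixes_three_std (hR : IsU R₃) (hq : Fintype.card F ≠ 2 ∧ Fintype.card F ≠ 4) (a : F)
    (h1 : (wproj ψ R₃ ![a, 0]).trace = 1) (x : F) :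
    R₃ (root 1 2 x) * wproj ψ R₃ ![a, 0] = wproj ψ R₃ ![a, 0] := by
  obtain ⟨s, hs, hs3⟩ : ∃ s : F, s ≠ 0 ∧ s * s * s ≠ 1 := by
    rcases lt_or_ge 4 (Fintype.card F) with h | h
    · obtain ⟨s, hs, h3⟩ := exists_scalar_pow (F := F) 3 (by omega) (by omega)
      exact ⟨s, hs, by rwa [← pow_three']⟩
    · have h3 : Fintype.card F = 3 := by
        have := Fintype.one_lt_card (α := F)
        omega
      refine ⟨-1, neg_ne_zero.2 one_ne_zero, fun hbad => ?_⟩
      have h2 : (2 : F) = 0 := by linear_combination -hbad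
      have h30 := FiniteField.cast_card_eq_zero F
      rw [h3] at h30
      push_cast at h30
      exact one_ne_zero (α := F) (by linear_combination h30 - h2)
  obtain ⟨h01, h12, h02⟩ := fin3_ne 0
  obtain ⟨hgq, hgt⟩ := scale_three hs
  set g : SpecialLinearGroup (Fin 3) F := hE 0 2 s * hE 1 2 s
  have h3 : s * s * s ≠ 0 := mul_ne_zero (mul_ne_zero hs hs) hs
  have hcg : R₃ g * wproj ψ R₃ ![a, 0] = wproj ψ R₃ ![a, 0] * R₃ g := by
    refine avgC_conj g
      { toFun := fun r => ![r 0, s * s * s * r 1]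
        invFun := fun r => ![r 0, (s * s * s)⁻¹ * r 1]
        left_inv := fun r => by
          funext i
          fin_cases i <;> simp <;> field_simp
        right_inv := fun r => by
          funext i
          fin_cases i <;> simp <;> field_simp
        map_add' := fun r r' => by
          funext i; fin_cases i <;> simp [mul_add] } _ _ (fun r => ?_) hgq
    simp [wchar_apply, dotProduct, Fin.sum_univ_two]
  refine fixes_of_scale (avgC_isPr qEl_add hR _) h1 (T := fun y => root 1 2 y)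
    (fun y z => root_add h12 y z) (fun y => ?_) hcg hs3 hgt x
  have e := comm_of_fix (ψ := ψ) (R := R₃) (l := root (0 : Fin 2) 1 y) (w := ![a, 0]) (by
    funext l
    rw [root_mulVec (by simp)]
    fin_cases l <;> simp)
  rwa [emb_root (by simp : (0 : Fin 2) ≠ 1), Fin.succ_zero_eq_one,
    show (Fin.succ 1 : Fin 3) = 2 from rfl] at e

theorem fixes_three (hR : IsU R₃) (hq : Fintype.card F ≠ 2 ∧ Fintype.card F ≠ 4)
    (h1 : ∀ w : Fin 2 → F, w ≠ 0 → (wproj ψ R₃ w).trace = 1) {u φ w : Fin 2 → F}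
    (h : φ ⬝ᵥ u = 0) (hu : u ≠ 0) (hw0 : w ≠ 0) (hφ : φ ≠ 0) (hw : φ ⬝ᵥ w = 0) :
    R₃ (emb (tv u φ)) * wproj ψ R₃ w = wproj ψ R₃ w := by
  obtain ⟨B, hB⟩ := Weights.exists_sl_apply_single (show 2 ≤ 2 by omega) u hu
  replace hB : B.1 *ᵥ Pi.single 0 1 = u := hB
  set φ' := φ ᵥ* B.1
  have hφ0 : φ' 0 = 0 := by
    have : φ' ⬝ᵥ Pi.single 0 1 = 0 := by rw [← Matrix.dotProduct_mulVec, hB, h]
    rwa [dotProduct_single, mul_one] at this
  have hφ' : φ' = Pi.single 1 (φ' 1) := by
    funext i; fin_cases i <;> simp [hφ0]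
  have hφ1 : φ' 1 ≠ 0 := by
    intro h0
    apply hφ
    have : φ' = 0 := by rw [hφ', h0, Pi.single_zero]
    calc φ = φ ᵥ* (B * B⁻¹).1 := by rw [mul_inv_cancel]; exact (Matrix.vecMul_one φ).symm
      _ = φ' ᵥ* (B⁻¹).1 := (Matrix.vecMul_vecMul φ B.1 (B⁻¹).1).symm
      _ = 0 := by rw [this, Matrix.zero_vecMul]
  set w' := (B⁻¹).1 *ᵥ w
  have hBw : B.1 *ᵥ w' = w := by
    simp only [w']
    rw [← sl_mul_mulVec, mul_inv_cancel, sl_one_mulVec]
  have hw' : w' = ![w' 0, 0] := by
    have h' : φ' ⬝ᵥ w' = 0 := by rw [← Matrix.dotProduct_mulVec, hBw, hw]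
    rw [hφ', single_dotProduct] at h'
    funext i; fin_cases i <;> simp [(mul_eq_zero.1 h').resolve_left hφ1]
  have hw'0 : w' ≠ 0 := fun h0 => hw0 (by rw [← hBw, h0, Matrix.mulVec_zero])
  have hstd := fixes_three_std (ψ := ψ) hR hq (w' 0) (by rw [← hw']; exact h1 w' hw'0) (φ' 1)
  rw [← hw'] at hstd
  have ht : tv u φ * B = B * root 0 1 (φ' 1) := by
    rw [root, ← hφ', tv_conj B _ _ (by rw [← Matrix.dotProduct_mulVec, hB, h]), hB]
    congr 2
    calc φ = φ ᵥ* (B * B⁻¹).1 := by rw [mul_inv_cancel]; exact (Matrix.vecMul_one φ).symm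
      _ = φ' ᵥ* (B⁻¹).1 := (Matrix.vecMul_vecMul φ B.1 (B⁻¹).1).symm
  have e : R₃ (emb (tv u φ)) * wproj ψ R₃ w * R₃ (emb B) = wproj ψ R₃ w * R₃ (emb B) := by
    rw [Matrix.mul_assoc, ← hBw, ← wproj_conj, ← Matrix.mul_assoc, ← map_mul, ← map_mul, ht,
      map_mul, map_mul, Matrix.mul_assoc, emb_root (by simp : (0 : Fin 2) ≠ 1),
      Fin.succ_zero_eq_one, show (Fin.succ 1 : Fin 3) = 2 from rfl, hstd]
  have e' := congrArg (· * R₃ (emb B⁻¹)) e
  simpa [Matrix.mul_assoc, ← map_mul] using e'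

end Three

section Main

variable {R : SpecialLinearGroup (Fin (m + 3)) F →* Matrix (Fin k) (Fin k) ℂ}

/-- a transvection fixes the weight lines of its fixed weights -/
theorem fixes_rank_one (hR : IsU R)
    (hex : (m + 3, Fintype.card F) ≠ (3, 2) ∧ (m + 3, Fintype.card F) ≠ (3, 4) ∧
      (m + 3, Fintype.card F) ≠ (4, 2) ∧ (m + 3, Fintype.card F) ≠ (4, 3))
    (h1 : ∀ w : Fin (m + 2) → F, w ≠ 0 → (wproj ψ R w).trace = 1) {u φ w : Fin (m + 2) → F}
    (h : φ ⬝ᵥ u = 0) (hu : u ≠ 0) (hφ : φ ≠ 0) (hw0 : w ≠ 0) (hw : φ ⬝ᵥ w = 0) :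
    R (emb (tv u φ)) * wproj ψ R w = wproj ψ R w := by
  classical
  simp only [ne_eq, Prod.mk.injEq, not_and] at hex
  by_cases hz : ∃ z, φ ⬝ᵥ z = 0 ∧ ∀ a b : F, a • u + b • w ≠ z
  · obtain ⟨z, hz, hzn⟩ := hz
    obtain ⟨η, hηu, hηw, hηz⟩ := exists_functional hzn
    exact fixes_commutator hR (h1 w hw0) h hw hz hηu hηw hηz
  push Not at hz
  have hsub : (Finset.univ.filter fun x : Fin (m + 2) → F => φ ⬝ᵥ x = 0) ⊆
      Finset.univ.image fun p : F × F => p.1 • u + p.2 • w := by
    intro x hx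
    obtain ⟨a, b, hab⟩ := hz x (Finset.mem_filter.1 hx).2
    exact Finset.mem_image.2 ⟨(a, b), Finset.mem_univ _, hab⟩
  have hcard := (Finset.card_le_card hsub).trans card_two_span
  rw [card_ker hφ, Nat.pow_le_pow_iff_right Fintype.one_lt_card] at hcard
  obtain rfl | rfl : m = 0 ∨ m = 1 := by omega
  · exact fixes_three hR ⟨fun h => hex.1 rfl h, fun h => hex.2.1 rfl h⟩ h1 h hu hw0 hφ hw
  · have hq2 := fun h => hex.2.2.1 rfl h
    have hq3 := fun h => hex.2.2.2 rfl h
    have hq := Fintype.one_lt_card (α := F)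
    obtain ⟨s, hs, hs2⟩ := exists_scalar_pow (F := F) 2 (by omega) (by omega)
    have hindep : ∀ b : F, b • w ≠ u := by
      intro b hb
      have hle : (Finset.univ.filter fun x : Fin (1 + 2) → F => φ ⬝ᵥ x = 0) ⊆
          Finset.univ.image fun c : F => c • w := by
        intro x hx
        obtain ⟨a, c, hac⟩ := hz x (Finset.mem_filter.1 hx).2
        exact Finset.mem_image.2 ⟨a * b + c, Finset.mem_univ _, by
          rw [← hac, ← hb, smul_smul, add_smul]⟩
      have hle2 := (Finset.card_le_card hle).trans Finset.card_image_le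
      rw [card_ker hφ, Finset.card_univ] at hle2
      exact absurd hle2 (not_le.2 (lt_self_pow₀ hq (by omega)))
    obtain ⟨z, hφz⟩ : ∃ z, φ ⬝ᵥ z = 1 := by
      obtain ⟨i, hi⟩ := Function.ne_iff.1 hφ
      exact ⟨Pi.single i (φ i)⁻¹, by rw [dotProduct_single]; exact mul_inv_cancel₀ hi⟩
    obtain ⟨η, hηw, hηz, hηu⟩ := exists_functional (u := w) (v := z) (z := u) (by
      intro a b hab
      have := congrArg (φ ⬝ᵥ ·) hab
      simp only [dotProduct_add, dotProduct_smul, hw, hφz, h, smul_eq_mul, mul_zero, mul_one,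
        zero_add] at this
      subst this
      rw [zero_smul, add_zero] at hab
      exact hindep a hab)
    have hn1 : (-1 : F) ≠ 0 := neg_ne_zero.2 one_ne_zero
    set A := planeW u φ z η s * planeW u φ z η (-1) with hA
    have hAw : A.1 *ᵥ w = w := by
      rw [hA, sl_mul_mulVec, (planeW_spec h hηz hφz hηu hn1 w).2.2, hηw, hw]
      simp only [mul_zero, neg_zero, sub_zero, zero_smul, add_zero]
      rw [(planeW_spec h hηz hφz hηu hs w).2.2, hηw, hw]
      simp
    have hAu : A.1 *ᵥ u = s • u := by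
      rw [hA, sl_mul_mulVec, (planeW_spec h hηz hφz hηu hn1 u).2.2, h, hηu,
        (planeW_spec h hηz hφz hηu hs _).2.2]
      simp only [dotProduct_add, dotProduct_smul, h, hηu, hφz, hηz, smul_eq_mul]
      match_scalars <;> field_simp <;> ring
    have hAφ : ∀ x, φ ⬝ᵥ (A.1 *ᵥ x) = s⁻¹ * (φ ⬝ᵥ x) := by
      intro x
      rw [hA, sl_mul_mulVec, (planeW_spec h hηz hφz hηu hs _).2.1,
        (planeW_spec h hηz hφz hηu hn1 x).1]
      ring
    have hconj : ∀ x : F, emb A * emb (tv u (x • φ)) = emb (tv u ((s * s * x) • φ)) * emb A := by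
      intro x
      rw [← map_mul, ← map_mul]
      congr 1
      apply sl_ext
      intro y
      rw [sl_mul_mulVec A (tv u (x • φ)), sl_mul_mulVec _ A, tv_mulVec (by rw [smul_dotProduct, h, smul_zero]),
        tv_mulVec (by rw [smul_dotProduct, h, smul_zero]), Matrix.mulVec_add, Matrix.mulVec_smul, hAu,
        smul_dotProduct, smul_dotProduct, hAφ, smul_smul, smul_eq_mul, smul_eq_mul]
      congr 2
      field_simp
    have key := fixes_of_scale (R := R) (avgC_isPr qEl_add hR _) (h1 w hw0)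
      (T := fun x : F => emb (tv u (x • φ)))
      (fun x y => by rw [← map_mul, ← tv_add _ _ _ (by rw [smul_dotProduct, h, smul_zero])
        (by rw [smul_dotProduct, h, smul_zero]), add_smul])
      (fun x => comm_of_fix (by
        rw [tv_mulVec (by rw [smul_dotProduct, h, smul_zero]), smul_dotProduct, hw, smul_zero,
          zero_smul, add_zero]))
      (comm_of_fix hAw) (c := s * s) (by rwa [← pow_two]) hconj 1
    simpa [wproj] using key

/-- transvections are conjugate -/
theorem trace_tv_const {u φ : Fin (m + 3) → F} (h : φ ⬝ᵥ u = 0) (hu : u ≠ 0) (hφ : φ ≠ 0) :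
    (R (tv u φ)).trace = (R (qEl (Pi.single 0 1))).trace := by
  have hconj : ∀ g a b : SpecialLinearGroup (Fin (m + 3)) F, g * a = b * g →
      (R b).trace = (R a).trace := by
    intro g a b hab
    have hb : b = g * a * g⁻¹ := by rw [hab, mul_inv_cancel_right]
    rw [hb, map_mul, Matrix.trace_mul_comm, ← map_mul, inv_mul_cancel_left]
  obtain ⟨g, hg⟩ := Weights.exists_sl_apply_single (show 2 ≤ m + 3 by omega) u hu
  replace hg : g.1 *ᵥ Pi.single 0 1 = u := hg
  set φ' := φ ᵥ* g.1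
  have hφ0 : φ' 0 = 0 := by
    have : φ' ⬝ᵥ Pi.single 0 1 = 0 := by rw [← Matrix.dotProduct_mulVec, hg, h]
    rwa [dotProduct_single, mul_one] at this
  have hback : φ' ᵥ* (g⁻¹).1 = φ := by
    rw [Matrix.vecMul_vecMul]
    change φ ᵥ* (g * g⁻¹).1 = φ
    rw [mul_inv_cancel]
    exact Matrix.vecMul_one φ
  have hφ'e : φ' = Fin.cons 0 (Fin.tail φ') := by rw [← hφ0, Fin.cons_self_tail]
  have hr : Fin.tail φ' ≠ 0 := by
    intro h0
    apply hφ
    have : φ' = 0 := by
      rw [hφ'e, h0]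
      funext i
      refine Fin.cases ?_ (fun i => ?_) i <;> simp
    rw [← hback, this, Matrix.zero_vecMul]
  have e1 := hconj g (qEl (Fin.tail φ')) (tv u φ) (by
    rw [qEl, ← hφ'e, tv_conj _ _ _ (by rw [dotProduct_single, hφ0, zero_mul]), hg, hback])
  obtain ⟨A, hA⟩ := exists_row hr
  rw [e1, ← hA]
  exact hconj (emb A⁻¹) _ _ (by rw [emb_mul_qEl, inv_inv])

/-- the whole representation as a level -/
noncomputable def topLev (R : SpecialLinearGroup (Fin (m + 3)) F →* Matrix (Fin k) (Fin k) ℂ)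
    (hR : IsU R) : Lev k F (m + 3) :=
  ⟨R, 1, hR, IsPr.one, fun g => by rw [Matrix.one_mul, Matrix.mul_one]⟩

/-- the level is tame or the degree is large, when transvections fix the weight lines of their
fixed weights -/
theorem tame_or_large (hR : IsU R) (hnt : ∃ g, R g ≠ 1) {ψ : AddChar F ℂ}
    (hψ : ψ.IsPrimitive)
    (hf : (∀ w : Fin (m + 2) → F, w ≠ 0 → (wproj ψ R w).trace = 1) →
      ∀ u φ w : Fin (m + 2) → F, φ ⬝ᵥ u = 0 → u ≠ 0 → φ ≠ 0 → w ≠ 0 → φ ⬝ᵥ w = 0 →
        R (emb (tv u φ)) * wproj ψ R w = wproj ψ R w) :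
    (topLev R hR).Tame ∨ 2 * ((Fintype.card F : ℝ) ^ (m + 2) - 1) ≤ k := by
  classical
  set τ := (R (qEl (Pi.single 0 1))).trace with hτ
  set q := (Fintype.card F : ℂ) with hq
  have hq0 : q ≠ 0 := Nat.cast_ne_zero.2 Fintype.card_ne_zero
  have htr : ∀ r : Fin (m + 2) → F, r ≠ 0 → (R (qEl r)).trace = τ := fun r hr =>
    trace_tv_const (qEl_ok r) single0_ne (cons_ne_zero hr)
  have htv : ∀ {u φ : Fin (m + 2) → F}, φ ⬝ᵥ u = 0 → u ≠ 0 → φ ≠ 0 →
      (R (emb (tv u φ))).trace = τ := fun {u φ} h hu hφ => by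
    rw [emb_tv _ _ h]
    exact trace_tv_const (by rw [cons_dotProduct_cons, h, zero_mul, add_zero]) (cons_ne_zero hu)
      (cons_ne_zero hφ)
  have hW : ∀ w : Fin (m + 2) → F, q ^ (m + 2) * (wproj ψ R w).trace =
      (k : ℂ) - τ + if w = 0 then q ^ (m + 2) * τ else 0 := by
    intro w
    have hterm : ∀ r : Fin (m + 2) → F, wchar ψ w (-r) * (R (qEl r)).trace =
        wchar ψ w (-r) * τ + if r = 0 then (k : ℂ) - τ else 0 := by
      intro r
      rcases eq_or_ne r 0 with rfl | hr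
      · rw [qEl_zero, map_one, Matrix.trace_one, Fintype.card_fin, neg_zero,
          AddChar.map_zero_eq_one, if_pos rfl]
        ring
      · rw [htr r hr, if_neg hr, add_zero]
    have hs : ∑ r : Fin (m + 2) → F, wchar ψ w (-r) = if w = 0 then q ^ (m + 2) else 0 := by
      rw [hq, ← sum_psi hψ w]
      exact Fintype.sum_equiv (Equiv.neg _) _ _ fun r => rfl
    rw [wproj, avgC, Matrix.trace_smul, Matrix.trace_sum, smul_eq_mul, ← mul_assoc,
      Fintype.card_pi_const, Nat.cast_pow, mul_inv_cancel₀ (pow_ne_zero _ hq0), one_mul]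
    simp only [Matrix.trace_smul, smul_eq_mul, hterm, Finset.sum_add_distrib, Finset.sum_ite_eq',
      Finset.mem_univ, if_true, ← Finset.sum_mul, hs]
    split_ifs <;> ring
  have hPr : ∀ w, IsPr (wproj ψ R w) := fun w => avgC_isPr qEl_add hR _
  obtain ⟨a, ha, -⟩ := (hPr (Pi.single 0 1)).trace_nat
  have hτa : τ = (k : ℂ) - q ^ (m + 2) * a := by
    have := hW (Pi.single 0 1)
    rw [ha, if_neg (by simp), add_zero] at this
    rw [this]; ring
  have hwa : ∀ w : Fin (m + 2) → F, w ≠ 0 → (wproj ψ R w).trace = a := by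
    intro w hw
    apply mul_left_cancel₀ (pow_ne_zero (m + 2) hq0)
    rw [hW, if_neg hw, hτa]; ring
  rcases (show a = 0 ∨ a = 1 ∨ 2 ≤ a by omega) with rfl | rfl | ha2
  · exfalso
    obtain ⟨g, hg⟩ := hnt
    refine hg (sl_induction (by omega) (fun g => R g = 1) (fun i j hij c => ?_)
      (fun x y hx hy => by rw [map_mul, hx, hy, Matrix.one_mul]) g)
    rcases eq_or_ne c 0 with rfl | hc
    · rw [root_zero hij, map_one]
    have h := eq_of_trace_eq IsPr.one (hR.star_mul_self (root i j c)) (by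
      rw [Matrix.mul_one, root, trace_tv_const (root_ok hij c) (by simp) (by simpa using hc), ← hτ,
        hτa, Matrix.trace_one, Fintype.card_fin]
      simp)
    rwa [Matrix.mul_one] at h
  · rw [Nat.cast_one, mul_one] at hτa
    have hwa' : ∀ w : Fin (m + 2) → F, w ≠ 0 → (wproj ψ R w).trace = 1 := fun w hw => by
      rw [hwa w hw, Nat.cast_one]
    set L := topLev R hR
    have hC : L.Tame := by
      constructor
      · intro u φ h hu hφ
        change ((1 : Matrix (Fin k) (Fin k) ℂ) * R (tv u φ)).trace = _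
        rw [Matrix.one_mul, trace_tv_const h hu hφ, ← hτ, hτa]
        simp [L, topLev, hq]
      · intro u φ u' φ' h h' hx hy hu hφ'
        change ((1 : Matrix (Fin k) (Fin k) ℂ) * R (tv u φ * tv u' φ')).trace = _
        rw [Matrix.one_mul, show L.E.trace = (k : ℂ) by simp [L, topLev]]
        obtain ⟨g, hg⟩ := Weights.exists_sl_apply_single (show 2 ≤ m + 3 by omega) u hu
        replace hg : g.1 *ᵥ Pi.single 0 1 = u := hg
        have hback : ∀ χ : Fin (m + 3) → F, (χ ᵥ* g.1) ᵥ* (g⁻¹).1 = χ := fun χ => by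
          rw [Matrix.vecMul_vecMul]
          change χ ᵥ* (g * g⁻¹).1 = χ
          rw [mul_inv_cancel]
          exact Matrix.vecMul_one χ
        set p := φ ᵥ* g.1 with hp
        set p' := φ' ᵥ* g.1 with hp'
        set y := (g⁻¹).1 *ᵥ u' with hy'
        have hgy : g.1 *ᵥ y = u' := by
          rw [hy', ← sl_mul_mulVec, mul_inv_cancel, sl_one_mulVec]
        have hp0 : p 0 = 0 := by
          have : p ⬝ᵥ Pi.single 0 1 = 0 := by rw [hp, ← Matrix.dotProduct_mulVec, hg, h]
          rwa [dotProduct_single, mul_one] at this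
        have hp'0 : p' 0 = 0 := by
          have : p' ⬝ᵥ Pi.single 0 1 = 0 := by rw [hp', ← Matrix.dotProduct_mulVec, hg, hx]
          rwa [dotProduct_single, mul_one] at this
        have hp'y : p' ⬝ᵥ y = 0 := by rw [hp', ← Matrix.dotProduct_mulVec, hgy, h']
        have hpy : p ⬝ᵥ y ≠ 0 := by rw [hp, ← Matrix.dotProduct_mulVec, hgy]; exact hy
        set v := Fin.tail y
        set χ := Fin.tail p'
        set r := Fin.tail p + y 0 • χ with hr
        have ep : p = Fin.cons 0 (Fin.tail p) := by rw [← hp0, Fin.cons_self_tail]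
        have ep' : p' = Fin.cons 0 χ := by rw [← hp'0, Fin.cons_self_tail]
        have ey : y = Fin.cons (y 0) v := (Fin.cons_self_tail y).symm
        have hχv : χ ⬝ᵥ v = 0 := by
          rw [ep', ey, cons_dotProduct_cons, zero_mul, zero_add] at hp'y; exact hp'y
        have hrv : r ⬝ᵥ v ≠ 0 := by
          rw [ep, ey, cons_dotProduct_cons, zero_mul, zero_add] at hpy
          rw [hr, add_dotProduct, smul_dotProduct, hχv, smul_zero, add_zero]
          exact hpy
        have hv : v ≠ 0 := fun h0 => hrv (by rw [h0, dotProduct_zero])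
        have hχ : χ ≠ 0 := by
          intro h0
          apply hφ'
          rw [← hback φ', ← hp', ep', h0]
          have : (Fin.cons 0 0 : Fin (m + 3) → F) = 0 := by
            funext i; refine Fin.cases ?_ (fun i => ?_) i <;> simp
          rw [this, Matrix.zero_vecMul]
        have hsplit : tv y p' = qEl (y 0 • χ) * emb (tv v χ) := by
          rw [emb_tv _ _ hχv, ← ep', qEl, show (Fin.cons 0 (y 0 • χ) : Fin (m + 3) → F) = y 0 • p' by
            funext i; refine Fin.cases ?_ (fun i => ?_) i <;> simp [ep'], ← tv_smul, ← tv_add_left]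
          · congr 1
            funext i
            refine Fin.cases ?_ (fun i => ?_) i <;> simp [v, Fin.tail]
          · rw [dotProduct_smul, dotProduct_single, hp'0, zero_mul, smul_zero]
          · rw [ep', cons_dotProduct_cons, hχv, zero_mul, add_zero]
        have hprod : g * (qEl r * emb (tv v χ)) = tv u φ * tv u' φ' * g := by
          rw [hr, qEl_add, mul_assoc, ← hsplit, qEl, ← ep, ← mul_assoc,
            tv_conj g _ p (by rw [dotProduct_single, hp0, zero_mul]), mul_assoc, tv_conj g y p' hp'y,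
            hg, hgy, hback, hback, mul_assoc]
        have hval : (R (tv u φ * tv u' φ')).trace = (R (qEl r * emb (tv v χ))).trace := by
          have hb : tv u φ * tv u' φ' = g * (qEl r * emb (tv v χ)) * g⁻¹ := by
            rw [hprod, mul_inv_cancel_right]
          rw [hb, map_mul, Matrix.trace_mul_comm, ← map_mul, inv_mul_cancel_left]
        set T := tv v χ with hT
        have hlam : ∀ w : Fin (m + 2) → F, L.lam ψ T w = (if χ ⬝ᵥ w = 0 then 1 else 0) +
            if w = 0 then L.lam ψ T 0 - 1 else 0 := by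
          intro w
          rcases eq_or_ne w 0 with rfl | hw
          · rw [if_pos (dotProduct_zero χ), if_pos rfl]; ring
          · rw [if_neg hw, add_zero]
            split_ifs with hc
            · rw [L.lam_eq]
              change (R (emb T) * (1 * wproj ψ R w)).trace = 1
              rw [Matrix.one_mul, hT, hf hwa' v χ w hχv hv hχ hw hc, hwa' w hw]
            · refine L.lam_moved hψ T fun hfix => ?_
              rw [hT, tv_mulVec hχv, add_eq_left, smul_eq_zero] at hfix
              exact hfix.elim hc hv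
        have e0 : ∑ w, L.lam ψ T w = τ := by
          rw [L.sum_lam hψ]
          change ((1 : Matrix (Fin k) (Fin k) ℂ) * R (emb T)).trace = τ
          rw [Matrix.one_mul, hT, htv hχv hv hχ]
        have e1 : ∑ w, ψ (r ⬝ᵥ w) * L.lam ψ T w = (R (qEl r * emb T)).trace := by
          rw [L.sum_lam_mul hψ]
          change ((1 : Matrix (Fin k) (Fin k) ℂ) * R _).trace = _
          rw [Matrix.one_mul]
        have hsum : ∑ w : Fin (m + 2) → F, (if χ ⬝ᵥ w = 0 then ψ (r ⬝ᵥ w) else 0) = 0 := by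
          apply mul_left_cancel₀ hq0
          rw [mul_zero, Finset.mul_sum]
          have : ∀ w : Fin (m + 2) → F, q * (if χ ⬝ᵥ w = 0 then ψ (r ⬝ᵥ w) else 0) =
              ∑ c : F, ψ ((c • χ + r) ⬝ᵥ w) := by
            intro w
            simp only [add_dotProduct, smul_dotProduct, smul_eq_mul, AddChar.map_add_eq_mul,
              ← Finset.sum_mul, sum_line hψ, hq]
            split_ifs <;> ring
          rw [Finset.sum_congr rfl fun w _ => this w, Finset.sum_comm]
          refine Finset.sum_eq_zero fun c _ => ?_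
          simp only [dotProduct_comm (c • χ + r), sum_psi hψ]
          rw [if_neg]
          intro hc
          apply hrv
          have := congrArg (· ⬝ᵥ v) hc
          simpa [add_dotProduct, smul_dotProduct, hχv] using this
        have h00 : ∀ (f : ℂ) (w : Fin (m + 2) → F),
            ψ (r ⬝ᵥ w) * (if w = 0 then f else 0) = if w = 0 then f else 0 := by
          intro f w
          split_ifs with hw
          · subst hw; simp
          · simp
        rw [Finset.sum_congr rfl fun w _ => hlam w] at e0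
        rw [Finset.sum_congr rfl fun w _ => congrArg (ψ (r ⬝ᵥ w) * ·) (hlam w)] at e1
        generalize L.lam ψ T 0 - 1 = c0 at e0 e1
        simp only [mul_add, mul_ite, mul_one, mul_zero, Finset.sum_add_distrib,
          Finset.sum_ite_eq', Finset.mem_univ, if_true, Finset.sum_boole, card_ker hχ, Nat.cast_pow] at e0 e1
        rw [hsum, dotProduct_zero, AddChar.map_zero_eq_one, one_mul, zero_add] at e1
        rw [hval, ← e1]
        have hτ' := hτa
        simp only [show m + 3 - 1 = m + 2 from rfl, show m + 3 - 2 = m + 1 from rfl, ← hq] at e0 ⊢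
        linear_combination e0 + hτ'
    exact Or.inl hC
  · obtain ⟨d, hd, -⟩ := (hPr 0).trace_nat
    have h := hW 0
    rw [hd, if_pos rfl, hτa] at h
    have hN : (k : ℕ) + a = d + Fintype.card F ^ (m + 2) * a := by
      apply Nat.cast_injective (R := ℂ)
      apply mul_left_cancel₀ (pow_ne_zero (m + 2) hq0)
      push_cast
      rw [← hq]
      linear_combination -h
    have hq1 : (1 : ℝ) ≤ Fintype.card F := by exact_mod_cast Fintype.card_pos
    have hq2 : (2 : ℝ) ≤ Fintype.card F := by exact_mod_cast Fintype.one_lt_card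
    have hN' : (k : ℝ) + a = d + (Fintype.card F : ℝ) ^ (m + 2) * a := by exact_mod_cast hN
    have hp1 : (1 : ℝ) ≤ (Fintype.card F : ℝ) ^ (m + 2) := one_le_pow₀ hq1
    have hk : 2 * ((Fintype.card F : ℝ) ^ (m + 2) - 1) ≤ k := by
      have := mul_le_mul_of_nonneg_right (show (2 : ℝ) ≤ a by exact_mod_cast ha2) (sub_nonneg.2 hp1)
      nlinarith [Nat.cast_nonneg (α := ℝ) d]
    exact Or.inr hk

/-- the lower bound on the degree, when transvections fix the weight lines of their fixed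
weights -/
theorem degree_bound_of_fixes (hR : IsU R) (hnt : ∃ g, R g ≠ 1) {ψ : AddChar F ℂ}
    (hψ : ψ.IsPrimitive)
    (hf : (∀ w : Fin (m + 2) → F, w ≠ 0 → (wproj ψ R w).trace = 1) →
      ∀ u φ w : Fin (m + 2) → F, φ ⬝ᵥ u = 0 → u ≠ 0 → φ ≠ 0 → w ≠ 0 → φ ⬝ᵥ w = 0 →
        R (emb (tv u φ)) * wproj ψ R w = wproj ψ R w) :
    (Fintype.card F : ℝ) ^ (m + 3) - 1 ≤ ((Fintype.card F : ℝ) - 1) * ((k : ℝ) + 1) := by
  rcases tame_or_large hR hnt hψ hf with hC | hk
  · have := hC.bound
    rwa [show (topLev R hR).E.trace.re = (k : ℝ) by simp [topLev]] at this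
  · have hq2 : (2 : ℝ) ≤ Fintype.card F := by exact_mod_cast Fintype.one_lt_card
    have hq1 : (1 : ℝ) ≤ Fintype.card F := by linarith
    have hp1 : (1 : ℝ) ≤ (Fintype.card F : ℝ) ^ (m + 2) := one_le_pow₀ hq1
    rw [pow_succ']
    nlinarith [mul_nonneg (sub_nonneg.2 hq2) (sub_nonneg.2 hp1),
      mul_le_mul_of_nonneg_left hk (sub_nonneg.2 hq1)]

/-- the lower bound on the degree -/
theorem degree_bound (hR : IsU R) (hnt : ∃ g, R g ≠ 1)
    (hex : (m + 3, Fintype.card F) ≠ (3, 2) ∧ (m + 3, Fintype.card F) ≠ (3, 4) ∧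
      (m + 3, Fintype.card F) ≠ (4, 2) ∧ (m + 3, Fintype.card F) ≠ (4, 3)) :
    (Fintype.card F : ℝ) ^ (m + 3) - 1 ≤ ((Fintype.card F : ℝ) - 1) * ((k : ℝ) + 1) := by
  obtain ⟨ψ, hψ⟩ := exists_primitive F
  exact degree_bound_of_fixes hR hnt hψ fun h1 _ _ _ h hu hφ hw0 hw =>
    fixes_rank_one hR hex h1 h hu hφ hw0 hw

end Main

end Cfsg.Agent.MinDeg.SLMin
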