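import Cfsg.Agent.Weights.Over

/-!
Counting the weights of an abelian normal subgroup by a double count against the vectors of the
natural module of a complement.
-/

namespace Cfsg.Agent.MinDeg

open Module Cfsg.Agent.Weights

variable {L : Type*} [Field L] {A : Type*} {V : Type*} [AddCommGroup V] [Module L V]

/-- the weight space of `χ` -/
def weightSpace (R : A → End L V) (χ : A → L) : Submodule L V :=
  ⨅ a, LinearMap.ker (R a - χ a • LinearMap.id)

theorem mem_weightSpace {R : A → End L V} {χ : A → L} {v : V} :
    v ∈ weightSpace R χ ↔ ∀ a, R a v = χ a • v := by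
  simp [weightSpace, sub_eq_zero]

theorem isWeight_iff {R : A → End L V} {χ : A → L} :
    IsWeight R χ ↔ weightSpace R χ ≠ ⊥ := by
  rw [Submodule.ne_bot_iff]
  exact ⟨fun ⟨v, hv0, hv⟩ => ⟨v, mem_weightSpace.2 hv, hv0⟩,
    fun ⟨v, hv, hv0⟩ => ⟨v, hv0, mem_weightSpace.1 hv⟩⟩

theorem sum_finrank_weightSpace_le [FiniteDimensional L V] (R : A → End L V)
    (W : Finset (A → L)) : ∑ χ ∈ W, finrank L (weightSpace R χ) ≤ finrank L V := by
  classical
  let f : ((χ : W) → weightSpace R χ.1) →ₗ[L] V :=
    ∑ χ : W, (weightSpace R χ.1).subtype ∘ₗ LinearMap.proj χ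
  have hf : Function.Injective f := by
    rw [← LinearMap.ker_eq_bot, LinearMap.ker_eq_bot']
    intro x hx
    by_contra hne
    obtain ⟨χ₀, hχ₀⟩ := Function.ne_iff.1 hne
    let ι := {χ : W // x χ ≠ 0}
    have hli := linearIndependent_weightVec (ι := ι) R (fun i => i.1.1)
      (fun i j h => Subtype.ext (Subtype.ext h))
      (fun i => ((x i.1 : weightSpace R i.1.1) : V))
      (fun i => ⟨fun h => i.2 (Subtype.ext h), mem_weightSpace.1 (x i.1).2⟩)
    have hsum : ∑ i : ι, (1 : L) • ((x i.1 : weightSpace R i.1.1) : V) = 0 := by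
      simp only [one_smul]
      rw [← hx]
      simp only [f, LinearMap.sum_apply, LinearMap.comp_apply, LinearMap.proj_apply,
        Submodule.subtype_apply]
      rw [← Finset.sum_subtype (Finset.univ.filter fun χ : W => x χ ≠ 0) (by simp)
        (fun χ : W => ((x χ : weightSpace R χ.1) : V)), Finset.sum_filter_of_ne]
      intro c _ h h0
      exact h (by rw [h0]; rfl)
    exact one_ne_zero (Fintype.linearIndependent_iff.1 hli (fun _ => 1) hsum ⟨χ₀, hχ₀⟩)
  have h := LinearMap.finrank_le_finrank_of_injective hf
  rw [Module.finrank_pi_fintype] at h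
  rwa [← Finset.sum_coe_sort]

theorem exists_weightFinset [FiniteDimensional L V] (R : A → End L V) :
    ∃ W : Finset (A → L), ∀ χ, χ ∈ W ↔ IsWeight R χ := by
  classical
  have hfin : Set.Finite {χ : A → L | IsWeight R χ} := by
    rw [← Set.finite_coe_iff]
    choose v hv using fun χ : {χ : A → L | IsWeight R χ} => χ.2
    exact (linearIndependent_weightVec R (fun χ : {χ : A → L | IsWeight R χ} => χ.1)
      Subtype.val_injective v hv).finite
  exact ⟨hfin.toFinset, fun χ => hfin.mem_toFinset⟩

theorem mul_card_le_finrank [FiniteDimensional L V] (R : A → End L V) (W : Finset (A → L)) (d : ℕ)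
    (hd : ∀ χ ∈ W, d ≤ finrank L (weightSpace R χ)) : W.card * d ≤ finrank L V := by
  refine le_trans ?_ (sum_finrank_weightSpace_le R W)
  rw [← smul_eq_mul, ← Finset.sum_const]
  exact Finset.sum_le_sum hd

/-- double counting -/
theorem double_count {α β : Type*} [Fintype β] [DecidableEq β] (W : Finset α) (P : α → β → Prop)
    [∀ a b, Decidable (P a b)] (N M : ℕ) (hN : ∀ b, N ≤ (W.filter fun a => P a b).card)
    (hM : ∀ a ∈ W, (Finset.univ.filter fun b => P a b).card ≤ M) :
    Fintype.card β * N ≤ W.card * M := by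
  have h := Finset.card_mul_le_card_mul (fun b a => P a b) (s := (Finset.univ : Finset β)) (t := W)
    (fun b _ => hN b) (fun a ha => hM a ha)
  rwa [Finset.card_univ] at h

theorem card_filter_ge_of_injective {α κ : Type*} [Fintype κ] [DecidableEq α] (W : Finset α)
    (P : α → Prop) [DecidablePred P] (f : κ → α) (hf : Function.Injective f)
    (hmem : ∀ k, f k ∈ W) (hP : ∀ k, P (f k)) : Fintype.card κ ≤ (W.filter P).card := by
  rw [← Finset.card_univ, ← Finset.card_image_of_injective Finset.univ hf]
  refine Finset.card_le_card fun a ha => ?_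
  obtain ⟨k, -, rfl⟩ := Finset.mem_image.1 ha
  exact Finset.mem_filter.2 ⟨hmem k, hP k⟩

/-- fibrewise bound along cosets of a line -/
theorem card_filter_le_of_lines {F : Type*} [Field F] [Fintype F] [DecidableEq F] {ι : Type*}
    [Fintype ι] [DecidableEq ι] (x₀ : ι → F) (i₀ : ι) (hx₀ : x₀ i₀ ≠ 0) (P : (ι → F) → Prop)
    [DecidablePred P] (r : ℕ)
    (hr : ∀ x : ι → F, x i₀ = 0 → (Finset.univ.filter fun t : F => P (x + t • x₀)).card ≤ r) :
    (Finset.univ.filter P).card ≤ r * Fintype.card F ^ (Fintype.card ι - 1) := by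
  classical
  let π : (ι → F) → (ι → F) := fun x => x - (x i₀ / x₀ i₀) • x₀
  let Z : Finset (ι → F) := Finset.univ.filter fun x : ι → F => x i₀ = 0
  have hπ : ∀ x ∈ Finset.univ.filter P, π x ∈ Z := fun x _ => by
    simp [π, Z, hx₀]
  refine (Finset.card_le_mul_card_image_of_maps_to hπ r fun z hz => ?_).trans
    (Nat.mul_le_mul le_rfl ?_)
  · refine le_trans ?_ (hr z (Finset.mem_filter.1 hz).2)
    refine Finset.card_le_card_of_injOn (fun x => x i₀ / x₀ i₀) ?_ ?_
    · intro x hx
      simp only [Finset.coe_filter, Finset.mem_filter, Finset.mem_univ, true_and,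
        Set.mem_ofPred_eq] at hx ⊢
      rw [← hx.2]
      simpa [π] using hx.1
    · intro x hx y hy h
      simp only [Finset.coe_filter, Set.mem_ofPred_eq] at hx hy
      have h2 := hx.2.trans hy.2.symm
      simp only [π] at h2
      dsimp only at h
      rw [h] at h2
      exact sub_left_injective h2
  · have hcard : Z.card = Fintype.card F ^ (Fintype.card ι - 1) := by
      have h1 : Z = Fintype.piFinset fun i => if i = i₀ then {0} else Finset.univ := by
        ext x
        simp only [Z, Finset.mem_filter, Finset.mem_univ, true_and, Fintype.mem_piFinset]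
        refine ⟨fun h i => ?_, fun h => by simpa using h i₀⟩
        rcases eq_or_ne i i₀ with rfl | hi
        · simp [h]
        · simp [hi]
      rw [h1, Fintype.card_piFinset, ← Finset.mul_prod_erase _ _ (Finset.mem_univ i₀)]
      simp only [if_true, Finset.card_singleton, one_mul]
      rw [Finset.prod_congr rfl (fun i hi => by rw [if_neg (Finset.ne_of_mem_erase hi),
        Finset.card_univ]), Finset.prod_const, Finset.card_erase_of_mem (Finset.mem_univ _),
        Finset.card_univ]
    exact hcard.le

end Cfsg.Agent.MinDeg
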