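import Mathlib

/-!
Transvections of `SL_m`, the monomial elements built from them, and the embedding of `SL_m` in
`SL_(m+1)`.
-/

namespace Cfsg.Agent.MinDeg.SLMin

open Matrix

variable {F : Type*} [Field F] {m : ℕ}

theorem sl_ext {a b : SpecialLinearGroup (Fin m) F} (h : ∀ x, a.1 *ᵥ x = b.1 *ᵥ x) : a = b :=
  Subtype.ext (Matrix.ext_of_mulVec_single fun i => h _)

theorem sl_mul_mulVec (a b : SpecialLinearGroup (Fin m) F) (x : Fin m → F) :
    (a * b).1 *ᵥ x = a.1 *ᵥ (b.1 *ᵥ x) := (Matrix.mulVec_mulVec x a.1 b.1).symm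

theorem sl_one_mulVec (x : Fin m → F) : (1 : SpecialLinearGroup (Fin m) F).1 *ᵥ x = x :=
  Matrix.one_mulVec x

/-- the transvection, given the proof that it is one -/
def tvOf (u φ : Fin m → F) (h : φ ⬝ᵥ u = 0) : SpecialLinearGroup (Fin m) F :=
  ⟨1 + vecMulVec u φ, by
    rw [Matrix.vecMulVec_eq Unit, Matrix.det_one_add_replicateCol_mul_replicateRow, h, add_zero]⟩

open Classical in
/-- the transvection `x ↦ x + φ(x) u` -/
noncomputable def tv (u φ : Fin m → F) : SpecialLinearGroup (Fin m) F :=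
  if h : φ ⬝ᵥ u = 0 then tvOf u φ h else 1

theorem tv_mulVec {u φ : Fin m → F} (h : φ ⬝ᵥ u = 0) (x : Fin m → F) :
    (tv u φ).1 *ᵥ x = x + (φ ⬝ᵥ x) • u := by
  rw [show tv u φ = tvOf u φ h from dif_pos h]
  change (1 + vecMulVec u φ) *ᵥ x = _
  rw [Matrix.add_mulVec, Matrix.one_mulVec, Matrix.vecMulVec_mulVec, op_smul_eq_smul]

theorem tv_add (u φ φ' : Fin m → F) (h : φ ⬝ᵥ u = 0) (h' : φ' ⬝ᵥ u = 0) :
    tv u (φ + φ') = tv u φ * tv u φ' := by
  apply sl_ext
  intro x
  have h'' : (φ + φ') ⬝ᵥ u = 0 := by rw [add_dotProduct, h, h', add_zero]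
  rw [sl_mul_mulVec, tv_mulVec h'', tv_mulVec h', tv_mulVec h, dotProduct_add, dotProduct_smul, h,
    smul_zero, add_zero, add_dotProduct, add_smul]
  abel

theorem tv_add_left (u u' φ : Fin m → F) (h : φ ⬝ᵥ u = 0) (h' : φ ⬝ᵥ u' = 0) :
    tv (u + u') φ = tv u φ * tv u' φ := by
  apply sl_ext
  intro x
  have h'' : φ ⬝ᵥ (u + u') = 0 := by rw [dotProduct_add, h, h', add_zero]
  rw [sl_mul_mulVec, tv_mulVec h'', tv_mulVec h', tv_mulVec h, dotProduct_add, dotProduct_smul, h',
    smul_zero, add_zero, smul_add]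
  abel

theorem tv_zero (u : Fin m → F) : tv u 0 = 1 := by
  apply sl_ext
  intro x
  rw [tv_mulVec (zero_dotProduct u), zero_dotProduct, zero_smul, add_zero, sl_one_mulVec]

theorem tv_inv (u φ : Fin m → F) (h : φ ⬝ᵥ u = 0) : (tv u φ)⁻¹ = tv u (-φ) := by
  refine inv_eq_of_mul_eq_one_right ?_
  rw [← tv_add u φ (-φ) h (by rw [neg_dotProduct, h, neg_zero]), add_neg_cancel, tv_zero]

theorem tv_smul (c : F) (u φ : Fin m → F) : tv (c • u) φ = tv u (c • φ) := by
  rcases eq_or_ne c 0 with rfl | hc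
  · rw [zero_smul, zero_smul, tv_zero]
    apply sl_ext
    intro x
    rw [tv_mulVec (dotProduct_zero φ), smul_zero, add_zero, sl_one_mulVec]
  by_cases h : φ ⬝ᵥ u = 0
  · apply sl_ext
    intro x
    rw [tv_mulVec (by rw [dotProduct_smul, h, smul_zero]), tv_mulVec (by rw [smul_dotProduct, h, smul_zero]),
      smul_dotProduct, smul_smul, smul_eq_mul, mul_comm]
  · rw [tv, dif_neg (by rw [dotProduct_smul, smul_eq_mul]; exact mul_ne_zero hc h), tv,
      dif_neg (by rw [smul_dotProduct, smul_eq_mul]; exact mul_ne_zero hc h)]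

theorem sl_inv_mulVec (g : SpecialLinearGroup (Fin m) F) (x : Fin m → F) :
    (g⁻¹).1 *ᵥ (g.1 *ᵥ x) = x := by
  rw [← sl_mul_mulVec, inv_mul_cancel, sl_one_mulVec]

theorem tv_conj (g : SpecialLinearGroup (Fin m) F) (u φ : Fin m → F) (h : φ ⬝ᵥ u = 0) :
    g * tv u φ = tv (g.1 *ᵥ u) (φ ᵥ* (g⁻¹).1) * g := by
  have h' : (φ ᵥ* (g⁻¹).1) ⬝ᵥ (g.1 *ᵥ u) = 0 := by
    rw [← Matrix.dotProduct_mulVec, sl_inv_mulVec, h]
  apply sl_ext
  intro x
  rw [sl_mul_mulVec, sl_mul_mulVec, tv_mulVec h, tv_mulVec h', Matrix.mulVec_add, Matrix.mulVec_smul,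
    ← Matrix.dotProduct_mulVec, sl_inv_mulVec]

/-- elementary root element -/
noncomputable def root (i j : Fin m) (a : F) : SpecialLinearGroup (Fin m) F :=
  tv (Pi.single i 1) (Pi.single j a)

theorem root_ok {i j : Fin m} (hij : i ≠ j) (a : F) :
    Pi.single j a ⬝ᵥ Pi.single i (1 : F) = 0 := by
  simp [hij]

theorem root_mulVec {i j : Fin m} (hij : i ≠ j) (a : F) (x : Fin m → F) (l : Fin m) :
    ((root i j a).1 *ᵥ x) l = if l = i then x i + a * x j else x l := by
  rw [root, tv_mulVec (root_ok hij a), single_dotProduct, Pi.add_apply, Pi.smul_apply, smul_eq_mul]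
  by_cases h : l = i
  · subst h; simp
  · simp [h]

theorem root_add {i j : Fin m} (hij : i ≠ j) (a b : F) :
    root i j (a + b) = root i j a * root i j b := by
  rw [root, root, root, ← tv_add _ _ _ (root_ok hij a) (root_ok hij b), Pi.single_add]

/-- monomial element `e_j ↦ b e_i`, `e_i ↦ -b⁻¹ e_j` -/
noncomputable def wE (i j : Fin m) (b : F) : SpecialLinearGroup (Fin m) F :=
  root i j b * root j i (-b⁻¹) * root i j b

/-- diagonal element -/
noncomputable def hE (i j : Fin m) (c : F) : SpecialLinearGroup (Fin m) F :=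
  wE i j c * wE i j (-1)

/-- the Weyl element -/
noncomputable def sE (i j : Fin m) : SpecialLinearGroup (Fin m) F := wE i j 1

theorem wE_mulVec {i j : Fin m} (hij : i ≠ j) {b : F} (hb : b ≠ 0) (x : Fin m → F) (l : Fin m) :
    ((wE i j b).1 *ᵥ x) l = if l = i then b * x j else if l = j then -(b⁻¹ * x i) else x l := by
  rw [wE, sl_mul_mulVec, sl_mul_mulVec]
  by_cases hi : l = i
  · subst hi
    simp only [root_mulVec hij, root_mulVec hij.symm, hij, hij.symm, if_true, if_false]
    field_simp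
    ring
  · by_cases hj : l = j
    · subst hj
      simp only [root_mulVec hij, root_mulVec hij.symm, hij.symm, if_true, if_false]
      field_simp
      ring
    · simp only [root_mulVec hij, root_mulVec hij.symm, hi, hj, if_false]

theorem sE_mulVec {i j : Fin m} (hij : i ≠ j) (x : Fin m → F) (l : Fin m) :
    ((sE i j).1 *ᵥ x) l = if l = i then x j else if l = j then -(x i) else x l := by
  rw [sE, wE_mulVec hij one_ne_zero]
  simp

theorem hE_mulVec {i j : Fin m} (hij : i ≠ j) {c : F} (hc : c ≠ 0) (x : Fin m → F) (l : Fin m) :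
    ((hE i j c).1 *ᵥ x) l = if l = i then c * x i else if l = j then c⁻¹ * x j else x l := by
  rw [hE, sl_mul_mulVec, wE_mulVec hij hc]
  have h1 : (-1 : F) ≠ 0 := neg_ne_zero.2 one_ne_zero
  simp only [wE_mulVec hij h1, hij.symm, if_true, if_false]
  split_ifs <;> ring_nf <;> simp [inv_neg]

theorem root_opp {i j : Fin m} (hij : i ≠ j) {a : F} (ha : a ≠ 0) :
    root j i a = root i j a⁻¹ * (hE i j (-a⁻¹) * sE i j) * root i j a⁻¹ := by
  have hc : -a⁻¹ ≠ 0 := neg_ne_zero.2 (inv_ne_zero ha)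
  apply sl_ext
  intro x
  funext l
  simp only [sl_mul_mulVec]
  by_cases hi : l = i
  · subst hi
    simp only [root_mulVec hij, root_mulVec hij.symm, hE_mulVec hij hc, sE_mulVec hij, hij, hij.symm,
      if_true, if_false]
    field_simp
    ring
  · by_cases hj : l = j
    · subst hj
      simp only [root_mulVec hij, root_mulVec hij.symm, hE_mulVec hij hc, sE_mulVec hij, hij.symm,
        if_true, if_false]
      field_simp
      ring
    · simp only [root_mulVec hij, root_mulVec hij.symm, hE_mulVec hij hc, sE_mulVec hij, hi, hj,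
        if_false]

theorem sE_mul_root {i j : Fin m} (hij : i ≠ j) (a : F) :
    sE i j * root i j a = root j i (-a) * sE i j := by
  apply sl_ext
  intro x
  funext l
  simp only [sl_mul_mulVec]
  by_cases hi : l = i
  · subst hi
    simp [-Matrix.mulVec_mulVec, root_mulVec hij, root_mulVec hij.symm, sE_mulVec hij, hij, hij.symm]
  · by_cases hj : l = j
    · subst hj
      simp [-Matrix.mulVec_mulVec, root_mulVec hij, root_mulVec hij.symm, sE_mulVec hij, hij.symm]
      ring
    · simp [-Matrix.mulVec_mulVec, root_mulVec hij, root_mulVec hij.symm, sE_mulVec hij, hi, hj]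

theorem sE_mul_sE {i j : Fin m} (hij : i ≠ j) : sE i j * sE i j = hE (F := F) i j (-1) := by
  apply sl_ext
  intro x
  funext l
  simp only [sl_mul_mulVec]
  by_cases hi : l = i
  · subst hi; simp [-Matrix.mulVec_mulVec, sE_mulVec hij, hE_mulVec hij (neg_ne_zero.2 (one_ne_zero (α := F))), hij.symm]
  · by_cases hj : l = j
    · subst hj; simp [-Matrix.mulVec_mulVec, sE_mulVec hij, hE_mulVec hij (neg_ne_zero.2 (one_ne_zero (α := F))), hij.symm]
    · simp [-Matrix.mulVec_mulVec, sE_mulVec hij, hE_mulVec hij (neg_ne_zero.2 (one_ne_zero (α := F))), hi, hj]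

theorem hE_mul {i j : Fin m} (hij : i ≠ j) {c d : F} (hc : c ≠ 0) (hd : d ≠ 0) :
    hE i j c * hE i j d = hE i j (c * d) := by
  apply sl_ext
  intro x
  funext l
  simp only [sl_mul_mulVec, hE_mulVec hij hc, hE_mulVec hij hd, hE_mulVec hij (mul_ne_zero hc hd)]
  split_ifs with h1 h2 <;> simp_all [mul_comm, mul_left_comm]

theorem hE_mul_root {i j : Fin m} (hij : i ≠ j) {c : F} (hc : c ≠ 0) (a : F) :
    hE i j c * root i j a = root i j (c * c * a) * hE i j c := by
  apply sl_ext
  intro x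
  funext l
  simp only [sl_mul_mulVec]
  by_cases hi : l = i
  · subst hi
    simp only [root_mulVec hij, hE_mulVec hij hc, hij.symm, if_true, if_false]
    field_simp
  · by_cases hj : l = j
    · subst hj
      simp only [root_mulVec hij, hE_mulVec hij hc, hij.symm, if_true, if_false]
    · simp only [root_mulVec hij, hE_mulVec hij hc, hi, hj, if_false]

theorem hE_mul_sE {i j : Fin m} (hij : i ≠ j) {c : F} (hc : c ≠ 0) :
    hE i j c * sE i j = sE i j * hE i j c⁻¹ := by
  apply sl_ext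
  intro x
  funext l
  simp only [sl_mul_mulVec]
  by_cases hi : l = i
  · subst hi; simp [-Matrix.mulVec_mulVec, sE_mulVec hij, hE_mulVec hij hc, hE_mulVec hij (inv_ne_zero hc), hij.symm]
  · by_cases hj : l = j
    · subst hj; simp [-Matrix.mulVec_mulVec, sE_mulVec hij, hE_mulVec hij hc, hE_mulVec hij (inv_ne_zero hc), hij.symm]
    · simp [-Matrix.mulVec_mulVec, sE_mulVec hij, hE_mulVec hij hc, hE_mulVec hij (inv_ne_zero hc), hi, hj]

/-! ### three indices `i, j, l` -/

variable {i j l : Fin m}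

theorem sE_braid (hij : i ≠ j) (hjl : j ≠ l) (hil : i ≠ l) :
    sE (F := F) i j * sE j l * sE i j = sE j l * sE i j * sE j l := by
  apply sl_ext
  intro x
  funext p
  simp only [sl_mul_mulVec]
  by_cases h1 : p = i
  · subst h1; simp [-Matrix.mulVec_mulVec, sE_mulVec hij, sE_mulVec hjl, hij, hjl, hil, hij.symm, hjl.symm, hil.symm]
  · by_cases h2 : p = j
    · subst h2; simp [-Matrix.mulVec_mulVec, sE_mulVec hij, sE_mulVec hjl, hij, hjl, hil, hij.symm, hjl.symm, hil.symm]
    · by_cases h3 : p = l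
      · subst h3; simp [-Matrix.mulVec_mulVec, sE_mulVec hij, sE_mulVec hjl, hij, hjl, hil, hij.symm, hjl.symm, hil.symm]
      · simp [-Matrix.mulVec_mulVec, sE_mulVec hij, sE_mulVec hjl, h1, h2, h3]

theorem hE_mul_sE_adj (hij : i ≠ j) (hjl : j ≠ l) (hil : i ≠ l) {c : F} (hc : c ≠ 0) :
    hE i j c * sE j l = sE j l * (hE i j c * hE j l c) := by
  apply sl_ext
  intro x
  funext p
  simp only [sl_mul_mulVec]
  by_cases h1 : p = i
  · subst h1
    simp [-Matrix.mulVec_mulVec, sE_mulVec hjl, hE_mulVec hij hc, hE_mulVec hjl hc, hij, hjl, hil, hij.symm, hjl.symm,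
      hil.symm]
  · by_cases h2 : p = j
    · subst h2
      simp [-Matrix.mulVec_mulVec, sE_mulVec hjl, hE_mulVec hij hc, hE_mulVec hjl hc, hij, hjl, hil, hij.symm, hjl.symm,
        hil.symm]
    · by_cases h3 : p = l
      · subst h3
        simp [-Matrix.mulVec_mulVec, sE_mulVec hjl, hE_mulVec hij hc, hE_mulVec hjl hc, hij, hjl, hil, hij.symm, hjl.symm,
          hil.symm, hc]
      · simp [-Matrix.mulVec_mulVec, sE_mulVec hjl, hE_mulVec hij hc, hE_mulVec hjl hc, h1, h2, h3]

theorem hE_comm (hij : i ≠ j) (hjl : j ≠ l) (hil : i ≠ l) {c d : F} (hc : c ≠ 0) (hd : d ≠ 0) :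
    hE i j c * hE j l d = hE j l d * hE i j c := by
  apply sl_ext
  intro x
  funext p
  simp only [sl_mul_mulVec]
  by_cases h1 : p = i
  · subst h1; simp [-Matrix.mulVec_mulVec, hE_mulVec hij hc, hE_mulVec hjl hd, hij, hil]
  · by_cases h2 : p = j
    · subst h2; simp [-Matrix.mulVec_mulVec, hE_mulVec hij hc, hE_mulVec hjl hd, hjl, hij.symm]; ring
    · by_cases h3 : p = l
      · subst h3; simp [-Matrix.mulVec_mulVec, hE_mulVec hij hc, hE_mulVec hjl hd, hjl.symm, hil.symm]
      · simp [-Matrix.mulVec_mulVec, hE_mulVec hij hc, hE_mulVec hjl hd, h1, h2, h3]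

theorem hE_mul_root_adj (hij : i ≠ j) (hjl : j ≠ l) (hil : i ≠ l) {c : F} (hc : c ≠ 0) (a : F) :
    hE i j c * root j l a = root j l (c⁻¹ * a) * hE i j c := by
  apply sl_ext
  intro x
  funext p
  simp only [sl_mul_mulVec]
  by_cases h1 : p = i
  · subst h1; simp [-Matrix.mulVec_mulVec, hE_mulVec hij hc, root_mulVec hjl, hij, hil]
  · by_cases h2 : p = j
    · subst h2
      simp [-Matrix.mulVec_mulVec, hE_mulVec hij hc, root_mulVec hjl, hjl, hij.symm, hjl.symm, hil.symm]
      ring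
    · simp [-Matrix.mulVec_mulVec, hE_mulVec hij hc, root_mulVec hjl, h1, h2]

theorem sigma_mul_root (hij : i ≠ j) (hjl : j ≠ l) (hil : i ≠ l) (a : F) :
    sE i j * sE j l * root i j a = root j l a * (sE i j * sE j l) := by
  apply sl_ext
  intro x
  funext p
  simp only [sl_mul_mulVec]
  by_cases h1 : p = i
  · subst h1
    simp [-Matrix.mulVec_mulVec, sE_mulVec hij, sE_mulVec hjl, root_mulVec hij, root_mulVec hjl, hij, hjl, hil, hij.symm,
      hjl.symm, hil.symm]
  · by_cases h2 : p = j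
    · subst h2
      simp [-Matrix.mulVec_mulVec, sE_mulVec hij, sE_mulVec hjl, root_mulVec hij, root_mulVec hjl, hij, hjl, hil, hij.symm,
        hjl.symm, hil.symm]
      ring
    · by_cases h3 : p = l
      · subst h3
        simp [-Matrix.mulVec_mulVec, sE_mulVec hij, sE_mulVec hjl, root_mulVec hij, root_mulVec hjl, hij, hjl, hil, hij.symm,
          hjl.symm, hil.symm]
      · simp [-Matrix.mulVec_mulVec, sE_mulVec hij, sE_mulVec hjl, root_mulVec hij, root_mulVec hjl, h1, h2, h3]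

/-! ### the embedding -/

/-- `A ↦ diag(1, A)` as a matrix -/
def embMat (A : Matrix (Fin m) (Fin m) F) : Matrix (Fin (m + 1)) (Fin (m + 1)) F :=
  Matrix.of (Fin.cons (Pi.single 0 1) fun i => Fin.cons 0 (A i))

theorem embMat_mulVec (A : Matrix (Fin m) (Fin m) F) (x : Fin (m + 1) → F) :
    embMat A *ᵥ x = Fin.cons (x 0) (A *ᵥ Fin.tail x) := by
  funext i
  refine Fin.cases ?_ (fun i => ?_) i
  · simp [embMat, Matrix.mulVec]
  · simp [embMat, Matrix.mulVec, dotProduct, Fin.sum_univ_succ, Fin.tail]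

theorem det_embMat (A : Matrix (Fin m) (Fin m) F) : (embMat A).det = A.det := by
  rw [Matrix.det_succ_row_zero, Finset.sum_eq_single 0]
  · rw [Fin.val_zero, pow_zero, one_mul]
    have : (embMat A).submatrix Fin.succ (Fin.succAbove 0) = A := by
      ext i j; simp [embMat]
    rw [this]
    simp [embMat]
  · intro j _ hj
    simp [embMat, hj]
  · exact fun h => absurd (Finset.mem_univ _) h

/-- `A ↦ diag(1, A)` -/
def emb : SpecialLinearGroup (Fin m) F →* SpecialLinearGroup (Fin (m + 1)) F where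
  toFun A := ⟨embMat A.1, by rw [det_embMat, A.2]⟩
  map_one' := sl_ext fun x => by
    change embMat 1 *ᵥ x = _
    rw [embMat_mulVec, Matrix.one_mulVec, Fin.cons_self_tail, sl_one_mulVec]
  map_mul' A B := sl_ext fun x => by
    change embMat (A.1 * B.1) *ᵥ x = _
    change _ = (embMat A.1 * embMat B.1) *ᵥ x
    rw [← Matrix.mulVec_mulVec _ (embMat A.1)]
    rw [embMat_mulVec, embMat_mulVec, embMat_mulVec, Fin.cons_zero, Fin.tail_cons,
      Matrix.mulVec_mulVec]

theorem emb_mulVec (A : SpecialLinearGroup (Fin m) F) (x : Fin (m + 1) → F) :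
    (emb A).1 *ᵥ x = Fin.cons (x 0) (A.1 *ᵥ Fin.tail x) := embMat_mulVec A.1 x

theorem cons_dotProduct_cons (a b : F) (x y : Fin m → F) :
    (Fin.cons a x : Fin (m + 1) → F) ⬝ᵥ Fin.cons b y = a * b + x ⬝ᵥ y := by
  simp [dotProduct, Fin.sum_univ_succ]

theorem emb_tv (u φ : Fin m → F) (h : φ ⬝ᵥ u = 0) :
    emb (tv u φ) = tv (Fin.cons 0 u : Fin (m + 1) → F) (Fin.cons 0 φ) := by
  apply sl_ext
  intro x
  have h' : (Fin.cons 0 φ : Fin (m + 1) → F) ⬝ᵥ Fin.cons 0 u = 0 := by
    rw [cons_dotProduct_cons, h, mul_zero, add_zero]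
  rw [emb_mulVec, tv_mulVec h, tv_mulVec h']
  conv_rhs => arg 2; arg 1; rw [← Fin.cons_self_tail x, cons_dotProduct_cons, zero_mul, zero_add]
  funext i
  refine Fin.cases ?_ (fun i => ?_) i <;> simp [Fin.tail]

end Cfsg.Agent.MinDeg.SLMin
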