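import Cfsg.Agent.MinDeg.SLProj
import Cfsg.Agent.MinDeg.SLGroup

/-!
Averaged operators of a unitary representation of `SL_m`: projections on fixed points and on
weight spaces of the radical of a point stabiliser.
-/

namespace Cfsg.Agent.MinDeg.SLMin

open Matrix

variable {k : ℕ} {G : Type*} [Group G]

/-- unitary matrices -/
def IsU (R : G →* Matrix (Fin k) (Fin k) ℂ) : Prop := ∀ g, (R g)ᴴ = R g⁻¹

theorem IsU.star_mul_self {R : G →* Matrix (Fin k) (Fin k) ℂ} (hR : IsU R) (g : G) :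
    (R g)ᴴ * R g = 1 := by
  rw [hR, ← map_mul, inv_mul_cancel, map_one]

theorem IsU.dot {R : G →* Matrix (Fin k) (Fin k) ℂ} (hR : IsU R) (g : G) (v w : Fin k → ℂ) :
    star (R g *ᵥ v) ⬝ᵥ w = star v ⬝ᵥ R g⁻¹ *ᵥ w := by
  rw [Matrix.star_mulVec, hR, ← Matrix.dotProduct_mulVec]

section Avg

variable {A : Type*} [AddCommGroup A] [Fintype A]

/-- the projection on the weight space of `χ` -/
noncomputable def avgC (R : G →* Matrix (Fin k) (Fin k) ℂ) (t : A → G) (χ : AddChar A ℂ) :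
    Matrix (Fin k) (Fin k) ℂ :=
  (Fintype.card A : ℂ)⁻¹ • ∑ a, χ (-a) • R (t a)

/-- the projection on the fixed points -/
noncomputable def avg (R : G →* Matrix (Fin k) (Fin k) ℂ) (t : A → G) :
    Matrix (Fin k) (Fin k) ℂ :=
  avgC R t 1

theorem avg_eq (R : G →* Matrix (Fin k) (Fin k) ℂ) (t : A → G) :
    avg R t = (Fintype.card A : ℂ)⁻¹ • ∑ a, R (t a) := by
  simp [avg, avgC]

variable {R : G →* Matrix (Fin k) (Fin k) ℂ} {t : A → G}
  (ht : ∀ a b, t (a + b) = t a * t b)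
include ht

theorem mul_avgC (χ : AddChar A ℂ) (a : A) : R (t a) * avgC R t χ = χ a • avgC R t χ := by
  rw [avgC, Matrix.mul_smul, Finset.mul_sum, smul_comm, Finset.smul_sum (r := χ a)]
  congr 1
  refine Fintype.sum_equiv (Equiv.addLeft a) _ _ fun b => ?_
  rw [Matrix.mul_smul, Equiv.coe_addLeft, ← map_mul, ← ht, smul_smul, ← AddChar.map_add_eq_mul]
  congr 2
  simp [neg_add_rev, add_comm b a]

theorem avgC_mul (χ : AddChar A ℂ) (a : A) : avgC R t χ * R (t a) = χ a • avgC R t χ := by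
  rw [avgC, Matrix.smul_mul, Finset.sum_mul, smul_comm, Finset.smul_sum (r := χ a)]
  congr 1
  refine Fintype.sum_equiv (Equiv.addRight a) _ _ fun b => ?_
  rw [Matrix.smul_mul, Equiv.coe_addRight, ← map_mul, ← ht, smul_smul, ← AddChar.map_add_eq_mul]
  congr 2
  simp [neg_add_rev, add_comm b a]

theorem avgC_isPr (hR : IsU R) (χ : AddChar A ℂ) : IsPr (avgC R t χ) := by
  have h0 : t 0 = 1 := by simpa using ht 0 0
  have hinv : ∀ a, (t a)⁻¹ = t (-a) := fun a =>
    inv_eq_of_mul_eq_one_right (by rw [← ht, add_neg_cancel, h0])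
  refine ⟨?_, ?_⟩
  · rw [avgC, Matrix.conjTranspose_smul, Matrix.conjTranspose_sum, star_inv₀, Complex.star_def,
      map_natCast]
    congr 1
    refine Fintype.sum_equiv (Equiv.neg A) _ _ fun a => ?_
    rw [Matrix.conjTranspose_smul, hR, hinv, Equiv.neg_apply, Complex.star_def,
      ← AddChar.map_neg_eq_conj]
  · conv_lhs => lhs; rw [avgC]
    rw [Matrix.smul_mul, Finset.sum_mul]
    simp only [Matrix.smul_mul, mul_avgC ht, smul_smul, ← AddChar.map_add_eq_mul, neg_add_cancel,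
      AddChar.map_zero_eq_one, one_smul, Finset.sum_const, Finset.card_univ]
    rw [← Nat.cast_smul_eq_nsmul ℂ, smul_smul, inv_mul_cancel₀ (Nat.cast_ne_zero.2 Fintype.card_ne_zero),
      one_smul]

theorem avgC_mul_avgC_ne {χ χ' : AddChar A ℂ} (h : χ ≠ χ') : avgC R t χ * avgC R t χ' = 0 := by
  conv_lhs => lhs; rw [avgC]
  rw [Matrix.smul_mul, Finset.sum_mul]
  simp only [Matrix.smul_mul, mul_avgC ht, smul_smul, ← Finset.sum_smul]
  have h1 : ∑ a, χ (-a) * χ' a = 0 := by
    have hne : χ⁻¹ * χ' ≠ 1 := fun h1 => h (inv_mul_eq_one.1 h1)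
    have h2 := AddChar.sum_eq_zero_of_ne_one hne
    simpa [AddChar.inv_apply] using h2
  rw [h1, mul_zero, zero_smul]

theorem mul_avg (a : A) : R (t a) * avg R t = avg R t := by
  rw [avg, mul_avgC ht]; simp

theorem avg_mul (a : A) : avg R t * R (t a) = avg R t := by
  rw [avg, avgC_mul ht]; simp

theorem avg_isPr (hR : IsU R) : IsPr (avg R t) := avgC_isPr ht hR 1

theorem avg_fix_iff (v : Fin k → ℂ) : avg R t *ᵥ v = v ↔ ∀ a, R (t a) *ᵥ v = v := by
  refine ⟨fun h a => by rw [← h, Matrix.mulVec_mulVec, mul_avg ht], fun h => ?_⟩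
  rw [avg_eq, Matrix.smul_mulVec, Matrix.sum_mulVec]
  simp only [h, Finset.sum_const, Finset.card_univ]
  rw [← Nat.cast_smul_eq_nsmul ℂ, smul_smul, inv_mul_cancel₀ (Nat.cast_ne_zero.2 Fintype.card_ne_zero),
    one_smul]

omit ht

theorem avgC_conj {B : Type*} [AddCommGroup B] [Fintype B] {t' : B → G} (g : G) (σ : A ≃+ B)
    (χ : AddChar A ℂ) (χ' : AddChar B ℂ) (hχ : ∀ a, χ' (σ a) = χ a)
    (h : ∀ a, g * t a = t' (σ a) * g) : R g * avgC R t χ = avgC R t' χ' * R g := by
  rw [avgC, avgC, Matrix.mul_smul, Matrix.smul_mul, Finset.mul_sum, Finset.sum_mul,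
    Fintype.card_congr σ.toEquiv]
  congr 1
  refine Fintype.sum_equiv σ.toEquiv _ _ fun a => ?_
  rw [Matrix.mul_smul, Matrix.smul_mul, AddEquiv.toEquiv_eq_coe, AddEquiv.coe_toEquiv, ← map_neg σ,
    hχ, ← map_mul, h, map_mul]

theorem avg_conj {B : Type*} [AddCommGroup B] [Fintype B] {t' : B → G} (g : G) (σ : A ≃+ B)
    (h : ∀ a, g * t a = t' (σ a) * g) : R g * avg R t = avg R t' * R g :=
  avgC_conj g σ 1 1 (fun _ => rfl) h

theorem avgC_comm {E : Matrix (Fin k) (Fin k) ℂ} (hE : ∀ g, E * R g = R g * E) (χ : AddChar A ℂ) :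
    E * avgC R t χ = avgC R t χ * E := by
  rw [avgC, Matrix.mul_smul, Matrix.smul_mul, Finset.mul_sum, Finset.sum_mul]
  congr 1
  exact Finset.sum_congr rfl fun a _ => by rw [Matrix.mul_smul, Matrix.smul_mul, hE]

theorem sum_avgC {ι : Type*} [Fintype ι] (χ : ι → AddChar A ℂ) (h0 : t 0 = 1)
    (hsum : ∀ a, a ≠ 0 → ∑ i, χ i a = 0) (hcard : Fintype.card ι = Fintype.card A) :
    ∑ i, avgC R t (χ i) = 1 := by
  classical
  simp only [avgC, ← Finset.smul_sum]
  rw [Finset.sum_comm]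
  simp only [← Finset.sum_smul]
  rw [Finset.sum_eq_single (0 : A)]
  · simp only [neg_zero, AddChar.map_zero_eq_one, Finset.sum_const, Finset.card_univ, hcard, h0,
      map_one, nsmul_eq_mul, mul_one]
    rw [smul_smul, inv_mul_cancel₀ (Nat.cast_ne_zero.2 Fintype.card_ne_zero), one_smul]
  · intro a _ ha
    rw [hsum _ (neg_ne_zero.2 ha), zero_smul]
  · exact fun h => absurd (Finset.mem_univ _) h

end Avg

section SL

variable {F : Type*} [Field F] [Fintype F] {m : ℕ}

/-- functionals killing `x` -/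
def Ann (x : Fin m → F) : Submodule F (Fin m → F) where
  carrier := {φ | φ ⬝ᵥ x = 0}
  add_mem' {a b} ha hb := by
    simp only [Set.mem_ofPred_eq] at *
    rw [add_dotProduct, ha, hb, add_zero]
  zero_mem' := zero_dotProduct x
  smul_mem' c a ha := by
    simp only [Set.mem_ofPred_eq] at *
    rw [smul_dotProduct, ha, smul_zero]

theorem mem_Ann {x φ : Fin m → F} : φ ∈ Ann x ↔ φ ⬝ᵥ x = 0 := Iff.rfl

noncomputable instance (x : Fin m → F) : Fintype (Ann x) := Fintype.ofFinite _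

/-- projection on the fixed points of the radical of the stabiliser of the point `x` -/
noncomputable def pointProj (R : SpecialLinearGroup (Fin m) F →* Matrix (Fin k) (Fin k) ℂ)
    (x : Fin m → F) : Matrix (Fin k) (Fin k) ℂ :=
  avg R fun φ : Ann x => tv x φ.1

theorem tvAnn_add (x : Fin m → F) (φ ψ : Ann x) : tv x (φ + ψ).1 = tv x φ.1 * tv x ψ.1 :=
  tv_add x φ.1 ψ.1 φ.2 ψ.2

variable {R : SpecialLinearGroup (Fin m) F →* Matrix (Fin k) (Fin k) ℂ}

theorem pointProj_isPr (hR : IsU R) (x : Fin m → F) : IsPr (pointProj R x) :=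
  avg_isPr (tvAnn_add x) hR

theorem pointProj_fix_iff (x : Fin m → F) (v : Fin k → ℂ) :
    pointProj R x *ᵥ v = v ↔ ∀ φ : Fin m → F, φ ⬝ᵥ x = 0 → R (tv x φ) *ᵥ v = v :=
  (avg_fix_iff (tvAnn_add x) v).trans
    ⟨fun h φ hφ => h ⟨φ, hφ⟩, fun h φ => h φ.1 φ.2⟩

theorem pointProj_conj (g : SpecialLinearGroup (Fin m) F) (x : Fin m → F) :
    R g * pointProj R x = pointProj R (g.1 *ᵥ x) * R g := by
  have hmem : ∀ φ : Fin m → F, φ ⬝ᵥ x = 0 → (φ ᵥ* (g⁻¹).1) ⬝ᵥ (g.1 *ᵥ x) = 0 := fun φ hφ => by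
    rw [← Matrix.dotProduct_mulVec, sl_inv_mulVec, hφ]
  refine avg_conj g
    { toFun := fun φ => ⟨φ.1 ᵥ* (g⁻¹).1, hmem φ.1 φ.2⟩
      invFun := fun φ => ⟨φ.1 ᵥ* g.1, by
        rw [mem_Ann, ← Matrix.dotProduct_mulVec]; exact φ.2⟩
      left_inv := fun φ => Subtype.ext (by
        change (φ.1 ᵥ* (g⁻¹).1) ᵥ* g.1 = φ.1
        rw [Matrix.vecMul_vecMul]
        change φ.1 ᵥ* (g⁻¹ * g).1 = φ.1
        rw [inv_mul_cancel]
        exact Matrix.vecMul_one _)
      right_inv := fun φ => Subtype.ext (by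
        change (φ.1 ᵥ* g.1) ᵥ* (g⁻¹).1 = φ.1
        rw [Matrix.vecMul_vecMul]
        change φ.1 ᵥ* (g * g⁻¹).1 = φ.1
        rw [mul_inv_cancel]
        exact Matrix.vecMul_one _)
      map_add' := fun a b => Subtype.ext (Matrix.add_vecMul _ a.1 b.1) }
    fun φ => tv_conj g x φ.1 φ.2

theorem pointProj_smul {c : F} (hc : c ≠ 0) (x : Fin m → F) :
    pointProj R (c • x) = pointProj R x := by
  have h : avg R (fun φ : Ann (c • x) => tv (c • x) φ.1) * R 1 =
      R 1 * avg R (fun φ : Ann (c • x) => tv (c • x) φ.1) := by rw [map_one, one_mul, mul_one]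
  have := avg_conj (R := R) (t := fun φ : Ann (c • x) => tv (c • x) φ.1)
    (t' := fun φ : Ann x => tv x φ.1) 1
    { toFun := fun φ => ⟨c • φ.1, by
        have := φ.2
        rw [mem_Ann, dotProduct_smul, smul_eq_mul] at this
        rw [mem_Ann, smul_dotProduct, smul_eq_mul, this]⟩
      invFun := fun φ => ⟨c⁻¹ • φ.1, by
        rw [mem_Ann, smul_dotProduct, dotProduct_smul, smul_smul, inv_mul_cancel₀ hc, one_smul]
        exact φ.2⟩
      left_inv := fun φ => Subtype.ext (inv_smul_smul₀ hc φ.1)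
      right_inv := fun φ => Subtype.ext (smul_inv_smul₀ hc φ.1)
      map_add' := fun a b => Subtype.ext (smul_add c a.1 b.1) }
    (fun φ => by rw [one_mul, mul_one]; exact tv_smul c x φ.1)
  rwa [map_one, Matrix.one_mul, Matrix.mul_one] at this

theorem pointProj_comm {E : Matrix (Fin k) (Fin k) ℂ} (hE : ∀ g, E * R g = R g * E) (x : Fin m → F) :
    E * pointProj R x = pointProj R x * E :=
  avgC_comm hE 1

/-- the radical of the stabiliser of the first point, as a vector group -/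
noncomputable def qEl (r : Fin m → F) : SpecialLinearGroup (Fin (m + 1)) F :=
  tv (Pi.single 0 1) (Fin.cons 0 r)

omit [Fintype F] in
theorem qEl_ok (r : Fin m → F) :
    (Fin.cons 0 r : Fin (m + 1) → F) ⬝ᵥ Pi.single 0 1 = 0 := by
  rw [dotProduct_single]; simp

omit [Fintype F] in
theorem qEl_add (r r' : Fin m → F) : qEl (r + r') = qEl r * qEl r' := by
  rw [qEl, qEl, qEl, ← tv_add _ _ _ (qEl_ok r) (qEl_ok r')]
  congr 1
  funext i
  refine Fin.cases ?_ (fun i => ?_) i <;> simp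

omit [Fintype F] in
theorem qEl_zero : qEl (0 : Fin m → F) = 1 := by simpa using qEl_add (0 : Fin m → F) 0

omit [Fintype F] in
theorem emb_mul_qEl (A : SpecialLinearGroup (Fin m) F) (r : Fin m → F) :
    emb A * qEl r = qEl (r ᵥ* (A⁻¹).1) * emb A := by
  rw [qEl, qEl, tv_conj _ _ _ (qEl_ok r)]
  congr 2
  · rw [emb_mulVec]
    funext i
    refine Fin.cases ?_ (fun i => ?_) i
    · simp
    · rw [Fin.cons_succ, Pi.single_eq_of_ne (Fin.succ_ne_zero i)]
      have : Fin.tail (Pi.single 0 1 : Fin (m + 1) → F) = 0 := by ext; simp [Fin.tail]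
      rw [this, Matrix.mulVec_zero, Pi.zero_apply]
  · rw [← map_inv]
    funext i
    change (Fin.cons 0 r ᵥ* embMat (A⁻¹).1) i = _
    refine Fin.cases ?_ (fun i => ?_) i
    · simp [Matrix.vecMul, dotProduct, Fin.sum_univ_succ, embMat]
    · simp [Matrix.vecMul, dotProduct, Fin.sum_univ_succ, embMat]

/-- the character of a weight -/
def wchar (ψ : AddChar F ℂ) (w : Fin m → F) : AddChar (Fin m → F) ℂ :=
  ψ.compAddMonoidHom
    { toFun := fun r => r ⬝ᵥ w
      map_zero' := zero_dotProduct w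
      map_add' := fun a b => add_dotProduct a b w }

omit [Fintype F] in
theorem wchar_apply (ψ : AddChar F ℂ) (w r : Fin m → F) : wchar ψ w r = ψ (r ⬝ᵥ w) := rfl

/-- projection on the weight space of `w` -/
noncomputable def wproj (ψ : AddChar F ℂ)
    (R : SpecialLinearGroup (Fin (m + 1)) F →* Matrix (Fin k) (Fin k) ℂ) (w : Fin m → F) :
    Matrix (Fin k) (Fin k) ℂ :=
  avgC R qEl (wchar ψ w)

variable {ψ : AddChar F ℂ} {R' : SpecialLinearGroup (Fin (m + 1)) F →* Matrix (Fin k) (Fin k) ℂ}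

theorem wproj_conj (A : SpecialLinearGroup (Fin m) F) (w : Fin m → F) :
    R' (emb A) * wproj ψ R' w = wproj ψ R' (A.1 *ᵥ w) * R' (emb A) := by
  refine avgC_conj (emb A)
    { toFun := fun r => r ᵥ* (A⁻¹).1
      invFun := fun r => r ᵥ* A.1
      left_inv := fun r => by
        change (r ᵥ* (A⁻¹).1) ᵥ* A.1 = r
        rw [Matrix.vecMul_vecMul]
        change r ᵥ* (A⁻¹ * A).1 = r
        rw [inv_mul_cancel]
        exact Matrix.vecMul_one _
      right_inv := fun r => by
        change (r ᵥ* A.1) ᵥ* (A⁻¹).1 = r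
        rw [Matrix.vecMul_vecMul]
        change r ᵥ* (A * A⁻¹).1 = r
        rw [mul_inv_cancel]
        exact Matrix.vecMul_one _
      map_add' := fun a b => Matrix.add_vecMul _ a b } _ _ (fun r => ?_) (fun r => emb_mul_qEl A r)
  change ψ ((r ᵥ* (A⁻¹).1) ⬝ᵥ (A.1 *ᵥ w)) = ψ (r ⬝ᵥ w)
  rw [← Matrix.dotProduct_mulVec, sl_inv_mulVec]

theorem wproj_zero : wproj ψ R' 0 = pointProj R' (Pi.single 0 1) := by
  have h1 : wchar ψ (0 : Fin m → F) = 1 := by
    ext r; simp [wchar_apply]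
  rw [wproj, h1]
  have := avg_conj (R := R') (t := (qEl : (Fin m → F) → _))
    (t' := fun φ : Ann (Pi.single 0 1 : Fin (m + 1) → F) => tv (Pi.single 0 1) φ.1) 1
    { toFun := fun r => ⟨Fin.cons 0 r, qEl_ok r⟩
      invFun := fun φ => Fin.tail φ.1
      left_inv := fun r => by
        change Fin.tail (Fin.cons 0 r : Fin (m + 1) → F) = r
        exact Fin.tail_cons _ _
      right_inv := fun φ => Subtype.ext (by
        have : φ.1 0 = 0 := by
          have := φ.2
          rwa [mem_Ann, dotProduct_single, mul_one] at this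
        change Fin.cons 0 (Fin.tail φ.1) = φ.1
        rw [← this, Fin.cons_self_tail])
      map_add' := fun a b => Subtype.ext (by
        funext i
        refine Fin.cases ?_ (fun i => ?_) i <;> simp) }
    (fun r => by rw [one_mul, mul_one]; rfl)
  rwa [map_one, Matrix.one_mul, Matrix.mul_one] at this

theorem sum_wproj (hψ : ψ.IsPrimitive) : ∑ w, wproj ψ R' w = 1 := by
  refine sum_avgC (fun w : Fin m → F => wchar ψ w) qEl_zero (fun r hr => ?_) rfl
  obtain ⟨i, hi⟩ := Function.ne_iff.1 hr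
  have h : wchar ψ r ≠ 1 := by
    intro h
    refine hψ hi (DFunLike.ext _ _ fun s => ?_)
    have := DFunLike.congr_fun h (Pi.single i s)
    rw [wchar_apply, single_dotProduct] at this
    rw [AddChar.mulShift_apply, mul_comm]
    exact this
  have hs := AddChar.sum_eq_zero_of_ne_one h
  refine Eq.trans (Finset.sum_congr rfl fun w _ => ?_) hs
  rw [wchar_apply, wchar_apply, dotProduct_comm]

end SL

end Cfsg.Agent.MinDeg.SLMin
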