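import Cfsg.Agent.MinDeg.SLFrame
import Cfsg.Agent.Linear.Transvection

/-!
A tame level of `SL_m`, `m ≥ 3`, has trace at least `(q^m - 1) / (q - 1) - 1`.
-/

namespace Cfsg.Agent.MinDeg.SLMin

open Matrix

variable {k : ℕ} {F : Type*} [Field F] [Fintype F] {m : ℕ}

omit [Fintype F] in
theorem transvection_eq_root {i j : Fin m} (h : i ≠ j) (c : F) :
    Matrix.SpecialLinearGroup.transvection h c = root i j c := by
  apply Subtype.ext
  rw [Matrix.SpecialLinearGroup.transvection_coe, root,
    show tv (Pi.single i 1) (Pi.single j c) = tvOf _ _ (root_ok h c) from dif_pos (root_ok h c)]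
  ext a b
  change _ = (1 + vecMulVec (Pi.single i 1) (Pi.single j c)) a b
  simp [Matrix.single_apply, vecMulVec_apply, Pi.single_apply, ite_and, eq_comm]
  split_ifs <;> rfl

omit [Fintype F] in
theorem sl_induction (hm : 2 ≤ m) (P : SpecialLinearGroup (Fin m) F → Prop)
    (h : ∀ i j, i ≠ j → ∀ c, P (root i j c)) (hmul : ∀ a b, P a → P b → P (a * b))
    (g : SpecialLinearGroup (Fin m) F) : P g := by
  haveI : Nontrivial (Fin m) := Fin.nontrivial_iff_two_le.2 hm
  exact Linear.transvection_induction P (fun i j hij c => by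
    rw [transvection_eq_root hij]; exact h i j hij c) hmul g

noncomputable local instance : Fintype (SpecialLinearGroup (Fin m) F) := Fintype.ofFinite _

/-- projection on the fixed points of the whole group -/
noncomputable def fixProj (R : SpecialLinearGroup (Fin m) F →* Matrix (Fin k) (Fin k) ℂ) :
    Matrix (Fin k) (Fin k) ℂ :=
  (Fintype.card (SpecialLinearGroup (Fin m) F) : ℂ)⁻¹ • ∑ g, R g

variable {R : SpecialLinearGroup (Fin m) F →* Matrix (Fin k) (Fin k) ℂ}

theorem mul_fixProj (g : SpecialLinearGroup (Fin m) F) : R g * fixProj R = fixProj R := by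
  rw [fixProj, Matrix.mul_smul, Finset.mul_sum]
  congr 1
  exact Fintype.sum_equiv (Equiv.mulLeft g) _ _ fun h => (map_mul R g h).symm

theorem fixProj_mul (g : SpecialLinearGroup (Fin m) F) : fixProj R * R g = fixProj R := by
  rw [fixProj, Matrix.smul_mul, Finset.sum_mul]
  congr 1
  exact Fintype.sum_equiv (Equiv.mulRight g) _ _ fun h => (map_mul R h g).symm

theorem fixProj_isPr (hR : IsU R) : IsPr (fixProj R) := by
  refine ⟨?_, ?_⟩
  · rw [fixProj, Matrix.conjTranspose_smul, Matrix.conjTranspose_sum, star_inv₀, Complex.star_def,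
      map_natCast]
    congr 1
    exact Fintype.sum_equiv (Equiv.inv _) _ _ fun g => hR g
  · conv_lhs => lhs; rw [fixProj]
    rw [Matrix.smul_mul, Finset.sum_mul]
    simp only [mul_fixProj]
    rw [Finset.sum_const, Finset.card_univ, ← Nat.cast_smul_eq_nsmul ℂ, smul_smul,
      inv_mul_cancel₀ (Nat.cast_ne_zero.2 Fintype.card_ne_zero), one_smul]

theorem fixProj_mulVec {v : Fin k → ℂ} (h : ∀ g, R g *ᵥ v = v) : fixProj R *ᵥ v = v := by
  rw [fixProj, Matrix.smul_mulVec, Matrix.sum_mulVec]
  simp only [h]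
  rw [Finset.sum_const, Finset.card_univ, ← Nat.cast_smul_eq_nsmul ℂ, smul_smul,
    inv_mul_cancel₀ (Nat.cast_ne_zero.2 Fintype.card_ne_zero), one_smul]

/-- cut off the invariants -/
noncomputable def Lev.noFix (L : Lev k F m) : Lev k F m where
  R := L.R
  E := L.E * (1 - fixProj L.R)
  hR := L.hR
  hE := L.hE.mul (fixProj_isPr L.hR).compl (by
    have h : L.E * fixProj L.R = fixProj L.R * L.E := by
      rw [fixProj, Matrix.mul_smul, Matrix.smul_mul, Finset.mul_sum, Finset.sum_mul]
      simp only [L.comm]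
    rw [Matrix.mul_sub, Matrix.sub_mul, Matrix.mul_one, Matrix.one_mul, h])
  comm g := by
    rw [Matrix.mul_assoc, Matrix.sub_mul, Matrix.one_mul, fixProj_mul, Matrix.mul_sub,
      L.comm, ← Matrix.mul_assoc, ← L.comm, Matrix.mul_assoc, Matrix.mul_sub, Matrix.mul_one,
      mul_fixProj, Matrix.mul_sub]

theorem Lev.Tame.noFix {L : Lev k F m} (hC : L.Tame) : L.noFix.Tame := by
  have h : ∀ g, (L.noFix.E * L.noFix.R g).trace =
      (L.E * L.R g).trace - (L.E * fixProj L.R).trace := fun g => by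
    change (L.E * (1 - fixProj L.R) * L.R g).trace = _
    rw [Matrix.mul_assoc, Matrix.sub_mul, Matrix.one_mul, fixProj_mul, Matrix.mul_sub,
      Matrix.trace_sub]
  have h1 : L.noFix.E.trace = L.E.trace - (L.E * fixProj L.R).trace := by
    simpa using h 1
  constructor
  · intro u φ hu hu0 hφ
    rw [h, h1, hC.one u φ hu hu0 hφ]; ring
  · intro u φ u' φ' a b c d e f
    rw [h, h1, hC.two u φ u' φ' a b c d e f]; ring

theorem Lev.noFix_eq_zero (L : Lev k F m) {v : Fin k → ℂ} (hv : L.noFix.E *ᵥ v = v)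
    (hfix : ∀ g, L.R g *ᵥ v = v) : v = 0 := by
  have hPr := fixProj_isPr L.hR
  obtain ⟨-, h⟩ := (fix_of_mul_fix L.hE hPr.compl (by
    have h : L.E * fixProj L.R = fixProj L.R * L.E := by
      rw [fixProj, Matrix.mul_smul, Matrix.smul_mul, Finset.mul_sum, Finset.sum_mul]
      simp only [L.comm]
    rw [Matrix.mul_sub, Matrix.sub_mul, Matrix.mul_one, Matrix.one_mul, h]) v).1 hv
  rw [Matrix.sub_mulVec, Matrix.one_mulVec, fixProj_mulVec hfix, sub_self] at h
  exact h.symm

theorem Lev.trace_ofReal {n : ℕ} (L : Lev k F n) :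
    ∃ d : ℕ, L.E.trace = (d : ℂ) ∧ L.E.trace.re = d := by
  obtain ⟨d, hd, -⟩ := L.hE.trace_nat
  exact ⟨d, hd, by rw [hd, Complex.natCast_re]⟩

theorem Lev.sub_re {L : Lev k F (m + 1)} (hC : L.Tame) :
    L.sub.E.trace.re = L.E.trace.re - (Fintype.card F : ℝ) ^ m + 1 := by
  rw [L.sub_trace hC, ← Complex.ofReal_natCast, ← Complex.ofReal_pow, Complex.add_re, Complex.sub_re,
    Complex.ofReal_re, Complex.one_re]

/-- in dimension three the vectors fixed by the radicals are present -/
theorem Lev.Tame.one_le_three {L : Lev k F 3} (hC : L.Tame) : L.sub.sub.E.trace.re ≠ 0 := by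
  intro hg
  have hβ := L.angle_le (m := 0)
  have hfr := L.frame_le (m := 0)
  rw [hg] at hβ
  have h1 : L.sub.sub.E.trace.re = L.sub.E.trace.re - (Fintype.card F : ℝ) ^ 1 + 1 :=
    Lev.sub_re (hC.sub (le_refl 2))
  have h2 := Lev.sub_re hC
  have hq : (2 : ℝ) ≤ Fintype.card F := by exact_mod_cast Fintype.one_lt_card
  rw [hg, pow_one] at h1
  set q := (Fintype.card F : ℝ)
  set f := L.sub.E.trace.re
  set w := L.E.trace.re
  have hf : f = q - 1 := by linarith
  have hw : w = q ^ 2 + q - 2 := by linarith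
  rw [hf, hw] at hfr
  have hc : (q ^ (0 + 3) - 1 - (q - 1)) * L.angle ≤ 0 :=
    mul_nonpos_of_nonneg_of_nonpos (by norm_num; nlinarith) hβ
  have hw0 : 0 ≤ q ^ 2 + q - 2 := by nlinarith
  have h3 := mul_le_mul_of_nonneg_left hc hw0
  norm_num at hfr h3
  have hpos : 0 < (q - 1) ^ 2 * (q ^ 3 - 1 - (q ^ 2 + q - 2)) := by
    refine mul_pos (by nlinarith) ?_
    nlinarith [mul_nonneg (sub_nonneg.2 hq) (sq_nonneg q)]
  nlinarith

theorem Lev.AllFixed.fixed_three {L : Lev k F 3} (H : Lev.AllFixed (m := 0) L) {v : Fin k → ℂ}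
    (hv : Lev.Fl2 (m := 0) L v) (g : SpecialLinearGroup (Fin 3) F) : L.R g *ᵥ v = v := by
  obtain ⟨h01, h12, h02⟩ := fin3_ne 0
  have hall : ∀ l : Fin 3, l = 0 ∨ l = 1 ∨ l = 2 := by decide
  have r01 := hv.2.2
  have r10 := H v hv
  have r02 : RFix L.R 0 2 v := fun a =>
    hv.2.1 _ _ ⟨by simp, by simp, fun l hl _ => Pi.single_eq_of_ne hl 1⟩ (root_ok h02 a)
  have r12 : RFix L.R 1 2 v := fun a =>
    hv.2.1 _ _ ⟨by simp, by simp, fun l _ hl => Pi.single_eq_of_ne hl 1⟩ (root_ok h12 a)
  have hv3 : Lev.Fl3 (m := 0) L v := by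
    refine ⟨hv.1, fun u φ hQ hφu => ?_, r12⟩
    rcases hQ with ⟨rfl, a0⟩ | ⟨a0, a1, a2, -⟩
    · have e : φ = Pi.single 1 (φ 1) + Pi.single 2 (φ 2) := by
        funext l
        rcases hall l with rfl | rfl | rfl <;> simp [a0]
      rw [e, tv_add _ _ _ (root_ok h01 _) (root_ok h02 _), map_mulVec_mul]
      exact (congrArg (_ *ᵥ ·) (r02 _)).trans (r01 _)
    · have e : φ = 0 := by
        funext l
        rcases hall l with rfl | rfl | rfl <;> assumption
      rw [e, tv_zero, map_one, Matrix.one_mulVec]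
  have r21 := H.step hv3
  have hs := wE_fix (i := (1 : Fin 3)) (j := 2) r12 r21 1
  have r20 : RFix L.R 2 0 v := fun a => by
    have hmat : sE 1 2 * root 1 0 (-a) = root (2 : Fin 3) 0 a * sE 1 2 := by
      apply sl_ext
      intro x
      funext l
      simp only [sl_mul_mulVec]
      rcases hall l with rfl | rfl | rfl <;>
        simp [-Matrix.mulVec_mulVec, root_mulVec h01.symm, root_mulVec h02.symm,
          sE_mulVec h12]
      try ring
    conv_lhs => rw [← hs]
    rw [← map_mulVec_mul, show wE (1 : Fin 3) 2 (1 : F) = sE 1 2 from rfl, ← hmat, map_mulVec_mul,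
      r10]
    exact hs
  refine sl_induction (by norm_num) (fun g => L.R g *ᵥ v = v) (fun i j hij c => ?_)
    (fun a b ha hb => by rw [map_mulVec_mul, hb, ha]) g
  rcases hall i with rfl | rfl | rfl <;> rcases hall j with rfl | rfl | rfl
  exacts [absurd rfl hij, r01 c, r02 c, r10 c, absurd rfl hij, r12 c, r20 c, r21 c, absurd rfl hij]

theorem Lev.Tame.not_allFixed : ∀ {m : ℕ} {L : Lev k F (m + 3)}, L.Tame → ¬ L.AllFixed
  | 0, L, hC, H => by
    apply Lev.Tame.one_le_three hC.noFix
    have h0 : (Lev.noFix L).sub.sub.E = 0 := by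
      refine Matrix.ext_of_mulVec_single fun i => ?_
      rw [Matrix.zero_mulVec]
      set v := (Lev.noFix L).sub.sub.E *ᵥ Pi.single i 1 with hvdef
      have hfix : (Lev.noFix L).sub.sub.E *ᵥ v = v := by
        rw [hvdef, Matrix.mulVec_mulVec, (Lev.noFix L).sub.sub.hE.2]
      have hv := ((Lev.noFix L).fl2_iff (m := 0) v).2 hfix
      refine Lev.noFix_eq_zero L hv.1 (Lev.AllFixed.fixed_three H ⟨?_, hv.2.1, hv.2.2⟩)
      have hPr := fixProj_isPr L.hR
      rw [← hv.1]
      change L.E *ᵥ (L.E * (1 - fixProj L.R)) *ᵥ v = (L.E * (1 - fixProj L.R)) *ᵥ v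
      rw [Matrix.mulVec_mulVec, ← Matrix.mul_assoc, L.hE.2]
    rw [h0]
    simp
  | m + 1, L, hC, H => Lev.Tame.not_allFixed (hC.sub (by omega)) H.sub

/-- the lower bound -/
theorem Lev.Tame.bound : ∀ {m : ℕ} {L : Lev k F (m + 3)}, L.Tame →
    (Fintype.card F : ℝ) ^ (m + 3) - 1 ≤ ((Fintype.card F : ℝ) - 1) * (L.E.trace.re + 1)
  | m, L, hC => by
    have hf' : (Fintype.card F : ℝ) ^ (m + 2) - 1 ≤
        ((Fintype.card F : ℝ) - 1) * (L.sub.E.trace.re + 1) := by
      cases m with
      | zero =>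
        obtain ⟨g, -, hg⟩ := L.sub.sub.trace_ofReal
        have hg0 := Lev.Tame.one_le_three hC
        have h1 : L.sub.sub.E.trace.re = L.sub.E.trace.re - (Fintype.card F : ℝ) ^ 1 + 1 :=
          Lev.sub_re (hC.sub (le_refl 2))
        have hg1 : (1 : ℝ) ≤ L.sub.sub.E.trace.re := by
          rw [hg] at hg0 ⊢
          rcases Nat.eq_zero_or_pos g with rfl | h
          · exact absurd Nat.cast_zero hg0
          · exact_mod_cast h
        have hq : (1 : ℝ) ≤ Fintype.card F := by exact_mod_cast Fintype.card_pos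
        rw [pow_one] at h1
        have hm0 := mul_nonneg (sub_nonneg.2 hq) (show 0 ≤ L.sub.E.trace.re - Fintype.card F by linarith)
        norm_num
        nlinarith
      | succ m => exact Lev.Tame.bound (hC.sub (by omega))
    set q := (Fintype.card F : ℝ) with hqdef
    have hq : 2 ≤ q := by rw [hqdef]; exact_mod_cast Fintype.one_lt_card
    obtain ⟨df, -, hdf⟩ := L.sub.trace_ofReal
    have h2 : L.sub.E.trace.re = L.E.trace.re - q ^ (m + 2) + 1 := Lev.sub_re hC
    by_contra hlt
    rw [not_le] at hlt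
    have hflt : (q - 1) * L.sub.E.trace.re < q ^ (m + 2) - 1 := by
      rw [h2]
      have : q ^ (m + 3) = q * q ^ (m + 2) := pow_succ' _ _
      nlinarith
    -- integrality
    set S : ℕ := ∑ i ∈ Finset.range (m + 2), Fintype.card F ^ i
    have hS : (q - 1) * (S : ℝ) = q ^ (m + 2) - 1 := by
      rw [mul_comm]
      push_cast [S]
      exact geom_sum_mul q (m + 2)
    have hfeq : (q - 1) * (L.sub.E.trace.re + 1) = q ^ (m + 2) - 1 := by
      have e1 : (df : ℝ) < S := by
        rw [hdf, ← hS] at hflt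
        exact lt_of_mul_lt_mul_left hflt (by linarith)
      have e2 : (S : ℝ) ≤ (df : ℝ) + 1 := by
        rw [hdf, ← hS] at hf'
        exact le_of_mul_le_mul_left hf' (by linarith)
      have e3 : S = df + 1 := by
        have a : df < S := by exact_mod_cast e1
        have b : S ≤ df + 1 := by exact_mod_cast e2
        omega
      rw [hdf, ← hS, e3]
      push_cast
      ring
    have hg := Lev.sub_re (hC.sub (show 2 ≤ m + 2 by omega))
    have hβ := L.angle_le_sub hC.not_allFixed
    have hfr := L.frame_le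
    rw [hg, ← hqdef] at hβ
    rw [← hqdef] at hfr
    set f := L.sub.E.trace.re
    set w := L.E.trace.re
    set β := L.angle
    set p := q ^ (m + 1) with hpdef
    have e2 : q ^ (m + 2) = q * p := pow_succ' _ _
    have e3 : q ^ (m + 3) = q * (q * p) := by rw [← e2]; exact pow_succ' _ _
    rw [e2] at h2 hfeq
    rw [e3] at hfr
    have hp : q ≤ p := le_self_pow₀ (by linarith) (by omega)
    -- `M` is the number of points two dimensions down
    set M := f - p + 1 with hMdef
    have hpM : p = (q - 1) * M + 1 := by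
      rw [hMdef]; nlinarith
    have hfM : f = q * M := by
      have : f = M + p - 1 := by rw [hMdef]; ring
      rw [this, hpM]; ring
    have hMpos : 0 < M := by
      by_contra hc
      have : (q - 1) * M ≤ 0 := mul_nonpos_of_nonneg_of_nonpos (by linarith) (not_lt.1 hc)
      linarith
    set Y := q ^ 2 * M with hY
    have hwY : w = Y + q - 1 := by
      rw [hY]; have : w = f + q * p - 1 := by linarith
      rw [this, hfM, hpM]; ring
    have hX : q * (q * p) - 1 = (q - 1) * (Y + q + 1) := by rw [hY, hpM]; ring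
    have hXc : q * (q * p) - 1 - (q - 1) = (q - 1) * (Y + q) := by rw [hX]; ring
    rw [hXc, hX, hfM, hwY, show (q - 1) * (Y + q + 1) * (q * M) ^ 2 =
      (q - 1) * ((Y + q + 1) * (Y * M)) by rw [hY]; ring, show (Y + q - 1) *
      ((q - 1) * (q * M) + (q - 1) * (Y + q) * β) =
      (q - 1) * ((Y + q - 1) * (q * M + (Y + q) * β)) by ring] at hfr
    have hfr' := le_of_mul_le_mul_left hfr (by linarith)
    set δ := 1 - 1 / q
    have hδ : δ * q = q - 1 := by
      simp only [δ]
      field_simp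
    have hβ' : β ≤ M - δ := by simp only [δ]; linarith
    have hY0 : 0 < Y := by rw [hY]; positivity
    have hmono : (Y + q - 1) * ((Y + q) * β) ≤ (Y + q - 1) * ((Y + q) * (M - δ)) :=
      mul_le_mul_of_nonneg_left (mul_le_mul_of_nonneg_left hβ' (by linarith)) (by linarith)
    have key : 0 ≤ (Y + q) * (2 * (q - 1) * M - δ * (Y + q - 1)) := by nlinarith
    have key2 := nonneg_of_mul_nonneg_right key (by linarith)
    have key3 : (2 * (q - 1) * M - δ * (Y + q - 1)) * q =
        (q - 1) * (2 * q * M - Y - q + 1) := by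
      rw [sub_mul, mul_right_comm δ, hδ]; ring
    have key4 : 2 * q * M - Y - q + 1 < 0 := by
      rw [hY]
      nlinarith [mul_nonneg (mul_nonneg (show 0 ≤ q by linarith) hMpos.le) (sub_nonneg.2 hq)]
    have := mul_neg_of_pos_of_neg (show 0 < q - 1 by linarith) key4
    have := mul_nonneg key2 (show 0 ≤ q by linarith)
    linarith

end Cfsg.Agent.MinDeg.SLMin
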