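import Cfsg.Agent.MinDeg.SLLevel

/-!
Vectors fixed by partial flag radicals: if every such vector of a level is fixed by the first
opposite root group, the same holds one step down.
-/

namespace Cfsg.Agent.MinDeg.SLMin

open Matrix

variable {k : ℕ} {F : Type*} [Field F] [Fintype F] {m : ℕ}
  {R : SpecialLinearGroup (Fin m) F →* Matrix (Fin k) (Fin k) ℂ} {i j : Fin m}

/-- fixed by a set of transvections -/
def FixQ (R : SpecialLinearGroup (Fin m) F →* Matrix (Fin k) (Fin k) ℂ)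
    (Q : (Fin m → F) → (Fin m → F) → Prop) (v : Fin k → ℂ) : Prop :=
  ∀ u φ, Q u φ → φ ⬝ᵥ u = 0 → R (tv u φ) *ᵥ v = v

/-- `g` normalises the set of transvections -/
def StabQ (Q : (Fin m → F) → (Fin m → F) → Prop) (g : SpecialLinearGroup (Fin m) F) : Prop :=
  ∀ u φ, Q u φ → Q ((g⁻¹).1 *ᵥ u) (φ ᵥ* g.1)

theorem map_mulVec_mul (R : SpecialLinearGroup (Fin m) F →* Matrix (Fin k) (Fin k) ℂ)
    (g h : SpecialLinearGroup (Fin m) F) (v : Fin k → ℂ) : R (g * h) *ᵥ v = R g *ᵥ R h *ᵥ v := by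
  rw [map_mul, Matrix.mulVec_mulVec]

theorem FixQ.map {Q : (Fin m → F) → (Fin m → F) → Prop} {v : Fin k → ℂ} (hv : FixQ R Q v)
    {g : SpecialLinearGroup (Fin m) F} (hg : StabQ Q g) : FixQ R Q (R g *ᵥ v) := by
  intro u φ hQ h
  have h' : (φ ᵥ* g.1) ⬝ᵥ ((g⁻¹).1 *ᵥ u) = 0 := by
    rw [← Matrix.dotProduct_mulVec, ← sl_mul_mulVec, mul_inv_cancel, sl_one_mulVec, h]
  have e := tv_conj g ((g⁻¹).1 *ᵥ u) (φ ᵥ* g.1) h'
  rw [← sl_mul_mulVec, mul_inv_cancel, sl_one_mulVec, Matrix.vecMul_vecMul,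
    show g.1 * (g⁻¹).1 = (g * g⁻¹).1 from rfl, mul_inv_cancel] at e
  rw [show (1 : SpecialLinearGroup (Fin m) F).1 = 1 from rfl, Matrix.vecMul_one] at e
  rw [← map_mulVec_mul, ← e, map_mulVec_mul, hv _ _ (hg u φ hQ) h']

omit [Fintype F] in
theorem StabQ.mul {Q : (Fin m → F) → (Fin m → F) → Prop} {g h : SpecialLinearGroup (Fin m) F}
    (hg : StabQ Q g) (hh : StabQ Q h) : StabQ Q (g * h) := by
  intro u φ hQ
  have := hh _ _ (hg u φ hQ)
  rwa [← sl_mul_mulVec, Matrix.vecMul_vecMul, ← _root_.mul_inv_rev] at this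

omit [Fintype F] in
theorem root_inv (hij : i ≠ j) (a : F) : (root i j a)⁻¹ = root i j (-a) := by
  rw [root, tv_inv _ _ (root_ok hij a), root, Pi.single_neg]

omit [Fintype F] in
theorem root_zero (hij : i ≠ j) : root i j (0 : F) = 1 := by
  have h := root_add hij (0 : F) 0
  simpa using h

omit [Fintype F] in
theorem root_vecMul (hij : i ≠ j) (a : F) (φ : Fin m → F) (l : Fin m) :
    (φ ᵥ* (root i j a).1) l = if l = j then φ j + a * φ i else φ l := by
  have h : (φ ᵥ* (root i j a).1) l = φ ⬝ᵥ ((root i j a).1 *ᵥ Pi.single l 1) := by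
    rw [Matrix.dotProduct_mulVec, dotProduct_single, mul_one]
  rw [h, root, tv_mulVec (root_ok hij a), dotProduct_add, dotProduct_single, dotProduct_smul,
    dotProduct_single, dotProduct_single]
  by_cases hl : l = j
  · subst hl; simp
  · simp [hl, Ne.symm hl]

omit [Fintype F] in
theorem root_mul_sE (hij : i ≠ j) (a : F) : root i j a * sE i j = sE i j * root j i (-a) := by
  apply sl_ext
  intro x
  funext l
  simp only [sl_mul_mulVec]
  by_cases hi : l = i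
  · subst hi
    simp [-Matrix.mulVec_mulVec, root_mulVec hij, root_mulVec hij.symm, sE_mulVec hij, hij.symm]
  · by_cases hj : l = j
    · subst hj
      simp [-Matrix.mulVec_mulVec, root_mulVec hij, root_mulVec hij.symm, sE_mulVec hij, hij, hij.symm]
      try ring
    · simp [-Matrix.mulVec_mulVec, root_mulVec hij, root_mulVec hij.symm, sE_mulVec hij, hi, hj]

omit [Fintype F] in
theorem hE_one (hij : i ≠ j) : hE i j (1 : F) = 1 := by
  apply sl_ext
  intro x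
  funext l
  rw [hE_mulVec hij one_ne_zero, sl_one_mulVec]
  split_ifs with h1 h2 <;> simp_all

omit [Fintype F] in
theorem hE_inv (hij : i ≠ j) {c : F} (hc : c ≠ 0) : (hE i j c)⁻¹ = hE i j c⁻¹ :=
  inv_eq_of_mul_eq_one_right (by rw [hE_mul hij hc (inv_ne_zero hc), mul_inv_cancel₀ hc, hE_one hij])

/-- fixed by the root group -/
def RFix (R : SpecialLinearGroup (Fin m) F →* Matrix (Fin k) (Fin k) ℂ) (i j : Fin m)
    (v : Fin k → ℂ) : Prop :=
  ∀ a, R (root i j a) *ᵥ v = v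

/-- fixed by the torus -/
def HFix (R : SpecialLinearGroup (Fin m) F →* Matrix (Fin k) (Fin k) ℂ) (i j : Fin m)
    (v : Fin k → ℂ) : Prop :=
  ∀ c : F, c ≠ 0 → R (hE i j c) *ᵥ v = v

theorem wE_fix {v : Fin k → ℂ} (h : RFix R i j v) (h' : RFix R j i v) (b : F) :
    R (wE i j b) *ᵥ v = v := by
  rw [wE, map_mulVec_mul, map_mulVec_mul, h, h', h]

theorem hE_fix {v : Fin k → ℂ} (h : RFix R i j v) (h' : RFix R j i v) : HFix R i j v := fun c _ => by
  rw [hE, map_mulVec_mul, wE_fix h h', wE_fix h h']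

theorem rfix_opp_of_sE {v : Fin k → ℂ} (hij : i ≠ j) (h : RFix R i j v)
    (hs : R (sE i j) *ᵥ v = v) : RFix R j i v := fun a => by
  conv_lhs => rw [← hs, ← map_mulVec_mul, ← neg_neg a, ← sE_mul_root hij, map_mulVec_mul, h, hs]

theorem dot_fix (hR : IsU R) (g : SpecialLinearGroup (Fin m) F) {v : Fin k → ℂ}
    (hv : R g *ᵥ v = v) (z : Fin k → ℂ) : star v ⬝ᵥ R g *ᵥ z = star v ⬝ᵥ z := by
  conv_lhs => rw [← hv, hR.dot, ← map_mulVec_mul, inv_mul_cancel, map_one, Matrix.one_mulVec]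

/-- torus sum -/
noncomputable def torusSum (R : SpecialLinearGroup (Fin m) F →* Matrix (Fin k) (Fin k) ℂ)
    (i j : Fin m) (v : Fin k → ℂ) : Fin k → ℂ :=
  letI := Classical.decEq F
  ∑ c : Fˣ, R (hE i j (c : F)) *ᵥ v

theorem hE_torusSum (hij : i ≠ j) (v : Fin k → ℂ) : HFix R i j (torusSum R i j v) := by
  intro d hd
  classical
  rw [torusSum, Matrix.mulVec_sum]
  refine Fintype.sum_equiv (Equiv.mulLeft (Units.mk0 d hd)) _ _ fun c => ?_
  rw [← map_mulVec_mul, hE_mul hij hd (Units.ne_zero c)]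
  rfl

theorem sum_units_eq (f : F → ℂ) [DecidableEq F] :
    ∑ a, f a = f 0 + ∑ c : Fˣ, f (c : F) := by
  rw [← Finset.add_sum_erase _ f (Finset.mem_univ 0)]
  congr 1
  rw [← Finset.sum_subtype (Finset.univ.erase (0 : F)) (p := fun a => a ≠ 0) (by simp) f |>.symm]
  exact (Fintype.sum_equiv unitsEquivNeZero _ _ fun c => rfl).symm

/-- weight vectors of the opposite root group -/
theorem torus_dot (hR : IsU R) (hij : i ≠ j) {w : Fin k → ℂ} (hx : RFix R i j w)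
    (hw : torusSum R i j w = 0) :
    ∑ a, star w ⬝ᵥ R (root j i a) *ᵥ w = star w ⬝ᵥ w := by
  classical
  rw [sum_units_eq, root_zero hij.symm, map_one, Matrix.one_mulVec, add_eq_left]
  have hterm : ∀ c : Fˣ, star w ⬝ᵥ R (root j i (c : F)) *ᵥ w =
      star (R (hE i j ((-c : Fˣ) : F)) *ᵥ w) ⬝ᵥ R (sE i j) *ᵥ w := by
    intro c
    have hc := Units.ne_zero c
    rw [root_opp hij hc, map_mulVec_mul, map_mulVec_mul, hx, dot_fix hR _ (hx _), map_mulVec_mul,
      hR.dot, hE_inv hij (Units.ne_zero (-c))]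
    congr 3
    rw [Units.val_neg, ← neg_inv]
  simp only [hterm, ← sum_dotProduct, ← star_sum]
  have : ∑ c : Fˣ, R (hE i j ((-c : Fˣ) : F)) *ᵥ w = torusSum R i j w :=
    Fintype.sum_equiv (Equiv.neg _) _ _ fun c => rfl
  rw [this, hw, star_zero, zero_dotProduct]

/-- the symmetrised vector -/
noncomputable def uSum (R : SpecialLinearGroup (Fin m) F →* Matrix (Fin k) (Fin k) ℂ)
    (i j : Fin m) (v : Fin k → ℂ) : Fin k → ℂ :=
  v + ∑ a, R (root i j a * sE i j) *ᵥ v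

/-- its complement -/
noncomputable def uCompl (R : SpecialLinearGroup (Fin m) F →* Matrix (Fin k) (Fin k) ℂ)
    (i j : Fin m) (v : Fin k → ℂ) : Fin k → ℂ :=
  ((Fintype.card F : ℂ) + 1) • v - uSum R i j v

variable {v : Fin k → ℂ}

theorem rfix_xsum (hij : i ≠ j) (g : SpecialLinearGroup (Fin m) F) (v : Fin k → ℂ) :
    RFix R i j (∑ a, R (root i j a * g) *ᵥ v) := fun b => by
  rw [Matrix.mulVec_sum]
  refine Fintype.sum_equiv (Equiv.addLeft b) _ _ fun a => ?_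
  rw [← map_mulVec_mul, ← mul_assoc, ← root_add hij]
  rfl

theorem uSum_rfix (hij : i ≠ j) (hx : RFix R i j v) : RFix R i j (uSum R i j v) := fun b => by
  rw [uSum, Matrix.mulVec_add, hx, rfix_xsum hij]

theorem uSum_sE (hij : i ≠ j) (hx : RFix R i j v) (hh : HFix R i j v) :
    R (sE i j) *ᵥ uSum R i j v = uSum R i j v := by
  classical
  set f : F → Fin k → ℂ := fun a => R (root i j a * sE i j) *ᵥ v with hf
  have h0 : R (sE i j) *ᵥ f 0 = v := by
    simp only [hf]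
    rw [root_zero hij, one_mul, ← map_mulVec_mul, sE_mul_sE hij,
      hh _ (neg_ne_zero.2 one_ne_zero)]
  have hne : ∀ a : F, a ≠ 0 → R (sE i j) *ᵥ f a = f (-a⁻¹) := by
    intro a ha
    have hna := neg_ne_zero.2 ha
    simp only [hf]
    rw [← map_mulVec_mul, ← mul_assoc, sE_mul_root hij, mul_assoc, sE_mul_sE hij, map_mulVec_mul,
      hh _ (neg_ne_zero.2 one_ne_zero), root_opp hij hna, map_mulVec_mul, map_mulVec_mul, hx,
      hE_mul_sE hij (neg_ne_zero.2 (inv_ne_zero hna)), map_mulVec_mul,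
      hh _ (inv_ne_zero (neg_ne_zero.2 (inv_ne_zero hna))), ← map_mulVec_mul, inv_neg]
  have hf0 : R (sE i j) *ᵥ v = f 0 := by simp only [hf]; rw [root_zero hij, one_mul]
  rw [uSum, Matrix.mulVec_add, Matrix.mulVec_sum, hf0]
  rw [← Finset.add_sum_erase _ (fun a => R (sE i j) *ᵥ f a) (Finset.mem_univ (0 : F)), h0,
    ← Finset.add_sum_erase _ f (Finset.mem_univ (0 : F))]
  have : ∑ a ∈ Finset.univ.erase (0 : F), R (sE i j) *ᵥ f a = ∑ a ∈ Finset.univ.erase (0 : F), f a :=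
    Finset.sum_nbij' (fun a => -a⁻¹) (fun a => -a⁻¹) (fun a ha => by simpa using ha)
      (fun a ha => by simpa using ha) (fun a _ => by simp [inv_neg])
      (fun a _ => by simp [inv_neg]) fun a ha => hne a (Finset.ne_of_mem_erase ha)
  rw [this]
  abel

theorem uSum_opp (hij : i ≠ j) (hx : RFix R i j v) (hh : HFix R i j v) :
    RFix R j i (uSum R i j v) :=
  rfix_opp_of_sE hij (uSum_rfix hij hx) (uSum_sE hij hx hh)

theorem uCompl_rfix (hij : i ≠ j) (hx : RFix R i j v) : RFix R i j (uCompl R i j v) := fun a => by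
  rw [uCompl, Matrix.mulVec_sub, Matrix.mulVec_smul, hx, uSum_rfix hij hx]

theorem uCompl_hfix (hij : i ≠ j) (hx : RFix R i j v) (hh : HFix R i j v) :
    HFix R i j (uCompl R i j v) := fun c hc => by
  rw [uCompl, Matrix.mulVec_sub, Matrix.mulVec_smul, hh c hc,
    hE_fix (uSum_rfix hij hx) (uSum_opp hij hx hh) c hc]

theorem uCompl_sum (hij : i ≠ j) (hx : RFix R i j v) (hh : HFix R i j v) :
    ∑ a, R (root i j a * sE i j) *ᵥ uCompl R i j v = -uCompl R i j v := by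
  have hu : ∀ a, R (root i j a * sE i j) *ᵥ uSum R i j v = uSum R i j v := fun a => by
    rw [map_mulVec_mul, uSum_sE hij hx hh, uSum_rfix hij hx]
  simp only [uCompl, Matrix.mulVec_sub, Matrix.mulVec_smul, hu, Finset.sum_sub_distrib,
    ← Finset.smul_sum, Finset.sum_const, Finset.card_univ, ← Nat.cast_smul_eq_nsmul ℂ]
  have : ∑ a, R (root i j a * sE i j) *ᵥ v = uSum R i j v - v := by rw [uSum, add_sub_cancel_left]
  rw [this]
  module

theorem uCompl_dot_sE (hR : IsU R) (hij : i ≠ j) (hx : RFix R i j v) (hh : HFix R i j v) :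
    (Fintype.card F : ℂ) * (star (uCompl R i j v) ⬝ᵥ R (sE i j) *ᵥ uCompl R i j v) =
      -(star (uCompl R i j v) ⬝ᵥ uCompl R i j v) := by
  have h := congrArg (star (uCompl R i j v) ⬝ᵥ ·) (uCompl_sum hij hx hh)
  simp only [dotProduct_sum, map_mulVec_mul, dot_fix hR _ (uCompl_rfix hij hx _), Finset.sum_const,
    Finset.card_univ, nsmul_eq_mul, dotProduct_neg] at h
  exact h

theorem uCompl_dot_opp (hR : IsU R) (hij : i ≠ j) (hx : RFix R i j v) (hh : HFix R i j v) :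
    (Fintype.card F : ℂ) * ∑ a, star (uCompl R i j v) ⬝ᵥ R (root j i a) *ᵥ uCompl R i j v =
      star (uCompl R i j v) ⬝ᵥ uCompl R i j v := by
  classical
  set z := uCompl R i j v with hz
  have hterm : ∀ c : Fˣ, star z ⬝ᵥ R (root j i (c : F)) *ᵥ z = star z ⬝ᵥ R (sE i j) *ᵥ z := by
    intro c
    rw [root_opp hij (Units.ne_zero c), map_mulVec_mul, map_mulVec_mul, uCompl_rfix hij hx,
      dot_fix hR _ (uCompl_rfix hij hx _), map_mulVec_mul,
      dot_fix hR _ (uCompl_hfix hij hx hh _ (neg_ne_zero.2 (inv_ne_zero (Units.ne_zero c))))]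
  rw [sum_units_eq, root_zero hij.symm, map_one, Matrix.one_mulVec]
  simp only [hterm, Finset.sum_const, Finset.card_univ, Fintype.card_units, nsmul_eq_mul]
  rw [mul_add, ← mul_assoc, mul_comm _ ((Fintype.card F - 1 : ℕ) : ℂ), mul_assoc,
    uCompl_dot_sE hR hij hx hh, Nat.cast_sub Fintype.card_pos, Nat.cast_one]
  ring

theorem eq_zero_of_dot {z : Fin k → ℂ} (h : star z ⬝ᵥ z = 0) : z = 0 := by
  by_contra hne
  obtain ⟨s, hs, he⟩ := star_dot_self_pos hne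
  rw [h] at he
  exact hs.ne' (by exact_mod_cast he.symm)

/-! ### the two flags -/

theorem fin3_ne (m : ℕ) : (0 : Fin (m + 3)) ≠ 1 ∧ (1 : Fin (m + 3)) ≠ 2 ∧ (0 : Fin (m + 3)) ≠ 2 := by
  simp [Fin.ext_iff, Nat.mod_eq_of_lt (show 2 < m + 3 by omega)]

/-- first two radicals, modulo the root group `0 1` -/
def Q01 (u φ : Fin (m + 3) → F) : Prop :=
  φ 0 = 0 ∧ φ 1 = 0 ∧ ∀ l, l ≠ 0 → l ≠ 1 → u l = 0

/-- first three radicals, modulo the root group `1 2` -/
def Q12 (u φ : Fin (m + 3) → F) : Prop :=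
  (u = Pi.single 0 1 ∧ φ 0 = 0) ∨ φ 0 = 0 ∧ φ 1 = 0 ∧ φ 2 = 0 ∧ ∀ l, l ≠ 1 → l ≠ 2 → u l = 0

omit [Fintype F] in
theorem stab01 (a : F) : StabQ (Q01 (m := m)) (root 0 1 a) ∧ StabQ (Q01 (m := m)) (root 1 0 a) := by
  have h : (0 : Fin (m + 3)) ≠ 1 := by simp [Fin.ext_iff]
  constructor <;> rintro u φ ⟨h0, h1, hu⟩ <;> refine ⟨?_, ?_, fun l hl hl' => ?_⟩
  · rw [root_vecMul h, if_neg h, h0]
  · rw [root_vecMul h, if_pos rfl, h0, h1, mul_zero, add_zero]
  · rw [root_inv h, root_mulVec h, if_neg hl, hu l hl hl']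
  · rw [root_vecMul h.symm, if_pos rfl, h0, h1, mul_zero, add_zero]
  · rw [root_vecMul h.symm, if_neg h.symm, h1]
  · rw [root_inv h.symm, root_mulVec h.symm, if_neg hl', hu l hl hl']

omit [Fintype F] in
theorem stab12 (a : F) : StabQ (Q12 (m := m)) (root 1 2 a) ∧ StabQ (Q12 (m := m)) (root 2 1 a) := by
  have h : (1 : Fin (m + 3)) ≠ 2 := (fin3_ne m).2.1
  have h01 : (0 : Fin (m + 3)) ≠ 1 := by simp [Fin.ext_iff]
  have h02 : (0 : Fin (m + 3)) ≠ 2 := (fin3_ne m).2.2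
  have key : ∀ i j : Fin (m + 3), (i = 1 ∧ j = 2 ∨ i = 2 ∧ j = 1) →
      StabQ (Q12 (m := m)) (root i j a) := by
    intro i j hh
    have hij : i ≠ j := by rcases hh with ⟨rfl, rfl⟩ | ⟨rfl, rfl⟩ <;> [exact h; exact h.symm]
    have hi0 : (0 : Fin (m + 3)) ≠ i := by rcases hh with ⟨rfl, -⟩ | ⟨rfl, -⟩ <;> assumption
    have hj0 : (0 : Fin (m + 3)) ≠ j := by rcases hh with ⟨-, rfl⟩ | ⟨-, rfl⟩ <;> assumption
    rintro u φ (⟨rfl, h0⟩ | ⟨h0, h1, h2, hu⟩)
    · left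
      refine ⟨funext fun l => ?_, by rw [root_vecMul hij, if_neg hj0, h0]⟩
      rw [root_inv hij, root_mulVec hij, Pi.single_eq_of_ne hi0.symm, Pi.single_eq_of_ne hj0.symm]
      split_ifs with hl
      · rw [hl, Pi.single_eq_of_ne hi0.symm]; simp
      · rfl
    · right
      have hφi : φ i = 0 := by rcases hh with ⟨rfl, -⟩ | ⟨rfl, -⟩ <;> assumption
      have hφj : φ j = 0 := by rcases hh with ⟨-, rfl⟩ | ⟨-, rfl⟩ <;> assumption
      have hv : ∀ l, (φ ᵥ* (root i j a).1) l = φ l := fun l => by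
        rw [root_vecMul hij]
        split_ifs with hl
        · rw [hl, hφi, mul_zero, add_zero]
        · rfl
      refine ⟨by rw [hv, h0], by rw [hv, h1], by rw [hv, h2], fun l hl hl' => ?_⟩
      rw [root_inv hij, root_mulVec hij, if_neg (by rcases hh with ⟨rfl, -⟩ | ⟨rfl, -⟩ <;> assumption),
        hu l hl hl']
  exact ⟨key 1 2 (Or.inl ⟨rfl, rfl⟩), key 2 1 (Or.inr ⟨rfl, rfl⟩)⟩

omit [Fintype F] in
theorem stab_sE {Q : (Fin m → F) → (Fin m → F) → Prop}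
    (h : ∀ a, StabQ Q (root i j a) ∧ StabQ Q (root j i a)) : StabQ Q (sE i j) :=
  ((h _).1.mul (h _).2).mul (h _).1

omit [Fintype F] in
theorem stab_hE {Q : (Fin m → F) → (Fin m → F) → Prop}
    (h : ∀ a, StabQ Q (root i j a) ∧ StabQ Q (root j i a)) (c : F) : StabQ Q (hE i j c) :=
  (((h _).1.mul (h _).2).mul (h _).1).mul (((h _).1.mul (h _).2).mul (h _).1)

theorem FixQ.add {Q : (Fin m → F) → (Fin m → F) → Prop} {v w : Fin k → ℂ} (hv : FixQ R Q v)
    (hw : FixQ R Q w) : FixQ R Q (v + w) := fun u φ h h' => by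
  rw [Matrix.mulVec_add, hv u φ h h', hw u φ h h']

theorem FixQ.sub {Q : (Fin m → F) → (Fin m → F) → Prop} {v w : Fin k → ℂ} (hv : FixQ R Q v)
    (hw : FixQ R Q w) : FixQ R Q (v - w) := fun u φ h h' => by
  rw [Matrix.mulVec_sub, hv u φ h h', hw u φ h h']

theorem FixQ.smul {Q : (Fin m → F) → (Fin m → F) → Prop} {v : Fin k → ℂ} (hv : FixQ R Q v)
    (c : ℂ) : FixQ R Q (c • v) := fun u φ h h' => by
  rw [Matrix.mulVec_smul, hv u φ h h']

theorem FixQ.sum {ι : Type*} [Fintype ι] {Q : (Fin m → F) → (Fin m → F) → Prop}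
    {f : ι → Fin k → ℂ} (hv : ∀ x, FixQ R Q (f x)) : FixQ R Q (∑ x, f x) := fun u φ h h' => by
  rw [Matrix.mulVec_sum]
  exact Finset.sum_congr rfl fun x _ => hv x u φ h h'

variable (L : Lev k F (m + 3))

/-- fixed vectors of the first two radicals -/
def Lev.Fl2 (v : Fin k → ℂ) : Prop := L.E *ᵥ v = v ∧ FixQ L.R Q01 v ∧ RFix L.R 0 1 v

/-- fixed vectors of the first three radicals -/
def Lev.Fl3 (v : Fin k → ℂ) : Prop := L.E *ᵥ v = v ∧ FixQ L.R Q12 v ∧ RFix L.R 1 2 v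

/-- the assumption to be refuted -/
def Lev.AllFixed : Prop := ∀ v, L.Fl2 v → RFix L.R 1 0 v

variable {L}

theorem Lev.Fl3.fl2 {v : Fin k → ℂ} (hv : L.Fl3 v) : L.Fl2 v := by
  obtain ⟨hE, hQ, hx⟩ := hv
  have h02 : (2 : Fin (m + 3)) ≠ 0 := (fin3_ne m).2.2.symm
  have h12 : (2 : Fin (m + 3)) ≠ 1 := (fin3_ne m).2.1.symm
  have h01 : (0 : Fin (m + 3)) ≠ 1 := by simp [Fin.ext_iff]
  have d0 : ∀ φ : Fin (m + 3) → F, φ ⬝ᵥ Pi.single 0 1 = φ 0 := fun φ => by
    rw [dotProduct_single, mul_one]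
  have d1 : ∀ φ : Fin (m + 3) → F, φ ⬝ᵥ Pi.single 1 1 = φ 1 := fun φ => by
    rw [dotProduct_single, mul_one]
  refine ⟨hE, fun u φ ⟨h0, h1, hu⟩ _ => ?_, fun a => ?_⟩
  · have hu' : u = u 0 • Pi.single 0 1 + u 1 • Pi.single 1 1 := by
      funext l
      by_cases hl : l = 0
      · subst hl; simp [h01]
      · by_cases hl' : l = 1
        · subst hl'; simp [h01.symm]
        · simp [hl, hl', hu l hl hl']
    set φ' : Fin (m + 3) → F := φ - Pi.single 2 (φ 2) with hφ'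
    have a0 : φ' 0 = 0 := by simp [hφ', h0, h02.symm]
    have a1 : φ' 1 = 0 := by simp [hφ', h1, h12.symm]
    have a2 : φ' 2 = 0 := by simp [hφ']
    have e1 : ∀ c : F, L.R (tv (Pi.single 1 1) (c • φ)) *ᵥ v = v := by
      intro c
      have : c • φ = Pi.single 2 (c * φ 2) + c • φ' := by
        rw [hφ', smul_sub, ← Pi.single_smul, smul_eq_mul, add_sub_cancel]
      rw [this, tv_add _ _ _ (by rw [d1]; simp [h12.symm]) (by rw [d1]; simp [a1]), map_mulVec_mul,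
        hQ _ _ (Or.inr ⟨by simp [a0], by simp [a1], by simp [a2],
          fun l hl _ => Pi.single_eq_of_ne hl 1⟩) (by rw [d1]; simp [a1])]
      exact hx _
    rw [hu', tv_add_left _ _ _ (by rw [dotProduct_smul, d0, h0, smul_zero])
      (by rw [dotProduct_smul, d1, h1, smul_zero]), tv_smul, tv_smul, map_mulVec_mul, e1,
      hQ _ _ (Or.inl ⟨rfl, by simp [h0]⟩) (by rw [d0]; simp [h0])]
  · exact hQ _ _ (Or.inl ⟨rfl, by simp [h01]⟩) (root_ok h01 a)

variable (L)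

theorem Lev.E_mulVec (g : SpecialLinearGroup (Fin (m + 3)) F) {v : Fin k → ℂ}
    (hv : L.E *ᵥ v = v) : L.E *ᵥ L.R g *ᵥ v = L.R g *ᵥ v := by
  rw [Matrix.mulVec_mulVec, L.comm, ← Matrix.mulVec_mulVec, hv]

variable {L}

theorem Lev.Fl3.xsum {v : Fin k → ℂ} (hv : L.Fl3 v) :
    L.Fl3 (∑ a, L.R (root 1 2 a * sE 1 2) *ᵥ v) := by
  refine ⟨?_, FixQ.sum fun a => hv.2.1.map ((stab12 a).1.mul (stab_sE stab12)),
    rfix_xsum (fin3_ne m).2.1 _ v⟩
  rw [Matrix.mulVec_sum]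
  exact Finset.sum_congr rfl fun a _ => L.E_mulVec _ hv.1

theorem Lev.Fl3.torus {v : Fin k → ℂ} (hv : L.Fl3 v) : L.Fl3 (torusSum L.R 1 2 v) := by
  classical
  have h : (1 : Fin (m + 3)) ≠ 2 := (fin3_ne m).2.1
  refine ⟨?_, FixQ.sum fun c => hv.2.1.map (stab_hE stab12 _), fun b => ?_⟩
  · rw [torusSum, Matrix.mulVec_sum]
    exact Finset.sum_congr rfl fun c _ => L.E_mulVec _ hv.1
  · rw [torusSum, Matrix.mulVec_sum]
    refine Finset.sum_congr rfl fun c _ => ?_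
    have hc := Units.ne_zero c
    have e := hE_mul_root h hc (((c : F) * c)⁻¹ * b)
    rw [← mul_assoc, mul_inv_cancel₀ (mul_ne_zero hc hc), one_mul] at e
    rw [← map_mulVec_mul, ← e, map_mulVec_mul, hv.2.2]

theorem Lev.Fl3.smul {v : Fin k → ℂ} (hv : L.Fl3 v) (c : ℂ) : L.Fl3 (c • v) :=
  ⟨by rw [Matrix.mulVec_smul, hv.1], hv.2.1.smul c, fun a => by rw [Matrix.mulVec_smul, hv.2.2]⟩

theorem Lev.Fl3.sub {v w : Fin k → ℂ} (hv : L.Fl3 v) (hw : L.Fl3 w) : L.Fl3 (v - w) :=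
  ⟨by rw [Matrix.mulVec_sub, hv.1, hw.1], hv.2.1.sub hw.2.1,
    fun a => by rw [Matrix.mulVec_sub, hv.2.2, hw.2.2]⟩

theorem Lev.Fl3.add {v w : Fin k → ℂ} (hv : L.Fl3 v) (hw : L.Fl3 w) : L.Fl3 (v + w) :=
  ⟨by rw [Matrix.mulVec_add, hv.1, hw.1], hv.2.1.add hw.2.1,
    fun a => by rw [Matrix.mulVec_add, hv.2.2, hw.2.2]⟩

/-- if all `Fl2` vectors are fixed by the root group `1 0` then all `Fl3` vectors are fixed by
the root group `2 1` -/
theorem Lev.AllFixed.step (H : L.AllFixed) {v : Fin k → ℂ} (hv : L.Fl3 v) : RFix L.R 2 1 v := by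
  classical
  have h01 : (0 : Fin (m + 3)) ≠ 1 := by simp [Fin.ext_iff]
  have h12 : (1 : Fin (m + 3)) ≠ 2 := (fin3_ne m).2.1
  have h02 : (0 : Fin (m + 3)) ≠ 2 := (fin3_ne m).2.2
  have hR := L.hR
  have hH : ∀ {v}, L.Fl3 v → HFix L.R 0 1 v ∧ L.R (sE 0 1) *ᵥ v = v := fun hv =>
    ⟨hE_fix hv.fl2.2.2 (H _ hv.fl2), wE_fix hv.fl2.2.2 (H _ hv.fl2) 1⟩
  set U : ℂ := (Fintype.card Fˣ : ℂ)
  have hU : U ≠ 0 := Nat.cast_ne_zero.2 Fintype.card_ne_zero
  -- the torus-free part vanishes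
  set w := U • v - torusSum L.R 1 2 v with hwdef
  have hw : L.Fl3 w := (hv.smul U).sub hv.torus
  have hwS : torusSum L.R 1 2 w = 0 := by
    have hh := hE_torusSum (R := L.R) h12 v
    conv_lhs => rw [torusSum, hwdef]
    simp only [Matrix.mulVec_sub, Matrix.mulVec_smul, Finset.sum_sub_distrib, ← Finset.smul_sum]
    rw [Finset.sum_congr rfl fun c _ => hh _ (Units.ne_zero c), Finset.sum_const, Finset.card_univ,
      ← Nat.cast_smul_eq_nsmul ℂ]
    exact sub_self _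
  set y := ∑ a, L.R (root 1 2 a * sE 1 2) *ᵥ w with hydef
  have hy : y = 0 := by
    have hterm : ∀ c : Fˣ, y = ∑ a, L.R (root 1 2 a * sE 1 2) *ᵥ L.R (SLMin.hE 1 2 (c : F)) *ᵥ w := by
      intro c
      have hc := Units.ne_zero c
      conv_lhs => rw [hydef, ← (hH hw.xsum).1 _ hc, Matrix.mulVec_sum]
      refine Fintype.sum_equiv (Equiv.mulLeft₀ (c : F)⁻¹ (inv_ne_zero hc)) _ _ fun a => ?_
      rw [← map_mulVec_mul, ← mul_assoc, hE_mul_root_adj h01 h12 h02 hc, mul_assoc,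
        hE_mul_sE_adj h01 h12 h02 hc, hE_comm h01 h12 h02 hc hc, ← mul_assoc, ← mul_assoc,
        map_mulVec_mul, (hH hw).1 _ hc, map_mulVec_mul]
      rfl
    have hsum : U • y = 0 := by
      rw [show U • y = ∑ _c : Fˣ, y by rw [Finset.sum_const, Finset.card_univ, ← Nat.cast_smul_eq_nsmul ℂ],
        Finset.sum_congr rfl fun c _ => hterm c, Finset.sum_comm]
      simp only [← Matrix.mulVec_sum]
      change ∑ a, L.R (root 1 2 a * sE 1 2) *ᵥ torusSum L.R 1 2 w = 0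
      simp [hwS]
    exact (smul_eq_zero.1 hsum).resolve_left hU
  have hw0 : w = 0 := by
    apply eq_zero_of_dot
    have e : star (L.R (sE 1 2) *ᵥ w) ⬝ᵥ y = ∑ a, star w ⬝ᵥ L.R (root 2 1 a) *ᵥ w := by
      rw [hydef, dotProduct_sum]
      refine Fintype.sum_equiv (Equiv.neg F) _ _ fun a => ?_
      rw [root_mul_sE h12, hR.dot, ← map_mulVec_mul, ← mul_assoc, inv_mul_cancel, one_mul]
      rfl
    rw [← torus_dot hR h12 hw.2.2 hwS, ← e, hy, dotProduct_zero]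
  have hh : HFix L.R 1 2 v := by
    intro c hc
    have e : U • v = torusSum L.R 1 2 v := sub_eq_zero.1 hw0
    have h := hE_torusSum (R := L.R) h12 v c hc
    rw [← e, Matrix.mulVec_smul] at h
    exact smul_right_injective (Fin k → ℂ) hU h
  -- the non-invariant part vanishes
  set z := uCompl L.R 1 2 v with hzdef
  have hx := hv.2.2
  have hu : L.Fl3 (uSum L.R 1 2 v) := hv.add hv.xsum
  have hz : L.Fl3 z := (hv.smul _).sub hu
  set σ : SpecialLinearGroup (Fin (m + 3)) F := sE 0 1 * sE 1 2 with hσ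
  have hσx : RFix L.R 1 2 (L.R σ *ᵥ z) := fun a => by
    rw [← map_mulVec_mul, hσ, ← sigma_mul_root h01 h12 h02, map_mulVec_mul, hz.fl2.2.2]
  have hσs : L.R (sE 1 2) *ᵥ L.R σ *ᵥ z = L.R σ *ᵥ z := by
    rw [← map_mulVec_mul, hσ, ← mul_assoc, ← sE_braid h01 h12 h02, map_mulVec_mul, (hH hz).2]
  have e1 : ∀ a, star (L.R σ *ᵥ z) ⬝ᵥ L.R (root 1 2 a * sE 1 2) *ᵥ z = star (L.R σ *ᵥ z) ⬝ᵥ z :=
    fun a => by rw [map_mulVec_mul L.R (root 1 2 a) (sE 1 2) z, dot_fix hR _ (hσx a), dot_fix hR _ hσs]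
  have e2 := congrArg (star (L.R σ *ᵥ z) ⬝ᵥ ·) (uCompl_sum (R := L.R) h12 hx hh)
  simp only [← hzdef, dotProduct_sum, e1, Finset.sum_const, Finset.card_univ, nsmul_eq_mul,
    dotProduct_neg] at e2
  have e3 : star (L.R σ *ᵥ z) ⬝ᵥ z = star (star z ⬝ᵥ L.R (sE 1 2) *ᵥ z) := by
    rw [hσ, map_mulVec_mul, hR.dot]
    have hinv : L.R (sE 0 1)⁻¹ *ᵥ z = z := by
      conv_lhs => rw [← (hH hz).2, ← map_mulVec_mul, inv_mul_cancel, map_one, Matrix.one_mulVec]
    rw [hinv, Matrix.star_dotProduct]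
  have e4 : star (L.R σ *ᵥ z) ⬝ᵥ z = 0 := by
    have h1 : ((Fintype.card F : ℂ) + 1) * (star (L.R σ *ᵥ z) ⬝ᵥ z) = 0 := by
      rw [add_mul, one_mul, e2, neg_add_cancel]
    exact (mul_eq_zero.1 h1).resolve_left (Nat.cast_add_one_ne_zero _)
  have hz0 : z = 0 := by
    apply eq_zero_of_dot
    rw [e3] at e4
    have := uCompl_dot_sE (R := L.R) hR h12 hx hh
    rw [← hzdef, (star_eq_zero.1 e4), mul_zero] at this
    exact neg_eq_zero.1 this.symm
  intro a
  have e : ((Fintype.card F : ℂ) + 1) • v = uSum L.R 1 2 v := sub_eq_zero.1 hz0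
  have h := uSum_opp (R := L.R) h12 hx hh a
  rw [← e, Matrix.mulVec_smul] at h
  exact smul_right_injective (Fin k → ℂ) (Nat.cast_add_one_ne_zero _) h

end Cfsg.Agent.MinDeg.SLMin
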