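import Cfsg.Agent.MinDeg.SLFlag
import Cfsg.Agent.KnownChar.Weil
import Cfsg.Agent.Weights.SL

/-!
The frame of point projections of a level and the bound on the angle between two of them.
-/

namespace Cfsg.Agent.MinDeg.SLMin

open Matrix

variable {k : ℕ} {F : Type*} [Field F] [Fintype F] {m : ℕ}

section Avg

variable {G : Type*} [Group G] {R : G →* Matrix (Fin k) (Fin k) ℂ}
  {A : Type*} [AddCommGroup A] [Fintype A] {t : A → G}

theorem card_smul_sum (X : Matrix (Fin k) (Fin k) ℂ) :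
    (Fintype.card A : ℂ)⁻¹ • ∑ _a : A, X = X := by
  rw [Finset.sum_const, Finset.card_univ, ← Nat.cast_smul_eq_nsmul ℂ, smul_smul,
    inv_mul_cancel₀ (Nat.cast_ne_zero.2 Fintype.card_ne_zero), one_smul]

theorem absorb_avg {X : Matrix (Fin k) (Fin k) ℂ} (h : ∀ a, X * R (t a) = X) : X * avg R t = X := by
  simp only [avg_eq, Matrix.mul_smul, Finset.mul_sum, h, card_smul_sum]

theorem avg_absorb {X : Matrix (Fin k) (Fin k) ℂ} (h : ∀ a, R (t a) * X = X) : avg R t * X = X := by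
  simp only [avg_eq, Matrix.smul_mul, Finset.sum_mul, h, card_smul_sum]

theorem avg_commute {X : Matrix (Fin k) (Fin k) ℂ} (h : ∀ a, X * R (t a) = R (t a) * X) :
    X * avg R t = avg R t * X := by
  simp only [avg_eq, Matrix.mul_smul, Matrix.smul_mul, Finset.mul_sum, Finset.sum_mul, h]

end Avg

omit [Fintype F] in
theorem cons_single (l : Fin m) (a : F) :
    (Fin.cons 0 (Pi.single l a) : Fin (m + 1) → F) = Pi.single l.succ a := by
  funext i
  refine Fin.cases ?_ (fun i => ?_) i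
  · rw [Fin.cons_zero, Pi.single_eq_of_ne (Fin.succ_ne_zero l).symm]
  · simp [Pi.single_apply]

omit [Fintype F] in
theorem emb_root {i j : Fin m} (hij : i ≠ j) (a : F) :
    emb (root i j a) = root i.succ j.succ a := by
  rw [root, emb_tv _ _ (root_ok hij a), cons_single, cons_single, root]

omit [Fintype F] in
theorem cons_dot (r : Fin m → F) (i : Fin m) :
    (Fin.cons 0 r : Fin (m + 1) → F) ⬝ᵥ Pi.single i.succ 1 = r ⬝ᵥ Pi.single i 1 := by
  simp [dotProduct_single]

theorem single_one_eq (m : ℕ) :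
    (Fin.cons 0 (Pi.single 0 1) : Fin (m + 2) → F) = Pi.single 1 1 := by
  rw [cons_single, Fin.succ_zero_eq_one]

theorem pointProj_mul_tv {R : SpecialLinearGroup (Fin m) F →* Matrix (Fin k) (Fin k) ℂ}
    {x φ : Fin m → F} (h : φ ⬝ᵥ x = 0) : pointProj R x * R (tv x φ) = pointProj R x :=
  avg_mul (R := R) (t := fun φ : Ann x => tv x φ.1) (tvAnn_add x) ⟨φ, h⟩

theorem tv_mul_pointProj {R : SpecialLinearGroup (Fin m) F →* Matrix (Fin k) (Fin k) ℂ}
    {x φ : Fin m → F} (h : φ ⬝ᵥ x = 0) : R (tv x φ) * pointProj R x = pointProj R x :=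
  mul_avg (R := R) (t := fun φ : Ann x => tv x φ.1) (tvAnn_add x) ⟨φ, h⟩

section Rep

variable (R : SpecialLinearGroup (Fin (m + 2)) F →* Matrix (Fin k) (Fin k) ℂ)

/-- average over the root group `1 0` -/
noncomputable def rootProj : Matrix (Fin k) (Fin k) ℂ :=
  avg R fun a : F => root 1 0 a

theorem rootProj_isPr (hR : IsU R) : IsPr (rootProj R) :=
  avg_isPr (fun a b => root_add (by simp) a b) hR

theorem tv_one_split (φ : Fin (m + 2) → F) (h : φ 1 = 0) :
    tv (Pi.single 1 1) φ = root 1 0 (φ 0) * emb (tv (Pi.single 0 1) (Fin.tail φ)) := by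
  have ht : Fin.tail φ ⬝ᵥ Pi.single 0 1 = 0 := by
    rw [dotProduct_single, mul_one]; simpa [Fin.tail] using h
  rw [emb_tv _ _ ht, single_one_eq, root, ← tv_add _ _ _ (root_ok (by simp) (φ 0))
    (by simp [dotProduct_single, Fin.tail, h])]
  congr 1
  funext i
  refine Fin.cases ?_ (fun i => ?_) i
  · simp
  · simp [Fin.tail, Fin.succ_ne_zero]

theorem tv_one_comm (φ : Fin (m + 1) → F) (h : φ ⬝ᵥ Pi.single 0 1 = 0) (a : F) :
    emb (tv (Pi.single 0 1) φ) * root 1 0 a = root 1 0 a * emb (tv (Pi.single 0 1) φ) := by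
  have h1 : (Fin.cons 0 φ : Fin (m + 2) → F) ⬝ᵥ Pi.single 1 1 = 0 := by
    rw [← single_one_eq, cons_dotProduct_cons, h, mul_zero, add_zero]
  have h2 : (Pi.single 0 a : Fin (m + 2) → F) ⬝ᵥ Pi.single 1 1 = 0 := root_ok (by simp) a
  rw [emb_tv _ _ h, single_one_eq, root, ← tv_add _ _ _ h1 h2, ← tv_add _ _ _ h2 h1,
    add_comm (Fin.cons 0 φ : Fin (m + 2) → F)]

theorem rootProj_comm :
    pointProj (R.comp emb) (Pi.single 0 1) * rootProj R =
      rootProj R * pointProj (R.comp emb) (Pi.single 0 1) := by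
  refine avg_commute fun a => (avg_commute fun φ => ?_).symm
  rw [MonoidHom.comp_apply, ← map_mul, ← map_mul, tv_one_comm φ.1 φ.2]

set_option maxHeartbeats 50000 in
theorem pointProj_one :
    pointProj R (Pi.single 1 1) = rootProj R * pointProj (R.comp emb) (Pi.single 0 1) := by
  set P' := pointProj (R.comp emb) (Pi.single 0 1) with hP'
  have hmem : ∀ φ : Ann (Pi.single 1 1 : Fin (m + 2) → F), φ.1 1 = 0 := fun φ => by
    have := φ.2
    rwa [mem_Ann, dotProduct_single, mul_one] at this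
  have h1 : pointProj R (Pi.single 1 1) * rootProj R = pointProj R (Pi.single 1 1) :=
    absorb_avg (R := R) (t := fun a : F => root 1 0 a) fun a =>
      pointProj_mul_tv (root_ok (by simp) a)
  have h2 : pointProj R (Pi.single 1 1) * P' = pointProj R (Pi.single 1 1) := by
    refine absorb_avg fun φ => ?_
    have h' : (Fin.cons 0 φ.1 : Fin (m + 2) → F) ⬝ᵥ Pi.single 1 1 = 0 := by
      rw [← single_one_eq, cons_dotProduct_cons, φ.2, mul_zero, add_zero]
    rw [MonoidHom.comp_apply, emb_tv _ _ φ.2, single_one_eq]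
    exact pointProj_mul_tv h'
  have h3 : pointProj R (Pi.single 1 1) * (rootProj R * P') = rootProj R * P' := by
    refine avg_absorb fun φ => ?_
    have hφ := hmem φ
    have ht : Fin.tail φ.1 ⬝ᵥ Pi.single 0 1 = 0 := by
      rw [dotProduct_single, mul_one]; simpa [Fin.tail] using hφ
    rw [tv_one_split _ hφ, map_mul, Matrix.mul_assoc, hP', ← rootProj_comm,
      ← Matrix.mul_assoc (R (emb _))]
    have e : R (emb (tv (Pi.single 0 1) (Fin.tail φ.1))) * pointProj (R.comp emb) (Pi.single 0 1) =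
        pointProj (R.comp emb) (Pi.single 0 1) :=
      tv_mul_pointProj (R := R.comp emb) ht
    rw [e, rootProj_comm, ← Matrix.mul_assoc]
    congr 1
    exact mul_avg (R := R) (t := fun a : F => root 1 0 a) (fun a b => root_add (by simp) a b) _
  rw [← h3, ← Matrix.mul_assoc, h1, h2]

end Rep

theorem fix_of_mul_fix {A B : Matrix (Fin k) (Fin k) ℂ} (hA : IsPr A) (hB : IsPr B)
    (h : A * B = B * A) (v : Fin k → ℂ) : (A * B) *ᵥ v = v ↔ A *ᵥ v = v ∧ B *ᵥ v = v := by
  constructor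
  · intro hv
    constructor
    · rw [← hv, Matrix.mulVec_mulVec, ← Matrix.mul_assoc, hA.2]
    · rw [← hv, Matrix.mulVec_mulVec, h, ← Matrix.mul_assoc, hB.2]
  · rintro ⟨h1, h2⟩
    rw [← Matrix.mulVec_mulVec, h2, h1]

section Level

variable {L : Lev k F (m + 3)}

theorem Lev.sub_fix (L : Lev k F (m + 1)) (v : Fin k → ℂ) :
    L.sub.E *ᵥ v = v ↔ L.E *ᵥ v = v ∧ pointProj L.R (Pi.single 0 1) *ᵥ v = v :=
  fix_of_mul_fix L.hE (pointProj_isPr L.hR _) (pointProj_comm L.comm _) v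

theorem Lev.fl2_iff (v : Fin k → ℂ) : L.Fl2 v ↔ L.sub.sub.E *ᵥ v = v := by
  have h01 := (fin3_ne m).1
  have d0 : ∀ φ : Fin (m + 3) → F, φ ⬝ᵥ Pi.single 0 1 = φ 0 := fun φ => by
    rw [dotProduct_single, mul_one]
  rw [L.sub.sub_fix, L.sub_fix, pointProj_fix_iff, pointProj_fix_iff]
  constructor
  · rintro ⟨hE, hQ, hx⟩
    refine ⟨⟨hE, fun φ hφ => ?_⟩, fun φ hφ => ?_⟩
    · rw [d0] at hφ
      set φ' := φ - Pi.single 1 (φ 1) with hφ'
      have e : φ = Pi.single 1 (φ 1) + φ' := by rw [hφ', add_sub_cancel]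
      have a0 : φ' 0 = 0 := by simp [hφ', hφ, h01]
      rw [e, tv_add _ _ _ (root_ok h01 _) (by rw [d0, a0]), map_mulVec_mul,
        hQ _ _ ⟨a0, by simp [hφ'], fun l hl _ => Pi.single_eq_of_ne hl 1⟩ (by rw [d0, a0])]
      exact hx _
    · change L.R (emb (tv _ φ)) *ᵥ v = v
      rw [emb_tv _ _ hφ, single_one_eq]
      refine hQ _ _ ⟨Fin.cons_zero _ _, ?_, fun l _ hl => Pi.single_eq_of_ne hl 1⟩ ?_
      · rw [← Fin.succ_zero_eq_one, Fin.cons_succ]
        rwa [dotProduct_single, mul_one] at hφ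
      · rw [← single_one_eq, cons_dotProduct_cons, hφ, mul_zero, add_zero]
  · rintro ⟨⟨hE, h0⟩, h1⟩
    refine ⟨hE, fun u φ ⟨a0, a1, hu⟩ _ => ?_, fun a => h0 _ (root_ok h01 a)⟩
    have d1 : φ ⬝ᵥ Pi.single 1 1 = 0 := by rw [dotProduct_single, mul_one, a1]
    have hu' : u = u 0 • Pi.single 0 1 + u 1 • Pi.single 1 1 := by
      funext l
      by_cases hl : l = 0
      · subst hl; simp [h01]
      · by_cases hl' : l = 1
        · subst hl'; simp [h01.symm]
        · simp [hl, hl', hu l hl hl']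
    have ht : (u 1 • Fin.tail φ) ⬝ᵥ Pi.single 0 1 = 0 := by
      simp [dotProduct_single, Fin.tail, a1]
    have e1 : u 1 • φ = Fin.cons 0 (u 1 • Fin.tail φ) := by
      funext i
      refine Fin.cases ?_ (fun i => ?_) i <;> simp [a0, Fin.tail]
    rw [hu', tv_add_left _ _ _ (by rw [dotProduct_smul, d0, a0, smul_zero])
      (by rw [dotProduct_smul, d1, smul_zero]), tv_smul, tv_smul, map_mulVec_mul, e1, ← single_one_eq,
      ← emb_tv _ _ ht]
    have h1' := h1 _ ht
    change L.R (emb _) *ᵥ v = v at h1'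
    rw [h1', h0 _ (by rw [d0]; simp [a0])]

theorem Lev.fl3_of_sub {L : Lev k F (m + 4)} {v : Fin k → ℂ} (hv : L.sub.Fl2 v) : L.Fl3 v := by
  obtain ⟨hE, hQ, hx⟩ := hv
  obtain ⟨hE', h0⟩ := (L.sub_fix v).1 hE
  rw [pointProj_fix_iff] at h0
  refine ⟨hE', fun u φ hQ' hφu => ?_, fun a => ?_⟩
  · rcases hQ' with ⟨rfl, -⟩ | ⟨a0, a1, a2, hu⟩
    · exact h0 φ hφu
    · have hu0 : u 0 = 0 := hu 0 (fin3_ne (m + 1)).1 (fin3_ne (m + 1)).2.2
      have e1 : φ = Fin.cons 0 (Fin.tail φ) := by rw [← a0, Fin.cons_self_tail]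
      have e2 : u = Fin.cons 0 (Fin.tail u) := by rw [← hu0, Fin.cons_self_tail]
      have hd : Fin.tail φ ⬝ᵥ Fin.tail u = 0 := by
        rw [e1, e2, cons_dotProduct_cons, zero_mul, zero_add] at hφu
        exact hφu
      rw [e1, e2, ← emb_tv _ _ hd]
      refine hQ _ _ ⟨?_, ?_, fun l hl hl' => hu l.succ ?_ ?_⟩ hd
      · simpa [Fin.tail] using a1
      · change φ (Fin.succ 1) = 0
        rwa [show (Fin.succ 1 : Fin (m + 4)) = 2 from rfl]
      · rw [← Fin.succ_zero_eq_one]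
        exact fun h => hl (Fin.succ_injective _ h)
      · rw [show (2 : Fin (m + 4)) = Fin.succ 1 from rfl]
        exact fun h => hl' (Fin.succ_injective _ h)
  · have h := hx a
    change L.R (emb _) *ᵥ v = v at h
    rwa [emb_root (fin3_ne m).1, Fin.succ_zero_eq_one,
      show (Fin.succ 1 : Fin (m + 4)) = 2 from rfl] at h

theorem Lev.AllFixed.sub {L : Lev k F (m + 4)} (H : L.AllFixed) : L.sub.AllFixed := fun v hv a => by
  change L.R (emb _) *ᵥ v = v
  rw [emb_root (fin3_ne m).1.symm, Fin.succ_zero_eq_one,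
    show (Fin.succ 1 : Fin (m + 4)) = 2 from rfl]
  exact H.step (L.fl3_of_sub hv) a

theorem Lev.Fl2.xsum {v : Fin k → ℂ} (hv : L.Fl2 v) :
    L.Fl2 (v + ∑ a, L.R (root 0 1 a * sE 0 1) *ᵥ v) := by
  refine ⟨?_, hv.2.1.add (FixQ.sum fun a => hv.2.1.map ((stab01 a).1.mul (stab_sE stab01))),
    fun b => ?_⟩
  · rw [Matrix.mulVec_add, hv.1, Matrix.mulVec_sum]
    congr 1
    exact Finset.sum_congr rfl fun a _ => L.E_mulVec _ hv.1
  · rw [Matrix.mulVec_add, hv.2.2, rfix_xsum (fin3_ne m).1]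

theorem Lev.Fl2.torus {v : Fin k → ℂ} (hv : L.Fl2 v) : L.Fl2 (torusSum L.R 0 1 v) := by
  classical
  have h := (fin3_ne m).1
  refine ⟨?_, FixQ.sum fun c => hv.2.1.map (stab_hE stab01 _), fun b => ?_⟩
  · rw [torusSum, Matrix.mulVec_sum]
    exact Finset.sum_congr rfl fun c _ => L.E_mulVec _ hv.1
  · rw [torusSum, Matrix.mulVec_sum]
    refine Finset.sum_congr rfl fun c _ => ?_
    have hc := Units.ne_zero c
    have e := hE_mul_root h hc (((c : F) * c)⁻¹ * b)
    rw [← mul_assoc, mul_inv_cancel₀ (mul_ne_zero hc hc), one_mul] at e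
    rw [← map_mulVec_mul, ← e, map_mulVec_mul, hv.2.2]

theorem Lev.Fl2.smul_sub {v w : Fin k → ℂ} (hv : L.Fl2 v) (hw : L.Fl2 w) (c : ℂ) :
    L.Fl2 (c • v - w) :=
  ⟨by rw [Matrix.mulVec_sub, Matrix.mulVec_smul, hv.1, hw.1], (hv.2.1.smul c).sub hw.2.1,
    fun a => by rw [Matrix.mulVec_sub, Matrix.mulVec_smul, hv.2.2, hw.2.2]⟩

/-- a vector moved by the root group `1 0` gives one that is moved a lot -/
theorem Lev.exists_small (H : ¬ L.AllFixed) :
    ∃ z : Fin k → ℂ, z ≠ 0 ∧ L.sub.sub.E *ᵥ z = z ∧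
      (star z ⬝ᵥ rootProj L.R *ᵥ z).re ≤ (star z ⬝ᵥ z).re / (Fintype.card F : ℝ) := by
  classical
  have h01 := (fin3_ne m).1
  simp only [Lev.AllFixed, RFix, not_forall] at H
  obtain ⟨v, hv, a, ha⟩ := H
  have hq : (0 : ℝ) < Fintype.card F := Nat.cast_pos.2 Fintype.card_pos
  have key : ∀ z : Fin k → ℂ, (Fintype.card F : ℂ) * (star z ⬝ᵥ rootProj L.R *ᵥ z) =
      ∑ b, star z ⬝ᵥ L.R (root 1 0 b) *ᵥ z := fun z => by
    rw [rootProj, avg_eq, Matrix.smul_mulVec, dotProduct_smul, Matrix.sum_mulVec, dotProduct_sum,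
      smul_eq_mul, ← mul_assoc, mul_inv_cancel₀ (Nat.cast_ne_zero.2 Fintype.card_ne_zero), one_mul]
  set U : ℂ := (Fintype.card Fˣ : ℂ)
  have hU : U ≠ 0 := Nat.cast_ne_zero.2 Fintype.card_ne_zero
  set w := U • v - torusSum L.R 0 1 v with hwdef
  by_cases hw0 : w = 0
  · have hh : HFix L.R 0 1 v := by
      intro c hc
      have h := hE_torusSum (R := L.R) h01 v c hc
      rw [← sub_eq_zero.1 hw0, Matrix.mulVec_smul] at h
      exact smul_right_injective (Fin k → ℂ) hU h
    set z := uCompl L.R 0 1 v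
    have hne : z ≠ 0 := by
      intro hz
      have e : ((Fintype.card F : ℂ) + 1) • v = uSum L.R 0 1 v := sub_eq_zero.1 hz
      have h := uSum_opp (R := L.R) h01 hv.2.2 hh a
      rw [← e, Matrix.mulVec_smul] at h
      exact ha (smul_right_injective (Fin k → ℂ) (Nat.cast_add_one_ne_zero _) h)
    refine ⟨z, hne, (L.fl2_iff z).1 (hv.smul_sub hv.xsum _), ?_⟩
    have h := uCompl_dot_opp (R := L.R) L.hR h01 hv.2.2 hh
    rw [← key] at h
    obtain ⟨s, hs, hzz⟩ := star_dot_self_pos hne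
    rw [hzz] at h ⊢
    have h' := congrArg Complex.re h
    rw [← mul_assoc, ← Nat.cast_mul, ← Complex.ofReal_natCast, Complex.re_ofReal_mul,
      Complex.ofReal_re, Nat.cast_mul] at h'
    rw [Complex.ofReal_re, le_div_iff₀ hq]
    have h1 : (1 : ℝ) ≤ Fintype.card F := by exact_mod_cast Fintype.card_pos
    set y := (star z ⬝ᵥ rootProj L.R *ᵥ z).re
    nlinarith
  · have hw : L.Fl2 w := hv.smul_sub hv.torus U
    have hwS : torusSum L.R 0 1 w = 0 := by
      have hh := hE_torusSum (R := L.R) h01 v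
      conv_lhs => rw [torusSum, hwdef]
      simp only [Matrix.mulVec_sub, Matrix.mulVec_smul, Finset.sum_sub_distrib, ← Finset.smul_sum]
      rw [Finset.sum_congr rfl fun c _ => hh _ (Units.ne_zero c), Finset.sum_const, Finset.card_univ,
        ← Nat.cast_smul_eq_nsmul ℂ]
      exact sub_self _
    refine ⟨w, hw0, (L.fl2_iff w).1 hw, ?_⟩
    have h := congrArg Complex.re ((key w).trans (torus_dot L.hR h01 hw.2.2 hwS))
    rw [← Complex.ofReal_natCast, Complex.re_ofReal_mul] at h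
    rw [le_div_iff₀ hq, mul_comm, h]

/-- the angle between two point projections -/
noncomputable def Lev.angle (L : Lev k F (m + 3)) : ℝ :=
  (L.E * pointProj L.R (Pi.single 0 1) * pointProj L.R (Pi.single 1 1)).trace.re

theorem Lev.angle_eq (L : Lev k F (m + 3)) :
    L.angle = (L.sub.sub.E * rootProj L.R).trace.re := by
  rw [Lev.angle, pointProj_one, ← rootProj_comm, ← Matrix.mul_assoc]
  rfl

theorem Lev.angle_le (L : Lev k F (m + 3)) : L.angle ≤ L.sub.sub.E.trace.re := by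
  rw [L.angle_eq]
  exact (L.sub.sub.hE.trace_mul_re (rootProj_isPr L.R L.hR)).2

theorem Lev.angle_le_sub (L : Lev k F (m + 3)) (H : ¬ L.AllFixed) :
    L.angle ≤ L.sub.sub.E.trace.re - 1 + 1 / (Fintype.card F : ℝ) := by
  obtain ⟨z, hz, hfix, hb⟩ := L.exists_small H
  rw [L.angle_eq]
  refine (L.sub.sub.hE.trace_mul_le_sub (rootProj_isPr L.R L.hR) hz hfix).trans ?_
  obtain ⟨s, hs, hzz⟩ := star_dot_self_pos hz
  rw [hzz, Complex.ofReal_re] at hb ⊢
  rw [add_le_add_iff_left, div_le_iff₀ hs, one_div_mul_eq_div]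
  exact hb

theorem exists_move_pair {x y : Fin (m + 3) → F} (hx : x ≠ 0) (hy : ∀ c : F, y ≠ c • x) :
    ∃ g : SpecialLinearGroup (Fin (m + 3)) F,
      g.1 *ᵥ Pi.single 0 1 = x ∧ g.1 *ᵥ Pi.single 1 1 = y := by
  obtain ⟨h, hh⟩ := Weights.exists_sl_apply_single (show 2 ≤ m + 3 by omega) x hx
  set y' := (h⁻¹).1 *ᵥ y with hy'
  have hyh : h.1 *ᵥ y' = y := by rw [hy', ← sl_mul_mulVec, mul_inv_cancel, sl_one_mulVec]
  obtain ⟨j, hj0, hj⟩ : ∃ j, j ≠ 0 ∧ y' j ≠ 0 := by
    by_contra! hc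
    refine hy (y' 0) ?_
    have : y' = y' 0 • Pi.single 0 1 := funext fun i => by
      by_cases hi : i = 0
      · subst hi; simp
      · simp [hi, hc i hi]
    rw [← hyh, this, Matrix.mulVec_smul]
    simp only [Pi.smul_apply, Pi.single_eq_same, smul_eq_mul, mul_one]
    congr 1
  obtain ⟨g, hg1, hg0⟩ := KnownChar.exists_sl_move (1 : Fin (m + 3)) 2 0
    (fin3_ne m).2.1.symm (fin3_ne m).2.2.symm (fin3_ne m).1 y' j hj hj0
  refine ⟨h * g, ?_, ?_⟩
  · rw [sl_mul_mulVec, hg0]; exact hh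
  · rw [sl_mul_mulVec, hg1, hyh]

theorem Lev.conj_pointProj {n : ℕ} (L : Lev k F n) (g : SpecialLinearGroup (Fin n) F)
    (x : Fin n → F) : pointProj L.R (g.1 *ᵥ x) = L.R g * pointProj L.R x * L.R g⁻¹ := by
  rw [pointProj_conj, Matrix.mul_assoc, ← map_mul, mul_inv_cancel, map_one, Matrix.mul_one]

theorem Lev.trace_point (L : Lev k F (m + 3)) {x : Fin (m + 3) → F} (hx : x ≠ 0) :
    (L.E * pointProj L.R x).trace = L.sub.E.trace := by
  obtain ⟨h, hh⟩ := Weights.exists_sl_apply_single (show 2 ≤ m + 3 by omega) x hx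
  rw [← hh, L.conj_pointProj, ← Matrix.mul_assoc, Matrix.trace_mul_comm, ← Matrix.mul_assoc,
    ← Matrix.mul_assoc, ← L.comm, Matrix.mul_assoc L.E, ← map_mul, inv_mul_cancel, map_one,
    Matrix.mul_one]
  rfl

theorem Lev.trace_pair (L : Lev k F (m + 3)) {x y : Fin (m + 3) → F} (hx : x ≠ 0)
    (hy : ∀ c : F, y ≠ c • x) :
    (L.E * pointProj L.R x * pointProj L.R y).trace.re = L.angle := by
  obtain ⟨g, h0, h1⟩ := exists_move_pair hx hy
  rw [← h0, ← h1, L.conj_pointProj, L.conj_pointProj, Lev.angle]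
  congr 1
  set P := pointProj L.R (Pi.single 0 1)
  set Q := pointProj L.R (Pi.single 1 1)
  calc (L.E * (L.R g * P * L.R g⁻¹) * (L.R g * Q * L.R g⁻¹)).trace
      = (L.R g * (L.E * P * (L.R g⁻¹ * L.R g) * Q * L.R g⁻¹)).trace := by
        simp only [← Matrix.mul_assoc, L.comm]
    _ = (L.E * P * (L.R g⁻¹ * L.R g) * Q * L.R g⁻¹ * L.R g).trace := Matrix.trace_mul_comm _ _
    _ = (L.E * P * Q).trace := by
        rw [Matrix.mul_assoc _ (L.R g⁻¹) (L.R g), ← map_mul, inv_mul_cancel, map_one,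
          Matrix.mul_one, Matrix.mul_one]

/-- the frame inequality -/
theorem Lev.frame_le (L : Lev k F (m + 3)) :
    ((Fintype.card F : ℝ) ^ (m + 3) - 1) * L.sub.E.trace.re ^ 2 ≤ L.E.trace.re *
      (((Fintype.card F : ℝ) - 1) * L.sub.E.trace.re +
        ((Fintype.card F : ℝ) ^ (m + 3) - 1 - ((Fintype.card F : ℝ) - 1)) * L.angle) := by
  classical
  set f := L.sub.E.trace.re
  set S := Finset.univ.filter fun x : Fin (m + 3) → F => x ≠ 0 with hS
  have hSmem : ∀ {x}, x ∈ S ↔ x ≠ 0 := by simp [hS]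
  set X : ℝ := (Fintype.card F : ℝ) ^ (m + 3) - 1 with hX
  have hScard : (S.card : ℝ) = X := by
    rw [hS, Finset.filter_ne', Finset.card_erase_of_mem (Finset.mem_univ _), Finset.card_univ,
      Fintype.card_pi_const, Nat.cast_sub (Nat.one_le_pow _ _ Fintype.card_pos), Nat.cast_pow,
      Nat.cast_one]
  have hq1 : (1 : ℝ) < Fintype.card F := by exact_mod_cast Fintype.one_lt_card
  have hXpos : 0 < X := by
    have := one_lt_pow₀ hq1 (show m + 3 ≠ 0 by omega)
    linarith
  set T := ∑ x ∈ S, L.E * pointProj L.R x with hT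
  have hTh : Tᴴ = T := by
    rw [hT, Matrix.conjTranspose_sum]
    exact Finset.sum_congr rfl fun x _ =>
      (L.hE.mul (pointProj_isPr L.hR x) (pointProj_comm L.comm x)).1
  have hET : L.E * T = T := by
    rw [hT, Finset.mul_sum]
    exact Finset.sum_congr rfl fun x _ => by rw [← Matrix.mul_assoc, L.hE.2]
  have ht1 : T.trace.re = X * f := by
    rw [hT, Matrix.trace_sum, Finset.sum_congr rfl fun x hx => L.trace_point (hSmem.1 hx),
      Finset.sum_const, nsmul_eq_mul, ← Complex.ofReal_natCast, Complex.re_ofReal_mul, hScard]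
  have hrow : ∀ x ∈ S, ∑ y ∈ S, (L.E * pointProj L.R x * (L.E * pointProj L.R y)).trace.re =
      ((Fintype.card F : ℝ) - 1) * f + (X - ((Fintype.card F : ℝ) - 1)) * L.angle := by
    intro x hx
    have hx0 := hSmem.1 hx
    have hterm : ∀ y ∈ S, (L.E * pointProj L.R x * (L.E * pointProj L.R y)).trace.re =
        if ∃ c : F, y = c • x then f else L.angle := by
      intro y hy
      have e : L.E * pointProj L.R x * (L.E * pointProj L.R y) =
          L.E * pointProj L.R x * pointProj L.R y := by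
        rw [← Matrix.mul_assoc, Matrix.mul_assoc L.E, ← pointProj_comm L.comm, ← Matrix.mul_assoc,
          L.hE.2]
      rw [e]
      split_ifs with hc
      · obtain ⟨c, rfl⟩ := hc
        have hc0 : c ≠ 0 := fun h => hSmem.1 hy (by rw [h, zero_smul])
        rw [pointProj_smul hc0, Matrix.mul_assoc, (pointProj_isPr L.hR x).2, L.trace_point hx0]
      · exact L.trace_pair hx0 (not_exists.1 hc)
    have hcard : ((S.filter fun y => ∃ c : F, y = c • x).card : ℝ) = (Fintype.card F : ℝ) - 1 := by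
      have : S.filter (fun y => ∃ c : F, y = c • x) =
          (Finset.univ.erase (0 : F)).image (fun c => c • x) := by
        ext y
        simp only [Finset.mem_filter, hSmem, Finset.mem_image, Finset.mem_erase, Finset.mem_univ,
          and_true]
        constructor
        · rintro ⟨hy, c, rfl⟩
          exact ⟨c, fun h => hy (by rw [h, zero_smul]), rfl⟩
        · rintro ⟨c, hc, rfl⟩
          exact ⟨smul_ne_zero hc hx0, c, rfl⟩
      rw [this, Finset.card_image_of_injective _ (smul_left_injective F hx0),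
        Finset.card_erase_of_mem (Finset.mem_univ _), Finset.card_univ,
        Nat.cast_sub Fintype.card_pos, Nat.cast_one]
    have hsplit := congrArg (Nat.cast (R := ℝ))
      (Finset.card_filter_add_card_filter_not (s := S) fun y => ∃ c : F, y = c • x)
    rw [Nat.cast_add, hcard, hScard] at hsplit
    rw [Finset.sum_congr rfl hterm, Finset.sum_ite, Finset.sum_const, Finset.sum_const, nsmul_eq_mul,
      nsmul_eq_mul, hcard, eq_sub_of_add_eq' hsplit]
  have ht2 : (T * T).trace.re =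
      X * (((Fintype.card F : ℝ) - 1) * f + (X - ((Fintype.card F : ℝ) - 1)) * L.angle) := by
    rw [hT, Finset.sum_mul, Matrix.trace_sum, Complex.re_sum]
    simp only [Finset.mul_sum, Matrix.trace_sum, Complex.re_sum]
    rw [Finset.sum_congr rfl hrow, Finset.sum_const, nsmul_eq_mul, hScard]
  have hfr := frame L.hE hTh hET
  rw [ht1, ht2] at hfr
  refine le_of_mul_le_mul_left ?_ hXpos
  calc X * (X * f ^ 2) = (X * f) ^ 2 := by ring
    _ ≤ _ := hfr
    _ = _ := by ring

end Level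

end Cfsg.Agent.MinDeg.SLMin
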