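import Cfsg.Agent.MinDeg.SLAvg

/-!
Levels: a unitary representation of `SL_m` cut by a commuting projection, with prescribed traces
on transvections and on products of two transvections.  The conditions descend to the point
stabiliser.
-/

namespace Cfsg.Agent.MinDeg.SLMin

open Matrix

variable {k : ℕ} {F : Type*} [Field F] [Fintype F] {m : ℕ}

/-- representation and commuting projection -/
structure Lev (k : ℕ) (F : Type*) [Field F] (m : ℕ) where
  R : SpecialLinearGroup (Fin m) F →* Matrix (Fin k) (Fin k) ℂ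
  E : Matrix (Fin k) (Fin k) ℂ
  hR : IsU R
  hE : IsPr E
  comm : ∀ g, E * R g = R g * E

/-- the trace conditions -/
structure Lev.Tame (L : Lev k F m) : Prop where
  one : ∀ u φ : Fin m → F, φ ⬝ᵥ u = 0 → u ≠ 0 → φ ≠ 0 →
    (L.E * L.R (tv u φ)).trace = L.E.trace - (Fintype.card F : ℂ) ^ (m - 1)
  two : ∀ u φ u' φ' : Fin m → F, φ ⬝ᵥ u = 0 → φ' ⬝ᵥ u' = 0 → φ' ⬝ᵥ u = 0 → φ ⬝ᵥ u' ≠ 0 →
    u ≠ 0 → φ' ≠ 0 → (L.E * L.R (tv u φ * tv u' φ')).trace =
      L.E.trace - (Fintype.card F : ℂ) ^ (m - 1) - (Fintype.card F : ℂ) ^ (m - 2)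

theorem wchar_injective {ψ : AddChar F ℂ} (hψ : ψ.IsPrimitive) :
    Function.Injective (fun w : Fin m → F => wchar ψ w) := by
  classical
  intro w w' h
  by_contra hne
  obtain ⟨i, hi⟩ := Function.ne_iff.1 hne
  refine hψ (sub_ne_zero.2 hi) (DFunLike.ext _ _ fun s => ?_)
  have := DFunLike.congr_fun h (Pi.single i s)
  simp only [wchar_apply, single_dotProduct] at this
  rw [AddChar.mulShift_apply, sub_mul, AddChar.map_sub_eq_div, mul_comm (w i), mul_comm (w' i), this,
    div_self]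
  · rfl
  · intro h0
    have h1 : ψ (s * w' i) * ψ (-(s * w' i)) = 1 := by
      rw [← AddChar.map_add_eq_mul, add_neg_cancel, AddChar.map_zero_eq_one]
    rw [h0, zero_mul] at h1
    exact zero_ne_one h1

open Classical in
theorem sum_psi {ψ : AddChar F ℂ} (hψ : ψ.IsPrimitive) (w : Fin m → F) :
    ∑ r : Fin m → F, ψ (r ⬝ᵥ w) = if w = 0 then (Fintype.card F : ℂ) ^ m else 0 := by
  rcases eq_or_ne w 0 with rfl | hw
  · simp
  · rw [if_neg hw]
    refine AddChar.sum_eq_zero_of_ne_one (ψ := wchar ψ w) fun h => hw (wchar_injective hψ ?_)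
    change wchar ψ w = wchar ψ 0
    rw [h]
    ext r
    simp [wchar_apply]

open Classical in
theorem sum_line {ψ : AddChar F ℂ} (hψ : ψ.IsPrimitive) (a : F) :
    ∑ c : F, ψ (c * a) = if a = 0 then (Fintype.card F : ℂ) else 0 := by
  classical
  rw [AddChar.sum_mulShift a hψ]
  split_ifs <;> simp

theorem exists_primitive (F : Type*) [Field F] [Fintype F] :
    ∃ ψ : AddChar F ℂ, ψ.IsPrimitive := by
  obtain ⟨ψ, hψ⟩ := (AddChar.exists_apply_ne_zero (α := F) (a := 1)).2 one_ne_zero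
  exact ⟨ψ, AddChar.IsPrimitive.of_ne_one fun h => hψ (by rw [h]; rfl)⟩

open Classical in
theorem card_ker {n : ℕ} {φ : Fin (n + 1) → F} (hφ : φ ≠ 0) :
    (Finset.univ.filter fun w : Fin (n + 1) → F => φ ⬝ᵥ w = 0).card = Fintype.card F ^ n := by
  obtain ⟨ψ, hψ⟩ := exists_primitive F
  have h1 : ∑ w : Fin (n + 1) → F, ∑ c : F, ψ (c * (φ ⬝ᵥ w)) =
      (Fintype.card F : ℂ) * ((Finset.univ.filter fun w : Fin (n + 1) → F => φ ⬝ᵥ w = 0).card : ℂ) := by
    simp [sum_line hψ, Finset.sum_ite, mul_comm]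
  have h2 : ∑ c : F, ∑ w : Fin (n + 1) → F, ψ (c * (φ ⬝ᵥ w)) = (Fintype.card F : ℂ) ^ (n + 1) := by
    simp only [← smul_eq_mul, ← smul_dotProduct, dotProduct_comm (_ • φ), sum_psi hψ]
    simp [hφ]
  rw [Finset.sum_comm, h2, pow_succ'] at h1
  have h3 := mul_left_cancel₀ (Nat.cast_ne_zero.2 Fintype.card_ne_zero) h1
  exact_mod_cast h3.symm

open Classical in
theorem card_ker_two {φ φ' : Fin m → F} (h : ∀ c d : F, c • φ + d • φ' = 0 → c = 0 ∧ d = 0) :
    (Fintype.card F : ℂ) ^ 2 *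
      ((Finset.univ.filter fun w : Fin m → F => φ ⬝ᵥ w = 0 ∧ φ' ⬝ᵥ w = 0).card : ℂ) =
      (Fintype.card F : ℂ) ^ m := by
  obtain ⟨ψ, hψ⟩ := exists_primitive F
  have h1 : ∀ w : Fin m → F, ∑ p : F × F, ψ ((p.1 • φ + p.2 • φ') ⬝ᵥ w) =
      if φ ⬝ᵥ w = 0 ∧ φ' ⬝ᵥ w = 0 then (Fintype.card F : ℂ) ^ 2 else 0 := by
    intro w
    simp only [add_dotProduct, smul_dotProduct, smul_eq_mul, AddChar.map_add_eq_mul,
      Fintype.sum_prod_type, ← Finset.mul_sum, ← Finset.sum_mul, sum_line hψ]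
    split_ifs <;> simp_all [pow_two]
  have h2 : ∑ p : F × F, ∑ w : Fin m → F, ψ ((p.1 • φ + p.2 • φ') ⬝ᵥ w) =
      (Fintype.card F : ℂ) ^ m := by
    rw [Finset.sum_eq_single (0 : F × F)]
    · simp
    · intro p _ hp
      simp only [dotProduct_comm (p.1 • φ + p.2 • φ'), sum_psi hψ]
      rw [if_neg]
      intro he
      exact hp (Prod.ext (h _ _ he).1 (h _ _ he).2)
    · exact fun hh => absurd (Finset.mem_univ _) hh
  rw [Finset.sum_comm] at h2
  simp only [h1, Finset.sum_ite, Finset.sum_const_zero, add_zero, Finset.sum_const, nsmul_eq_mul] at h2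
  rw [mul_comm]
  exact h2

/-- the point stabiliser level -/
noncomputable def Lev.sub (L : Lev k F (m + 1)) : Lev k F m where
  R := L.R.comp emb
  E := L.E * pointProj L.R (Pi.single 0 1)
  hR g := by
    change (L.R (emb g))ᴴ = L.R (emb g⁻¹)
    rw [map_inv, L.hR]
  hE := L.hE.mul (pointProj_isPr L.hR _) (pointProj_comm L.comm _)
  comm g := by
    change L.E * pointProj L.R _ * L.R (emb g) = L.R (emb g) * (L.E * pointProj L.R _)
    have h := pointProj_conj (R := L.R) (emb g) (Pi.single 0 1)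
    have hx : (emb g).1 *ᵥ Pi.single 0 1 = (Pi.single 0 1 : Fin (m + 1) → F) := by
      rw [emb_mulVec]
      funext i
      refine Fin.cases ?_ (fun i => ?_) i
      · simp
      · rw [Fin.cons_succ, Pi.single_eq_of_ne (Fin.succ_ne_zero i)]
        have : Fin.tail (Pi.single 0 1 : Fin (m + 1) → F) = 0 := by ext; simp [Fin.tail]
        rw [this, Matrix.mulVec_zero, Pi.zero_apply]
    rw [hx] at h
    rw [Matrix.mul_assoc, ← h, ← Matrix.mul_assoc, L.comm, Matrix.mul_assoc]

theorem cons_ne_zero {u : Fin m → F} (hu : u ≠ 0) : (Fin.cons 0 u : Fin (m + 1) → F) ≠ 0 := by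
  intro h
  exact hu (funext fun i => by simpa using congrFun h i.succ)

theorem single0_ne : (Pi.single 0 1 : Fin (m + 1) → F) ≠ 0 := by simp

variable {L : Lev k F (m + 1)}

theorem Lev.trace_qEl (hC : L.Tame) {r : Fin m → F} (hr : r ≠ 0) :
    (L.E * L.R (qEl r)).trace = L.E.trace - (Fintype.card F : ℂ) ^ m := by
  simpa [qEl] using hC.one _ _ (qEl_ok r) single0_ne (cons_ne_zero hr)

open Classical in
theorem Lev.trace_wproj (hC : L.Tame) {ψ : AddChar F ℂ} (hψ : ψ.IsPrimitive) (w : Fin m → F) :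
    (L.E * wproj ψ L.R w).trace =
      if w = 0 then L.E.trace - (Fintype.card F : ℂ) ^ m + 1 else 1 := by
  have hq : (Fintype.card F : ℂ) ^ m ≠ 0 := pow_ne_zero _ (Nat.cast_ne_zero.2 Fintype.card_ne_zero)
  have hterm : ∀ r : Fin m → F, wchar ψ w (-r) * (L.E * L.R (qEl r)).trace =
      wchar ψ w (-r) * (L.E.trace - (Fintype.card F : ℂ) ^ m) +
        if r = 0 then (Fintype.card F : ℂ) ^ m else 0 := by
    intro r
    rcases eq_or_ne r 0 with rfl | hr
    · rw [qEl_zero, map_one, Matrix.mul_one, neg_zero, AddChar.map_zero_eq_one, if_pos rfl]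
      ring
    · rw [L.trace_qEl hC hr, if_neg hr, add_zero]
  rw [wproj, avgC, Matrix.mul_smul, Matrix.trace_smul, Finset.mul_sum, Matrix.trace_sum, smul_eq_mul]
  simp only [Matrix.mul_smul, Matrix.trace_smul, smul_eq_mul, hterm, Finset.sum_add_distrib,
    Finset.sum_ite_eq', Finset.mem_univ, if_true, ← Finset.sum_mul]
  have hs : ∑ r : Fin m → F, wchar ψ w (-r) = if w = 0 then (Fintype.card F : ℂ) ^ m else 0 := by
    rw [← sum_psi hψ w]
    exact Fintype.sum_equiv (Equiv.neg _) _ _ fun r => rfl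
  rw [hs, Fintype.card_pi_const, Nat.cast_pow]
  split_ifs <;> field_simp <;> ring

theorem Lev.sub_trace (hC : L.Tame) :
    L.sub.E.trace = L.E.trace - (Fintype.card F : ℂ) ^ m + 1 := by
  classical
  obtain ⟨ψ, hψ⟩ : ∃ ψ : AddChar F ℂ, ψ.IsPrimitive := exists_primitive F
  have := L.trace_wproj hC hψ 0
  rwa [wproj_zero, if_pos rfl] at this

/-- the weight component of the trace -/
noncomputable def Lev.lam (L : Lev k F (m + 1)) (ψ : AddChar F ℂ) (l : SpecialLinearGroup (Fin m) F)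
    (w : Fin m → F) : ℂ :=
  (L.E * L.R (emb l) * wproj ψ L.R w).trace

variable {ψ : AddChar F ℂ}

theorem wproj_isPr (hR : IsU L.R) (w : Fin m → F) : IsPr (wproj ψ L.R w) :=
  avgC_isPr qEl_add hR _

theorem Lev.comm_wproj (L : Lev k F (m + 1)) (w : Fin m → F) :
    L.E * wproj ψ L.R w = wproj ψ L.R w * L.E :=
  avgC_comm L.comm _

theorem Lev.lam_eq (L : Lev k F (m + 1)) (l : SpecialLinearGroup (Fin m) F) (w : Fin m → F) :
    L.lam ψ l w = (L.R (emb l) * (L.E * wproj ψ L.R w)).trace := by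
  rw [Lev.lam, L.comm, Matrix.mul_assoc]

theorem Lev.sum_lam (L : Lev k F (m + 1)) (hψ : ψ.IsPrimitive) (l : SpecialLinearGroup (Fin m) F) :
    ∑ w, L.lam ψ l w = (L.E * L.R (emb l)).trace := by
  simp only [Lev.lam, ← Matrix.trace_sum, ← Finset.mul_sum, sum_wproj hψ, Matrix.mul_one]

theorem Lev.sum_lam_mul (L : Lev k F (m + 1)) (hψ : ψ.IsPrimitive) (r : Fin m → F)
    (l : SpecialLinearGroup (Fin m) F) :
    ∑ w, ψ (r ⬝ᵥ w) * L.lam ψ l w = (L.E * L.R (qEl r * emb l)).trace := by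
  have h : ∀ w, (L.E * L.R (qEl r * emb l) * wproj ψ L.R w).trace = ψ (r ⬝ᵥ w) * L.lam ψ l w := by
    intro w
    rw [Matrix.trace_mul_comm, map_mul, ← Matrix.mul_assoc, ← L.comm_wproj, Matrix.mul_assoc L.E,
      ← Matrix.mul_assoc (wproj ψ L.R w), wproj, avgC_mul qEl_add, wchar_apply, Matrix.smul_mul,
      Matrix.mul_smul, Matrix.trace_smul, smul_eq_mul, Lev.lam_eq, ← Matrix.mul_assoc,
      Matrix.trace_mul_comm]
    rfl
  simp only [← h, ← Matrix.trace_sum, ← Finset.mul_sum, sum_wproj hψ, Matrix.mul_one]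

theorem Lev.lam_moved (L : Lev k F (m + 1)) (hψ : ψ.IsPrimitive) (l : SpecialLinearGroup (Fin m) F)
    {w : Fin m → F} (h : l.1 *ᵥ w ≠ w) : L.lam ψ l w = 0 := by
  set W := wproj ψ L.R w
  have hW := (wproj_isPr (ψ := ψ) L.hR w).2
  have h0 : W * wproj ψ L.R (l.1 *ᵥ w) = 0 :=
    avgC_mul_avgC_ne qEl_add fun he => h (wchar_injective hψ he.symm)
  calc L.lam ψ l w = (L.E * L.R (emb l) * W * W).trace := by
        rw [Matrix.mul_assoc _ W W, hW]; rfl
    _ = (W * (L.E * L.R (emb l) * W)).trace := Matrix.trace_mul_comm _ _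
    _ = 0 := by
        rw [Matrix.mul_assoc L.E, wproj_conj, ← Matrix.mul_assoc W, ← L.comm_wproj,
          Matrix.mul_assoc L.E, ← Matrix.mul_assoc W, h0, Matrix.zero_mul, Matrix.mul_zero,
          Matrix.trace_zero]

theorem Lev.lam_re_le (hC : L.Tame) (hψ : ψ.IsPrimitive) (l : SpecialLinearGroup (Fin m) F)
    {w : Fin m → F} (hw : w ≠ 0) : (L.lam ψ l w).re ≤ 1 := by
  set A := L.E * wproj ψ L.R w
  have hA : IsPr A := L.hE.mul (wproj_isPr L.hR w) (L.comm_wproj w)
  have hAt : A.trace = 1 := by rw [L.trace_wproj hC hψ, if_neg hw]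
  have h1 : nsq A = 1 := by
    have := hA.nsq_eq
    rw [hAt] at this
    exact_mod_cast this
  have h2 : nsq (L.R (emb l) * A) = 1 := by
    have := trace_conjTranspose_mul (L.R (emb l) * A)
    rw [Matrix.conjTranspose_mul, Matrix.mul_assoc, ← Matrix.mul_assoc _ (L.R (emb l)),
      L.hR.star_mul_self, Matrix.one_mul, hA.1, hA.2, hAt] at this
    exact_mod_cast this.symm
  have := normSq_trace_mul_le (L.R (emb l) * A) A
  rw [Matrix.mul_assoc, hA.2, h1, h2, ← L.lam_eq, Complex.normSq_apply] at this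
  nlinarith [mul_self_nonneg (L.lam ψ l w).im, mul_self_nonneg ((L.lam ψ l w).re - 1)]

/-- a transvection of the point stabiliser fixes the weight lines of its fixed weights -/
theorem Lev.fixes_weight (hC : L.Tame) (hψ : ψ.IsPrimitive) {u φ : Fin m → F} (h : φ ⬝ᵥ u = 0)
    (hu : u ≠ 0) (hφ : φ ≠ 0) {w : Fin m → F} (hw : w ≠ 0) (hφw : φ ⬝ᵥ w = 0) :
    L.R (emb (tv u φ)) * (L.E * wproj ψ L.R w) = L.E * wproj ψ L.R w := by
  classical
  obtain ⟨n, rfl⟩ : ∃ n, m = n + 1 := by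
    rcases m with _ | n
    · exact absurd (Subsingleton.elim u 0) hu
    · exact ⟨n, rfl⟩
  set q := (Fintype.card F : ℂ) with hqdef
  have hq : q ≠ 0 := Nat.cast_ne_zero.2 Fintype.card_ne_zero
  set t := tv u φ with ht
  have hmove : ∀ w, φ ⬝ᵥ w ≠ 0 → t.1 *ᵥ w ≠ w := fun w hw' hfix => by
    rw [ht, tv_mulVec h, add_eq_left, smul_eq_zero] at hfix
    exact hfix.elim hw' hu
  have e0 : (L.E * L.R (emb t)).trace = L.E.trace - q ^ (n + 1) := by
    rw [ht, emb_tv u φ h]
    simpa using hC.one _ _ (by rw [cons_dotProduct_cons, h, zero_mul, add_zero]) (cons_ne_zero hu)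
      (cons_ne_zero hφ)
  have e1 : ∀ r, r ⬝ᵥ u ≠ 0 → ∑ w, (1 - ψ (r ⬝ᵥ w)) * L.lam ψ t w = q ^ n := by
    intro r hr
    have hp : (L.E * L.R (qEl r * emb t)).trace = L.E.trace - q ^ (n + 1) - q ^ n := by
      rw [ht, emb_tv u φ h, qEl]
      simpa using hC.two _ _ _ _ (qEl_ok r)
        (by rw [cons_dotProduct_cons, h, zero_mul, add_zero]) (by rw [dotProduct_single]; simp)
        (by rw [cons_dotProduct_cons, zero_mul, zero_add]; exact hr) single0_ne (cons_ne_zero hφ)
    simp only [sub_mul, one_mul, Finset.sum_sub_distrib, L.sum_lam hψ, L.sum_lam_mul hψ, e0, hp]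
    ring
  -- indicator of `r ⬝ᵥ u ≠ 0`
  set ind : (Fin (n + 1) → F) → ℂ := fun r => q - ∑ c : F, ψ (c * (r ⬝ᵥ u)) with hind
  have e2 : ∀ r, ind r * ∑ w, (1 - ψ (r ⬝ᵥ w)) * L.lam ψ t w = ind r * q ^ n := by
    intro r
    by_cases hr : r ⬝ᵥ u = 0
    · simp [hind, sum_line hψ, hr, hqdef]
    · rw [e1 r hr]
  have hcu : ∀ w : Fin (n + 1) → F, ∑ c : F, ∑ r : Fin (n + 1) → F, ψ (c * (r ⬝ᵥ u)) * ψ (r ⬝ᵥ w) =
      q ^ (n + 1) * ((Finset.univ.filter fun c : F => w + c • u = 0).card : ℂ) := by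
    intro w
    have hc : ∀ (c : F) (r : Fin (n + 1) → F),
        ψ (c * (r ⬝ᵥ u)) * ψ (r ⬝ᵥ w) = ψ (r ⬝ᵥ (w + c • u)) := by
      intro c r
      rw [dotProduct_add, dotProduct_smul, smul_eq_mul, AddChar.map_add_eq_mul, mul_comm]
    simp only [hc, sum_psi hψ, ← hqdef]
    simp [Finset.sum_ite, mul_comm]
  have hone : (Finset.univ.filter fun c : F => (0 : Fin (n + 1) → F) + c • u = 0) = {0} := by
    ext c; simp [hu]
  have hN : ∀ w, ∑ r, ind r * (1 - ψ (r ⬝ᵥ w)) = q ^ (n + 1) * (q - if w = 0 then q else 0) -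
      q ^ (n + 1) + q ^ (n + 1) * ((Finset.univ.filter fun c : F => w + c • u = 0).card : ℂ) := by
    intro w
    have hA := hcu 0
    rw [hone, Finset.card_singleton, Nat.cast_one, mul_one] at hA
    simp only [dotProduct_zero, AddChar.map_zero_eq_one, mul_one] at hA
    have hB := hcu w
    rw [Finset.sum_comm] at hA hB
    simp only [hind, sub_mul, mul_sub, mul_one, Finset.sum_sub_distrib, Finset.sum_mul,
      ← Finset.mul_sum, sum_psi hψ, hA, hB, Finset.sum_const, Finset.card_univ, Fintype.card_pi_const,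
      nsmul_eq_mul, Nat.cast_pow, ← hqdef]
    split_ifs <;> ring
  set N : (Fin (n + 1) → F) → ℝ := fun w =>
    if w = 0 then 0 else (Fintype.card F : ℝ) ^ (n + 1) *
      ((Fintype.card F : ℝ) - 1 + ((Finset.univ.filter fun c : F => w + c • u = 0).card : ℝ)) with hNdef
  have hNc : ∀ w, ∑ r, ind r * (1 - ψ (r ⬝ᵥ w)) = (N w : ℂ) := by
    intro w
    rw [hN, hNdef]
    rcases eq_or_ne w 0 with rfl | hw'
    · simp only [if_true, hone, Finset.card_singleton, Nat.cast_one, Complex.ofReal_zero]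
      ring
    · simp only [if_neg hw']
      push_cast
      rw [← hqdef]
      ring
  have etot : ∑ r, ind r = q ^ (n + 1) * (q - 1) := by
    have hA := hcu 0
    rw [hone, Finset.card_singleton, Nat.cast_one, mul_one] at hA
    simp only [dotProduct_zero, AddChar.map_zero_eq_one, mul_one] at hA
    rw [Finset.sum_comm] at hA
    simp only [hind, Finset.sum_sub_distrib, hA, Finset.sum_const, Finset.card_univ,
      Fintype.card_pi_const, nsmul_eq_mul, Nat.cast_pow, ← hqdef]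
    ring
  have e3 : ∑ w, (N w : ℂ) * L.lam ψ t w = q ^ (n + 1) * (q - 1) * q ^ n := by
    rw [← etot, Finset.sum_mul, ← Finset.sum_congr rfl fun r _ => e2 r]
    simp only [← hNc, Finset.sum_mul, Finset.mul_sum]
    rw [Finset.sum_comm]
    exact Finset.sum_congr rfl fun r _ => Finset.sum_congr rfl fun w _ => by ring
  have hH : (Finset.univ.filter fun w : Fin (n + 1) → F => φ ⬝ᵥ w = 0).card =
      Fintype.card F ^ n := card_ker hφ
  have hpick : ∀ c : F, (Finset.univ.filter fun w : Fin (n + 1) → F =>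
      φ ⬝ᵥ w = 0 ∧ w + c • u = 0) = {-(c • u)} := by
    intro c
    ext w
    simp only [Finset.mem_filter, Finset.mem_univ, true_and, Finset.mem_singleton,
      add_eq_zero_iff_eq_neg, and_iff_right_iff_imp]
    rintro rfl
    simp [h]
  have e4 : ∑ w, (if φ ⬝ᵥ w = 0 then N w else 0) =
      (Fintype.card F : ℝ) ^ (n + 1) * ((Fintype.card F : ℝ) - 1) * (Fintype.card F : ℝ) ^ n := by
    have hNall : ∀ w, N w = (Fintype.card F : ℝ) ^ (n + 1) * ((Fintype.card F : ℝ) - 1 +
        ((Finset.univ.filter fun c : F => w + c • u = 0).card : ℝ)) -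
        if w = 0 then (Fintype.card F : ℝ) ^ (n + 1) * (Fintype.card F : ℝ) else 0 := by
      intro w
      rcases eq_or_ne w 0 with rfl | hw'
      · simp only [hNdef, if_true, hone, Finset.card_singleton, Nat.cast_one]
        ring
      · simp [hNdef, hw']
    have hsw : ∑ w ∈ Finset.univ.filter (fun w : Fin (n + 1) → F => φ ⬝ᵥ w = 0),
        ((Finset.univ.filter fun c : F => w + c • u = 0).card : ℝ) = Fintype.card F := by
      rw [← Nat.cast_sum]
      congr 1
      simp only [Finset.card_filter]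
      rw [Finset.sum_comm]
      simp only [← Finset.card_filter, Finset.filter_filter, hpick, Finset.card_singleton,
        Finset.sum_const, Finset.card_univ, smul_eq_mul, mul_one]
    rw [← Finset.sum_filter, Finset.sum_congr rfl fun w _ => hNall w, Finset.sum_sub_distrib,
      ← Finset.mul_sum, Finset.sum_add_distrib, Finset.sum_const, hH, nsmul_eq_mul, Nat.cast_pow, hsw,
      Finset.sum_ite_eq', if_pos (by simp)]
    ring
  have e5 : ∑ w, N w * (L.lam ψ t w).re = ∑ w, (if φ ⬝ᵥ w = 0 then N w else 0) := by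
    have h5 := congrArg Complex.re e3
    rw [Complex.re_sum] at h5
    simp only [Complex.re_ofReal_mul] at h5
    rw [h5, e4, ← Complex.ofReal_re ((Fintype.card F : ℝ) ^ (n + 1) * ((Fintype.card F : ℝ) - 1) *
      (Fintype.card F : ℝ) ^ n)]
    push_cast
    rfl
  have hcard1 : (1 : ℝ) < Fintype.card F := by exact_mod_cast Fintype.one_lt_card
  have hNpos : ∀ w, w ≠ 0 → 0 < N w := by
    intro w hw'
    simp only [hNdef, if_neg hw']
    refine mul_pos (pow_pos (by linarith) _) ?_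
    linarith [Nat.cast_nonneg (α := ℝ) (Finset.univ.filter fun c : F => w + c • u = 0).card]
  have hle : ∀ x ∈ (Finset.univ : Finset (Fin (n + 1) → F)),
      N x * (L.lam ψ t x).re ≤ if φ ⬝ᵥ x = 0 then N x else 0 := by
    intro x _
    rcases eq_or_ne x 0 with rfl | hx
    · simp [hNdef]
    · by_cases hx' : φ ⬝ᵥ x = 0
      · rw [if_pos hx']
        exact mul_le_of_le_one_right (hNpos x hx).le (L.lam_re_le hC hψ t hx)
      · rw [if_neg hx', L.lam_moved hψ t (hmove x hx')]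
        simp
  have hfin := (Finset.sum_eq_sum_iff_of_le hle).1 e5 w (Finset.mem_univ w)
  rw [if_pos hφw] at hfin
  refine eq_of_trace_eq (L.hE.mul (wproj_isPr L.hR w) (L.comm_wproj w)) (L.hR.star_mul_self _) ?_
  rw [← L.lam_eq, L.trace_wproj hC hψ, if_neg hw, Complex.one_re]
  exact mul_left_cancel₀ (hNpos w hw).ne' (by rw [hfin, mul_one])

theorem Lev.sub_trace_emb (hC : L.Tame) (hψ : ψ.IsPrimitive) (l : SpecialLinearGroup (Fin m) F)
    (hfix : ∀ w, w ≠ 0 → l.1 *ᵥ w = w →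
      L.R (emb l) * (L.E * wproj ψ L.R w) = L.E * wproj ψ L.R w) :
    (L.sub.E * L.sub.R l).trace = (L.E * L.R (emb l)).trace + 1 -
      ((Nat.card {w : Fin m → F // l.1 *ᵥ w = w} : ℕ) : ℂ) := by
  classical
  have h0 : (L.sub.E * L.sub.R l).trace = L.lam ψ l 0 := by
    change (L.E * pointProj L.R _ * L.R (emb l)).trace = _
    rw [← wproj_zero (ψ := ψ), Matrix.trace_mul_comm, L.lam_eq]
  have h1 : ∀ w, L.lam ψ l w = (if l.1 *ᵥ w = w then 1 else 0) +
      if w = 0 then L.lam ψ l 0 - 1 else 0 := by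
    intro w
    rcases eq_or_ne w 0 with rfl | hw
    · rw [if_pos (Matrix.mulVec_zero _), if_pos rfl]; ring
    · rw [if_neg hw, add_zero]
      split_ifs with h
      · rw [L.lam_eq, hfix w hw h, L.trace_wproj hC hψ, if_neg hw]
      · exact L.lam_moved hψ l h
  have h2 := L.sum_lam hψ l
  rw [Finset.sum_congr rfl fun w _ => h1 w, Finset.sum_add_distrib, Finset.sum_ite_eq',
    if_pos (Finset.mem_univ _), Finset.sum_boole] at h2
  rw [h0, ← h2, Nat.card_eq_fintype_card, Fintype.card_subtype]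
  ring

omit [Fintype F] in
theorem pair_indep {u φ u' φ' : Fin m → F} (h : φ ⬝ᵥ u = 0) (hx : φ' ⬝ᵥ u = 0)
    (hy : φ ⬝ᵥ u' ≠ 0) (h' : φ' ⬝ᵥ u' = 0) (hu : u ≠ 0) (hφ' : φ' ≠ 0) :
    (∀ c d : F, c • φ + d • φ' = 0 → c = 0 ∧ d = 0) ∧
      ∀ c d : F, c • u + d • u' = 0 → c = 0 ∧ d = 0 := by
  constructor
  · intro c d he
    have h1 := congrArg (· ⬝ᵥ u') he
    simp only [add_dotProduct, smul_dotProduct, h', zero_dotProduct, smul_eq_mul, mul_zero,
      add_zero] at h1
    have hc := (mul_eq_zero.1 h1).resolve_right hy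
    subst hc
    rw [zero_smul, zero_add, smul_eq_zero] at he
    exact ⟨rfl, he.resolve_right hφ'⟩
  · intro c d he
    have h1 := congrArg (φ ⬝ᵥ ·) he
    simp only [dotProduct_add, dotProduct_smul, h, dotProduct_zero, smul_eq_mul, mul_zero,
      zero_add] at h1
    have hd := (mul_eq_zero.1 h1).resolve_right hy
    subst hd
    rw [zero_smul, add_zero, smul_eq_zero] at he
    exact ⟨he.resolve_right hu, rfl⟩

/-- the conditions descend to the point stabiliser -/
theorem Lev.Tame.sub (hC : L.Tame) (hm : 2 ≤ m) : L.sub.Tame := by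
  classical
  obtain ⟨ψ, hψ⟩ := exists_primitive F
  obtain ⟨n, rfl⟩ : ∃ n, m = n + 2 := ⟨m - 2, by omega⟩
  have hq : (Fintype.card F : ℂ) ≠ 0 := Nat.cast_ne_zero.2 Fintype.card_ne_zero
  constructor
  · intro u φ h hu hφ
    have hfixed : ∀ w, (tv u φ).1 *ᵥ w = w ↔ φ ⬝ᵥ w = 0 := fun w => by
      rw [tv_mulVec h, add_eq_left, smul_eq_zero, or_iff_left hu]
    rw [L.sub_trace_emb hC hψ _ fun w hw hf => L.fixes_weight hC hψ h hu hφ hw ((hfixed w).1 hf),
      emb_tv u φ h, hC.one _ _ (by rw [cons_dotProduct_cons, h, zero_mul, add_zero]) (cons_ne_zero hu)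
      (cons_ne_zero hφ), L.sub_trace hC]
    have hcard : Nat.card {w : Fin (n + 2) → F // (tv u φ).1 *ᵥ w = w} =
        Fintype.card F ^ (n + 1) := by
      rw [Nat.card_eq_fintype_card, Fintype.card_subtype]
      simp only [hfixed]
      exact card_ker hφ
    rw [hcard, Nat.cast_pow]
    ring_nf
    simp [add_comm]
    ring
  · intro u φ u' φ' h h' hx hy hu hφ'
    obtain ⟨hindφ, hindu⟩ := pair_indep h hx hy h' hu hφ'
    have hu' : u' ≠ 0 := by rintro rfl; exact hy (dotProduct_zero φ)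
    have hφ : φ ≠ 0 := by rintro rfl; exact hy (zero_dotProduct u')
    have hfixed : ∀ w, (tv u φ * tv u' φ').1 *ᵥ w = w ↔ φ ⬝ᵥ w = 0 ∧ φ' ⬝ᵥ w = 0 := by
      intro w
      rw [sl_mul_mulVec, tv_mulVec h', tv_mulVec h]
      constructor
      · intro he
        rw [add_assoc, add_eq_left] at he
        obtain ⟨h1, h2⟩ := hindu _ _ ((add_comm _ _).trans he)
        refine ⟨?_, h2⟩
        rwa [dotProduct_add, dotProduct_smul, h2, zero_smul, add_zero] at h1
      · rintro ⟨h1, h2⟩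
        simp [h1, h2]
    have hcard : (Nat.card {w : Fin (n + 2) → F // (tv u φ * tv u' φ').1 *ᵥ w = w} : ℂ) =
        (Fintype.card F : ℂ) ^ n := by
      rw [Nat.card_eq_fintype_card, Fintype.card_subtype]
      simp only [hfixed]
      have h2 := card_ker_two hindφ
      rw [pow_add, mul_comm] at h2
      exact mul_right_cancel₀ (pow_ne_zero 2 hq) h2
    rw [L.sub_trace_emb hC hψ _ fun w hw hf => ?_, hcard, map_mul, emb_tv u φ h, emb_tv u' φ' h',
      hC.two _ _ _ _ (by rw [cons_dotProduct_cons, h, zero_mul, add_zero])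
        (by rw [cons_dotProduct_cons, h', zero_mul, add_zero])
        (by rw [cons_dotProduct_cons, hx, zero_mul, add_zero])
        (by rw [cons_dotProduct_cons, zero_mul, zero_add]; exact hy) (cons_ne_zero hu)
        (cons_ne_zero hφ'), L.sub_trace hC]
    · simp
      ring
    · obtain ⟨h1, h2⟩ := (hfixed w).1 hf
      rw [map_mul, map_mul, Matrix.mul_assoc, L.fixes_weight hC hψ h' hu' hφ' hw h2,
        L.fixes_weight hC hψ h hu hφ hw h1]

end Cfsg.Agent.MinDeg.SLMin
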