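import Mathlib
import Cfsg.Agent.Jordan.AbelianIndex

/-!
Projections attached to a unitary matrix representation: averages, traces, frame inequalities.
-/

namespace Cfsg.Agent.MinDeg.SLMin

open Matrix

variable {k : ℕ}

/-- an orthogonal projection -/
def IsPr (A : Matrix (Fin k) (Fin k) ℂ) : Prop := Aᴴ = A ∧ A * A = A

/-- Frobenius square norm -/
def nsq (A : Matrix (Fin k) (Fin k) ℂ) : ℝ := ∑ i, ∑ j, Complex.normSq (A i j)

theorem trace_conjTranspose_mul (A : Matrix (Fin k) (Fin k) ℂ) : (Aᴴ * A).trace = (nsq A : ℂ) := by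
  simp only [Matrix.trace, Matrix.diag_apply, Matrix.mul_apply, Matrix.conjTranspose_apply, nsq]
  rw [Finset.sum_comm]
  push_cast
  exact Finset.sum_congr rfl fun i _ => Finset.sum_congr rfl fun j _ => by
    rw [Complex.normSq_eq_conj_mul_self]; rfl

theorem nsq_nonneg (A : Matrix (Fin k) (Fin k) ℂ) : 0 ≤ nsq A :=
  Finset.sum_nonneg fun _ _ => Finset.sum_nonneg fun _ _ => Complex.normSq_nonneg _

theorem eq_zero_of_nsq (A : Matrix (Fin k) (Fin k) ℂ) (h : nsq A = 0) : A = 0 := by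
  ext i j
  have h1 := (Finset.sum_eq_zero_iff_of_nonneg fun i _ =>
    Finset.sum_nonneg fun j _ => Complex.normSq_nonneg (A i j)).1 h i (Finset.mem_univ _)
  exact Complex.normSq_eq_zero.1
    ((Finset.sum_eq_zero_iff_of_nonneg fun j _ => Complex.normSq_nonneg (A i j)).1 h1 j
      (Finset.mem_univ _))

theorem nsq_conjTranspose (A : Matrix (Fin k) (Fin k) ℂ) : nsq Aᴴ = nsq A := by
  rw [nsq, nsq, Finset.sum_comm]
  simp [Matrix.conjTranspose_apply]

/-- Cauchy–Schwarz -/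
theorem normSq_trace_mul_le (A B : Matrix (Fin k) (Fin k) ℂ) :
    Complex.normSq (A * B).trace ≤ nsq A * nsq B := by
  have h1 : ‖(A * B).trace‖ ≤ ∑ p : Fin k × Fin k, ‖A p.1 p.2‖ * ‖B p.2 p.1‖ := by
    simp only [Matrix.trace, Matrix.diag_apply, Matrix.mul_apply, Fintype.sum_prod_type]
    exact (norm_sum_le _ _).trans (Finset.sum_le_sum fun i _ =>
      (norm_sum_le _ _).trans (Finset.sum_le_sum fun j _ => (norm_mul _ _).le))
  have h2 := Finset.sum_mul_sq_le_sq_mul_sq (Finset.univ : Finset (Fin k × Fin k))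
    (fun p => ‖A p.1 p.2‖) (fun p => ‖B p.2 p.1‖)
  have h3 : ∑ p : Fin k × Fin k, ‖A p.1 p.2‖ ^ 2 = nsq A := by
    simp [Fintype.sum_prod_type, nsq, Complex.normSq_eq_norm_sq]
  have h4 : ∑ p : Fin k × Fin k, ‖B p.2 p.1‖ ^ 2 = nsq B := by
    rw [Fintype.sum_prod_type, Finset.sum_comm]
    simp [nsq, Complex.normSq_eq_norm_sq]
  rw [h3, h4] at h2
  rw [Complex.normSq_eq_norm_sq]
  exact (pow_le_pow_left₀ (norm_nonneg _) h1 2).trans h2

theorem IsPr.nsq_eq {A : Matrix (Fin k) (Fin k) ℂ} (h : IsPr A) : (nsq A : ℂ) = A.trace := by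
  rw [← trace_conjTranspose_mul, h.1, h.2]

theorem IsPr.trace_nat {A : Matrix (Fin k) (Fin k) ℂ} (h : IsPr A) :
    ∃ d : ℕ, A.trace = d ∧ nsq A = d := by
  have hf : LinearMap.IsProj (LinearMap.range A.mulVecLin) A.mulVecLin := by
    refine ⟨fun x => LinearMap.mem_range_self _ x, ?_⟩
    rintro x ⟨y, rfl⟩
    simp [Matrix.mulVecLin_apply, Matrix.mulVec_mulVec, h.2]
  have ht := hf.trace
  rw [← Matrix.toLin'_apply'] at ht
  rw [Matrix.trace_toLin'_eq] at ht
  refine ⟨_, ht, ?_⟩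
  have := h.nsq_eq
  rw [ht] at this
  exact_mod_cast this

theorem IsPr.one : IsPr (1 : Matrix (Fin k) (Fin k) ℂ) :=
  ⟨Matrix.conjTranspose_one, Matrix.one_mul 1⟩

theorem IsPr.compl {A : Matrix (Fin k) (Fin k) ℂ} (h : IsPr A) : IsPr (1 - A) := by
  refine ⟨by rw [Matrix.conjTranspose_sub, Matrix.conjTranspose_one, h.1], ?_⟩
  rw [Matrix.sub_mul, Matrix.one_mul, Matrix.mul_sub, Matrix.mul_one, h.2, sub_self, sub_zero]

theorem IsPr.mul {A B : Matrix (Fin k) (Fin k) ℂ} (hA : IsPr A) (hB : IsPr B) (h : A * B = B * A) :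
    IsPr (A * B) := by
  refine ⟨by rw [Matrix.conjTranspose_mul, hA.1, hB.1, h], ?_⟩
  rw [Matrix.mul_assoc, ← Matrix.mul_assoc B, ← h, Matrix.mul_assoc A B B, hB.2, ← Matrix.mul_assoc,
    hA.2]

/-- `0 ≤ tr(XY) ≤ tr X` -/
theorem IsPr.trace_mul_re {X Y : Matrix (Fin k) (Fin k) ℂ} (hX : IsPr X) (hY : IsPr Y) :
    0 ≤ (X * Y).trace.re ∧ (X * Y).trace.re ≤ X.trace.re := by
  have key : ∀ {X Y : Matrix (Fin k) (Fin k) ℂ}, IsPr X → IsPr Y → 0 ≤ (X * Y).trace.re := by
    intro X Y hX hY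
    have h := trace_conjTranspose_mul (Y * X)
    rw [Matrix.conjTranspose_mul, hX.1, hY.1, Matrix.mul_assoc, ← Matrix.mul_assoc Y, hY.2,
      Matrix.trace_mul_comm, Matrix.mul_assoc, hX.2, Matrix.trace_mul_comm] at h
    rw [h, Complex.ofReal_re]
    exact nsq_nonneg _
  refine ⟨key hX hY, ?_⟩
  have h := key hX hY.compl
  rw [Matrix.mul_sub, Matrix.mul_one, Matrix.trace_sub, Complex.sub_re] at h
  linarith

theorem vecMulVec_isPr {v : Fin k → ℂ} (h : star v ⬝ᵥ v = 1) : IsPr (vecMulVec v (star v)) := by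
  refine ⟨by rw [Matrix.conjTranspose_vecMulVec, star_star], ?_⟩
  rw [Matrix.vecMulVec_mul_vecMulVec, h, one_smul]

theorem star_dot_self (v : Fin k → ℂ) :
    star v ⬝ᵥ v = ((∑ i, Complex.normSq (v i) : ℝ) : ℂ) := by
  simp only [dotProduct, Pi.star_apply]
  push_cast
  exact Finset.sum_congr rfl fun i _ => by rw [Complex.normSq_eq_conj_mul_self]; rfl

theorem star_dot_self_pos {v : Fin k → ℂ} (hv : v ≠ 0) :
    ∃ s : ℝ, 0 < s ∧ star v ⬝ᵥ v = (s : ℂ) := by
  refine ⟨_, lt_of_le_of_ne (Finset.sum_nonneg fun i _ => Complex.normSq_nonneg (v i))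
    (fun h => hv (funext fun i => ?_)), star_dot_self v⟩
  exact Complex.normSq_eq_zero.1 ((Finset.sum_eq_zero_iff_of_nonneg
    fun i _ => Complex.normSq_nonneg (v i)).1 h.symm i (Finset.mem_univ _))

/-- split off a vector of the range -/
theorem IsPr.trace_mul_le_sub {X Y : Matrix (Fin k) (Fin k) ℂ} (hX : IsPr X) (hY : IsPr Y)
    {v : Fin k → ℂ} (hv : v ≠ 0) (hXv : X *ᵥ v = v) :
    (X * Y).trace.re ≤ X.trace.re - 1 + (star v ⬝ᵥ Y *ᵥ v).re / (star v ⬝ᵥ v).re := by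
  obtain ⟨s, hs, hvv⟩ := star_dot_self_pos hv
  set u : Fin k → ℂ := ((Real.sqrt s)⁻¹ : ℂ) • v with hu
  have hr : ((Real.sqrt s)⁻¹ : ℂ) * ((Real.sqrt s)⁻¹ : ℂ) = ((s⁻¹ : ℝ) : ℂ) := by
    rw [← mul_inv, ← Complex.ofReal_mul, Real.mul_self_sqrt hs.le, Complex.ofReal_inv]
  have hstar : star u = ((Real.sqrt s)⁻¹ : ℂ) • star v := by
    rw [hu, star_smul, star_inv₀]
    simp [Complex.conj_ofReal]
  have huu : star u ⬝ᵥ u = 1 := by
    rw [hstar, hu, smul_dotProduct, dotProduct_smul, smul_smul, hvv, hr, smul_eq_mul,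
      ← Complex.ofReal_mul, inv_mul_cancel₀ hs.ne', Complex.ofReal_one]
  set B := vecMulVec u (star u)
  have hB := vecMulVec_isPr huu
  have hXu : X *ᵥ u = u := by rw [hu, Matrix.mulVec_smul, hXv]
  have hXB : X * B = B := by rw [Matrix.mul_vecMulVec, hXu]
  have hBX : B * X = B := by
    rw [Matrix.vecMulVec_mul]
    congr 1
    have h := congrArg star hXu
    rwa [Matrix.star_mulVec, hX.1] at h
  have hD : IsPr (X - B) := by
    refine ⟨by rw [Matrix.conjTranspose_sub, hX.1, hB.1], ?_⟩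
    rw [Matrix.sub_mul, Matrix.mul_sub, Matrix.mul_sub, hX.2, hXB, hBX, hB.2]
    abel
  have h1 := (hD.trace_mul_re hY).2
  have hBt : B.trace = 1 := by rw [Matrix.trace_vecMulVec, dotProduct_comm, huu]
  have hBY : (B * Y).trace = ((s⁻¹ : ℝ) : ℂ) * (star v ⬝ᵥ Y *ᵥ v) := by
    rw [Matrix.vecMulVec_mul, Matrix.trace_vecMulVec, dotProduct_comm, ← Matrix.dotProduct_mulVec,
      hstar, hu, Matrix.mulVec_smul, smul_dotProduct, dotProduct_smul, smul_smul, hr, smul_eq_mul]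
  rw [Matrix.sub_mul, Matrix.trace_sub, Matrix.trace_sub, hBt, hBY, Complex.sub_re, Complex.sub_re,
    Complex.one_re, Complex.re_ofReal_mul] at h1
  rw [hvv, Complex.ofReal_re, div_eq_inv_mul]
  linarith

/-- a projection of trace one is rank one -/
theorem IsPr.sandwich {A : Matrix (Fin k) (Fin k) ℂ} (hA : IsPr A) (h1 : A.trace = 1)
    (X : Matrix (Fin k) (Fin k) ℂ) : A * X * A = (A * X).trace • A := by
  obtain ⟨j, hj⟩ : ∃ j, A *ᵥ Pi.single j 1 ≠ 0 := by
    by_contra! h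
    have hz : A = 0 := Matrix.ext_of_mulVec_single fun j => by rw [h j, Matrix.zero_mulVec]
    rw [hz, Matrix.trace_zero] at h1
    exact zero_ne_one h1
  set v := A *ᵥ Pi.single j 1
  have hAv : A *ᵥ v = v := by rw [Matrix.mulVec_mulVec, hA.2]
  obtain ⟨s, hs, hvv⟩ := star_dot_self_pos hj
  set c : ℂ := ((s⁻¹ : ℝ) : ℂ)
  set B := c • vecMulVec v (star v)
  have hcs : c * (s : ℂ) = 1 := by
    rw [← Complex.ofReal_mul, inv_mul_cancel₀ hs.ne', Complex.ofReal_one]
  have hB : IsPr B := by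
    refine ⟨by rw [Matrix.conjTranspose_smul, Matrix.conjTranspose_vecMulVec, star_star,
      Complex.star_def, Complex.conj_ofReal], ?_⟩
    rw [Matrix.smul_mul, Matrix.mul_smul, Matrix.vecMulVec_mul_vecMulVec, hvv,
      Matrix.vecMulVec_smul, smul_smul, smul_smul, mul_assoc, hcs, mul_one]
  have hAB : A * B = B := by rw [Matrix.mul_smul, Matrix.mul_vecMulVec, hAv]
  have hBA : B * A = B := by
    rw [Matrix.smul_mul, Matrix.vecMulVec_mul]
    congr 2
    have h := congrArg star hAv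
    rwa [Matrix.star_mulVec, hA.1] at h
  have hD : IsPr (A - B) := by
    refine ⟨by rw [Matrix.conjTranspose_sub, hA.1, hB.1], ?_⟩
    rw [Matrix.sub_mul, Matrix.mul_sub, Matrix.mul_sub, hA.2, hAB, hBA, hB.2]
    abel
  have hBt : B.trace = 1 := by
    rw [Matrix.trace_smul, Matrix.trace_vecMulVec, dotProduct_comm, hvv, smul_eq_mul, hcs]
  have hz : A = B := by
    have h := hD.nsq_eq
    rw [Matrix.trace_sub, h1, hBt, sub_self] at h
    exact sub_eq_zero.1 (eq_zero_of_nsq _ (by exact_mod_cast h))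
  rw [hz, Matrix.smul_mul, Matrix.mul_smul, Matrix.smul_mul, Matrix.vecMulVec_mul,
    Matrix.vecMulVec_mul_vecMulVec, Matrix.trace_smul, Matrix.trace_vecMulVec, Matrix.vecMulVec_smul,
    smul_smul, smul_smul, smul_eq_mul, dotProduct_comm (star v ᵥ* X) v]
  simp only [B, smul_smul]
  congr 1
  ring

/-- frame inequality -/
theorem frame {E T : Matrix (Fin k) (Fin k) ℂ} (hE : IsPr E) (hT : Tᴴ = T) (hET : E * T = T) :
    T.trace.re ^ 2 ≤ E.trace.re * (T * T).trace.re := by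
  have h := normSq_trace_mul_le E T
  rw [hET] at h
  have h1 : nsq E = E.trace.re := by rw [← hE.nsq_eq, Complex.ofReal_re]
  have h2 : nsq T = (T * T).trace.re := by
    have := trace_conjTranspose_mul T
    rw [hT] at this
    rw [this, Complex.ofReal_re]
  rw [h1, h2] at h
  refine le_trans ?_ h
  rw [Complex.normSq_apply, sq]
  nlinarith [mul_self_nonneg T.trace.im]

/-- a unitary matrix with `tr(UA) = tr A` fixes `A` -/
theorem eq_of_trace_eq {A U : Matrix (Fin k) (Fin k) ℂ} (hA : IsPr A) (hU : Uᴴ * U = 1)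
    (h : (U * A).trace.re = A.trace.re) : U * A = A := by
  refine sub_eq_zero.1 (eq_zero_of_nsq _ ?_)
  have e := trace_conjTranspose_mul (U * A - A)
  rw [Matrix.conjTranspose_sub, Matrix.conjTranspose_mul, hA.1, Matrix.sub_mul, Matrix.mul_sub,
    Matrix.mul_sub, Matrix.trace_sub, Matrix.trace_sub, Matrix.trace_sub,
    show A * Uᴴ * (U * A) = A * (Uᴴ * U) * A by simp only [Matrix.mul_assoc], hU, Matrix.mul_one,
    hA.2] at e
  have e1 : (A * Uᴴ * A).trace = star (U * A).trace := by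
    rw [Matrix.trace_mul_cycle, hA.2, ← Matrix.trace_conjTranspose, Matrix.conjTranspose_mul, hA.1]
  have e2 : (A * (U * A)).trace = (U * A).trace := by
    rw [Matrix.trace_mul_comm, Matrix.mul_assoc, hA.2]
  rw [e1, e2] at e
  have := congrArg Complex.re e
  simp only [Complex.sub_re, Complex.star_def, Complex.conj_re, Complex.ofReal_re] at this
  linarith

/-- every representation of a finite group can be written by unitary matrices -/
theorem exists_unitary {G : Type*} [Group G] [Fintype G] {n : ℕ}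
    (ρ : Representation ℂ G (Fin n → ℂ)) :
    ∃ R : G →* Matrix (Fin n) (Fin n) ℂ, (∀ g, (R g)ᴴ = R g⁻¹) ∧ ∀ g, R g = 1 → ρ g = 1 := by
  obtain ⟨W, iW, iI, iF, σ, hσ, hdim, hker⟩ := Jordan.exists_isometric ρ
  let b : OrthonormalBasis (Fin n) ℂ W := (stdOrthonormalBasis ℂ W).reindex (finCongr hdim)
  let R : G →* Matrix (Fin n) (Fin n) ℂ :=
    ((LinearMap.toMatrixAlgEquiv b.toBasis).toRingEquiv.toRingHom.toMonoidHom).comp σ
  refine ⟨R, fun g => ?_, fun g hg => hker g ((LinearMap.toMatrixAlgEquiv b.toBasis).injective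
    (by rw [map_one]; exact hg))⟩
  have hadj : LinearMap.adjoint (σ g) = σ g⁻¹ := by
    rw [eq_comm, LinearMap.eq_adjoint_iff]
    intro x y
    have h1 : ∀ a c, inner ℂ (σ g a) (σ g c) = inner ℂ a c :=
      ((LinearMap.norm_map_iff_inner_map_map (σ g)).1 (hσ g))
    rw [← h1 (σ g⁻¹ x) y, ← Module.End.mul_apply, ← map_mul, mul_inv_cancel, map_one,
      Module.End.one_apply]
  change (LinearMap.toMatrix b.toBasis b.toBasis (σ g))ᴴ =
    LinearMap.toMatrix b.toBasis b.toBasis (σ g⁻¹)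
  rw [← hadj, LinearMap.toMatrix_adjoint b b]

end Cfsg.Agent.MinDeg.SLMin
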