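import Cfsg.Agent.MinDeg.SLTop
import Cfsg.Agent.Linear.Transvection

/-!
The minimal degree of the nontrivial representations of `SL_n`.
-/

namespace Cfsg.Agent.MinDeg.SLMin

open Matrix Cfsg Cfsg.Agent.Char

variable {F : Type*} [Field F] [Fintype F]

theorem special_linear_bound {k n : ℕ} (hn : 3 ≤ n)
    (hex : (n, Fintype.card F) ≠ (3, 2) ∧ (n, Fintype.card F) ≠ (3, 4) ∧
      (n, Fintype.card F) ≠ (4, 2) ∧ (n, Fintype.card F) ≠ (4, 3))
    (ρ : Representation ℂ (SpecialLinearGroup (Fin n) F) (Fin k → ℂ)) (hirr : ρ.IsIrreducible)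
    (hk : 2 ≤ k) : (Fintype.card F ^ n - Fintype.card F) / (Fintype.card F - 1) ≤ k := by
  classical
  obtain ⟨m, rfl⟩ : ∃ m, n = m + 3 := ⟨n - 3, by omega⟩
  obtain ⟨R, hR, hker⟩ := exists_unitary ρ
  have hnt : ∃ g, R g ≠ 1 := by
    by_contra! h
    have hch : ρ.character = fun _ => (k : ℂ) := funext fun g => by
      rw [Representation.character, hker g (h g), LinearMap.trace_one, Module.finrank_fin_fun]
    have h1 := (isIrrCharacter_iff_classInner.1 ⟨k, ρ, hirr, hch⟩).2
    simp only [classInner, Finset.sum_const, Finset.card_univ, nsmul_eq_mul,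
      Nat.card_eq_fintype_card, map_natCast] at h1
    rw [← mul_assoc, inv_mul_cancel₀ (Nat.cast_ne_zero.2 Fintype.card_ne_zero), one_mul] at h1
    have : k * k = 1 := by exact_mod_cast h1
    nlinarith
  have hb := degree_bound hR hnt hex
  have hq := Fintype.one_lt_card (α := F)
  have hqn : Fintype.card F ≤ Fintype.card F ^ (m + 3) := Nat.le_self_pow (by omega) _
  have hb' : Fintype.card F ^ (m + 3) - Fintype.card F ≤ (Fintype.card F - 1) * k := by
    have h : (((Fintype.card F ^ (m + 3) - Fintype.card F : ℕ) : ℕ) : ℝ) ≤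
        (((Fintype.card F - 1) * k : ℕ) : ℝ) := by
      rw [Nat.cast_sub hqn, Nat.cast_mul, Nat.cast_sub hq.le, Nat.cast_pow, Nat.cast_one]
      linarith
    exact_mod_cast h
  exact Nat.div_le_of_le_mul hb'

theorem card_orbits_le {n : ℕ} (hn : 2 ≤ n) :
    Nat.card (Quotient (MulAction.orbitRel (SpecialLinearGroup (Fin n) F) (Fin n → F))) ≤ 2 := by
  have hs : Function.Surjective fun b : Bool =>
      (Quotient.mk (MulAction.orbitRel (SpecialLinearGroup (Fin n) F) (Fin n → F))
        (if b then Pi.single ⟨0, by omega⟩ 1 else 0)) := by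
    intro z
    obtain ⟨v, rfl⟩ := Quotient.mk_surjective z
    rcases eq_or_ne v 0 with rfl | hv
    · exact ⟨false, rfl⟩
    · obtain ⟨h, hh⟩ := Weights.exists_sl_apply_single hn v hv
      refine ⟨true, (Quotient.sound ?_).symm⟩
      exact ⟨h, hh⟩
  exact (Nat.card_le_card_of_surjective _ hs).trans (le_of_eq (by simp))

theorem special_linear_exists {n : ℕ} (hn : 3 ≤ n)
    (hex : (n, Fintype.card F) ≠ (3, 2) ∧ (n, Fintype.card F) ≠ (3, 4) ∧
      (n, Fintype.card F) ≠ (4, 2) ∧ (n, Fintype.card F) ≠ (4, 3)) :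
    ∃ ρ : Representation ℂ (SpecialLinearGroup (Fin n) F)
      (Fin ((Fintype.card F ^ n - Fintype.card F) / (Fintype.card F - 1)) → ℂ),
      ρ.IsIrreducible := by
  classical
  have hq := Fintype.one_lt_card (α := F)
  obtain ⟨χ, hirr, -, hsum⟩ := KnownChar.weil_decomposition (F := F) hn
  choose k ρ hρ hchar using hirr
  have hdeg : ∀ i, χ i 1 = (k i : ℂ) := fun i => by
    rw [← hchar i, Representation.char_one, Module.finrank_fin_fun]
  -- no constituent is trivial
  have hperm : ∀ g : SpecialLinearGroup (Fin n) F,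
      permChar (Fin n → F) g = 2 + ∑ i, χ i g := by
    intro g
    have h1 : Nat.card (MulAction.fixedBy (Fin n → F) g) =
        Nat.card {v : Fin n → F // v ≠ 0 ∧ (g : Matrix (Fin n) (Fin n) F).mulVec v = v} + 1 := by
      simp only [Nat.card_eq_fintype_card, Fintype.card_subtype]
      rw [show Finset.univ.filter (fun v : Fin n → F => v ≠ 0 ∧ g.1 *ᵥ v = v) =
        (Finset.univ.filter fun v : Fin n → F => g.1 *ᵥ v = v).erase 0 by
          ext v; simp [and_comm]]
      rw [Finset.card_erase_add_one (by simp)]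
      congr 1
    rw [permChar, h1, Nat.cast_add, Nat.cast_one, hsum]
    ring
  have hperf := Linear.commutator_SL_eq_top (F := F) (ι := Fin n) (by simpa using hn)
  have hk2 : ∀ i, 2 ≤ k i := by
    intro j
    by_contra hj
    have hj0 : k j ≠ 0 := by
      intro h0
      have h := Char.isIrrCharacter_iff_classInner.1 ⟨k j, ρ j, hρ j, hchar j⟩
      have hz : χ j = 0 := funext fun g => by
        haveI : IsEmpty (Fin (k j)) := by rw [h0]; infer_instance
        rw [← hchar j, Representation.character, LinearMap.trace_eq_matrix_trace ℂ (Pi.basisFun ℂ _)]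
        simp [Matrix.trace]
      simp [hz, classInner] at h
    have hj1 : χ j 1 = 1 := by rw [hdeg, show k j = 1 by omega, Nat.cast_one]
    have hconst : χ j = fun _ => 1 := funext fun g =>
      linear_eq_one_of_mem_commutator (isCharacter_of_irr ⟨k j, ρ j, hρ j, hchar j⟩) hj1
        (hperf ▸ Subgroup.mem_top g)
    have hnat : ∀ i, ∃ c : ℕ, classInner (χ i) (fun _ => (1 : ℂ)) = c := fun i =>
      KnownChar.classInner_char_nat (isCharacter_of_irr ⟨k i, ρ i, hρ i, hchar i⟩)
        (isCharacter_of_irr isIrrCharacter_const_one)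
    choose c hc using hnat
    have hone : classInner (fun _ : SpecialLinearGroup (Fin n) F => (1 : ℂ)) (fun _ => (1 : ℂ)) = 1 :=
      classInner_irr_self isIrrCharacter_const_one
    have hcj : c j = 1 := by
      have := hc j
      rw [hconst, hone] at this
      exact_mod_cast this.symm
    have he := classInner_permChar_one (G := SpecialLinearGroup (Fin n) F) (Fin n → F)
    rw [show permChar (G := SpecialLinearGroup (Fin n) F) (Fin n → F) =
      (2 : ℕ) • (fun _ => (1 : ℂ)) + ∑ i, χ i by
        funext g; simp [hperm g]] at he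
    rw [classInner_add_left, ← Nat.cast_smul_eq_nsmul ℂ, classInner_smul_left, hone,
      classInner_sum_left, Finset.sum_congr rfl fun i _ => hc i] at he
    have he' : 2 * 1 + ∑ i, c i =
        Nat.card (Quotient (MulAction.orbitRel (SpecialLinearGroup (Fin n) F) (Fin n → F))) := by
      exact_mod_cast he
    have := Finset.single_le_sum (fun i _ => Nat.zero_le (c i)) (Finset.mem_univ j)
    have := card_orbits_le (F := F) (show 2 ≤ n by omega)
    omega
  -- pigeonhole
  have htot : ∑ i, k i + 2 = Fintype.card F ^ n := by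
    have h := hperm 1
    simp only [hdeg] at h
    have h1 : permChar (G := SpecialLinearGroup (Fin n) F) (Fin n → F) 1 =
        ((Fintype.card F ^ n : ℕ) : ℂ) := by
      rw [permChar]
      congr 1
      simp [MulAction.fixedBy, Nat.card_eq_fintype_card]
    rw [h1] at h
    apply Nat.cast_injective (R := ℂ)
    push_cast at h ⊢
    rw [h]; ring
  set D := (Fintype.card F ^ n - Fintype.card F) / (Fintype.card F - 1)
  have hD : ∀ i, D ≤ k i := fun i => special_linear_bound hn hex (ρ i) (hρ i) (hk2 i)
  have hex' : ∃ i, k i = D := by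
    by_contra! h
    have hlt : ∀ i, D + 1 ≤ k i := fun i => by
      have := hD i; have := h i; omega
    have hle := Finset.sum_le_sum fun i (_ : i ∈ Finset.univ) => hlt i
    simp only [Finset.sum_const, Finset.card_univ, Fintype.card_fin, smul_eq_mul] at hle
    have hdvd : (Fintype.card F - 1) * D = Fintype.card F ^ n - Fintype.card F := by
      refine Nat.mul_div_cancel' ?_
      have h1 : (Fintype.card F - 1) ∣ Fintype.card F ^ n - 1 := by
        simpa using Nat.sub_dvd_pow_sub_pow (Fintype.card F) 1 n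
      have h2 := Nat.dvd_sub h1 (dvd_refl (Fintype.card F - 1))
      rwa [show Fintype.card F ^ n - 1 - (Fintype.card F - 1) =
        Fintype.card F ^ n - Fintype.card F by omega] at h2
    have hqn : Fintype.card F ≤ Fintype.card F ^ n := Nat.le_self_pow (by omega) _
    rw [Nat.mul_add, hdvd, mul_one] at hle
    omega
  obtain ⟨i, hi⟩ := hex'
  exact hi ▸ ⟨ρ i, hρ i⟩

end Cfsg.Agent.MinDeg.SLMin
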