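import Cfsg.Agent.MinDeg.Orbit
import Cfsg.Agent.Weights.SL
import Cfsg.Agent.Weights.Sp
import Cfsg.Agent.Forms.SympGen
import Cfsg.Agent.Forms.SympPrimitive

/-!
The minimal degree of `Sp_2n(q)`, `q` odd: lower bound `(q^n - 1)/2`.
-/

namespace Cfsg.Agent.MinDeg

open Matrix Cfsg.Agent.Weights Cfsg.Agent.WordLaws

variable {F : Type*} [Field F] {n : ℕ}

/-- the Siegel unipotent element attached to a matrix (only its symmetric part matters) -/
def siegel (M : Matrix (Fin n) (Fin n) F) : Matrix.symplecticGroup (Fin n) F :=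
  ⟨fromBlocks 1 (M + Mᵀ) 0 1, by
    rw [SymplecticGroup.mem_iff, Matrix.J, fromBlocks_transpose, fromBlocks_multiply,
      fromBlocks_multiply]
    simp
    abel⟩

theorem siegel_add (M N : Matrix (Fin n) (Fin n) F) : siegel (M + N) = siegel M * siegel N := by
  apply Subtype.ext
  change fromBlocks 1 (M + N + (M + N)ᵀ) 0 1 =
    fromBlocks 1 (M + Mᵀ) 0 1 * fromBlocks 1 (N + Nᵀ) 0 1
  rw [fromBlocks_multiply, Matrix.transpose_add]
  simp only [Matrix.one_mul, Matrix.mul_one, Matrix.mul_zero, Matrix.zero_mul, add_zero, zero_add]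
  congr 1
  abel

theorem siegel_transpose (M : Matrix (Fin n) (Fin n) F) : siegel Mᵀ = siegel M := by
  apply Subtype.ext
  change fromBlocks 1 (Mᵀ + Mᵀᵀ) 0 1 = fromBlocks 1 (M + Mᵀ) 0 1
  rw [Matrix.transpose_transpose, add_comm]

theorem siegel_conj (g : SpecialLinearGroup (Fin n) F) (M : Matrix (Fin n) (Fin n) F) :
    siegel M * (leviSp n g)⁻¹ = (leviSp n g)⁻¹ * siegel (g.1 * M * g.1ᵀ) := by
  have key : leviSp n g * siegel M = siegel (g.1 * M * g.1ᵀ) * leviSp n g := by
    apply Subtype.ext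
    change fromBlocks g.1 0 0 (g⁻¹).1ᵀ * fromBlocks 1 (M + Mᵀ) 0 1 =
      fromBlocks 1 (g.1 * M * g.1ᵀ + (g.1 * M * g.1ᵀ)ᵀ) 0 1 * fromBlocks g.1 0 0 (g⁻¹).1ᵀ
    rw [fromBlocks_multiply, fromBlocks_multiply]
    congr 1
    · simp
    · have h : g.1ᵀ * (g⁻¹).1ᵀ = 1 := by
        rw [← Matrix.transpose_mul, coe_inv_mul_coe, Matrix.transpose_one]
      simp only [Matrix.transpose_mul, Matrix.transpose_transpose, Matrix.add_mul, Matrix.mul_assoc,
        h, Matrix.mul_one, Matrix.mul_zero, zero_add, add_zero, ← Matrix.mul_add]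
    · simp
    · simp
  calc siegel M * (leviSp n g)⁻¹
      = (leviSp n g)⁻¹ * (leviSp n g * siegel M) * (leviSp n g)⁻¹ := by group
    _ = (leviSp n g)⁻¹ * siegel (g.1 * M * g.1ᵀ) := by rw [key]; group

theorem conj_vecMulVec (g : Matrix (Fin n) (Fin n) F) (a b : Fin n → F) (s : F) :
    g * (s • vecMulVec a b) * gᵀ = s • vecMulVec (g *ᵥ a) (g *ᵥ b) := by
  rw [Matrix.mul_smul, Matrix.smul_mul, Matrix.mul_vecMulVec, Matrix.vecMulVec_mul,
    Matrix.vecMul_transpose]

theorem two_ne_zero_of_odd_card [Fintype F] (hodd : Odd (Fintype.card F)) : (2 : F) ≠ 0 := by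
  intro h2
  refine (Nat.not_even_iff_odd.2 hodd) (Nat.even_iff.2 (FiniteField.even_card_iff_char_two.1 ?_))
  have : ringChar F ∣ 2 := ringChar.dvd (by exact_mod_cast h2)
  rcases (Nat.dvd_prime Nat.prime_two).1 this with h | h
  · exact absurd h CharP.ringChar_ne_one
  · exact h

/-- a representation of `Sp_2n` in which a Siegel element acts non-trivially is large -/
theorem sp_siegel_bound [Fintype F] (hodd : Odd (Fintype.card F)) (hn : 2 ≤ n) {V : Type*}
    [AddCommGroup V] [Module ℂ V] [FiniteDimensional ℂ V]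
    (R : ↥(Matrix.symplecticGroup (Fin n) F) →* Module.End ℂ V)
    (M₀ : Matrix (Fin n) (Fin n) F) (hM₀ : R (siegel M₀) ≠ 1) :
    (Fintype.card F ^ n - 1) / 2 ≤ Module.finrank ℂ V := by
  classical
  obtain ⟨k, rfl⟩ : ∃ k, n = k + 1 := ⟨n - 1, by omega⟩
  have hk : 1 ≤ k := by omega
  have h2 := two_ne_zero_of_odd_card hodd
  have : NeZero (2 : F) := ⟨h2⟩
  have hinj : ∀ g, Function.Injective (R g) := fun g x y h => by
    have := congrArg (R g⁻¹) h
    rwa [← Module.End.mul_apply, ← Module.End.mul_apply, ← map_mul, inv_mul_cancel, map_one,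
      Module.End.one_apply, Module.End.one_apply] at this
  have hpow : ∀ l : ℕ, siegel M₀ ^ l = siegel (l • M₀) := by
    intro l
    induction l with
    | zero =>
      rw [pow_zero, zero_nsmul]
      exact Subtype.ext (by simp [siegel, fromBlocks_one])
    | succ l ih => rw [pow_succ, ih, succ_nsmul, siegel_add]
  have hp : ringChar F • M₀ = 0 := by
    rw [← Nat.cast_smul_eq_nsmul F, ringChar.Nat.cast_ringChar, zero_smul]
  obtain ⟨χ₀, hχ₀, hχ₀1⟩ := exists_weight_ne_one (fun M => R (siegel M))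
    (fun a b => by rw [← map_mul, ← map_mul, ← siegel_add, ← siegel_add, add_comm a b]) M₀ (ringChar F)
    (Nat.cast_ne_zero.2 (CharP.char_is_prime F (ringChar F)).ne_zero)
    (by rw [← map_pow, hpow, hp, ← zero_nsmul M₀, ← hpow, pow_zero, map_one]) hM₀
  obtain ⟨φ₀, rfl⟩ := weight_addChar R siegel siegel_add χ₀ hχ₀
  have htr : ∀ (φ : AddChar (Matrix (Fin (k + 1)) (Fin (k + 1)) F) ℂ),
      IsWeight (fun M => R (siegel M)) ⇑φ → ∀ M, φ Mᵀ = φ M := by
    rintro φ ⟨v, hv0, hv⟩ M
    dsimp only at hv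
    apply smul_left_injective ℂ hv0
    dsimp only
    rw [← hv, ← hv, siegel_transpose]
  obtain ⟨x₁, s₁, hx₁⟩ : ∃ (x : Fin (k + 1) → F) (s : F), φ₀ (s • vecMulVec x x) ≠ 1 := by
    by_contra! hall
    have hxy : ∀ (x y : Fin (k + 1) → F) (s : F), φ₀ (s • vecMulVec x y) = 1 := by
      intro x y s
      have h1 := hall (x + y) (s / 2)
      rw [Matrix.add_vecMulVec, Matrix.vecMulVec_add, Matrix.vecMulVec_add, smul_add, smul_add,
        smul_add, AddChar.map_add_eq_mul, AddChar.map_add_eq_mul, AddChar.map_add_eq_mul, hall,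
        hall, one_mul, mul_one] at h1
      rw [show (s / 2) • vecMulVec y x = ((s / 2) • vecMulVec x y)ᵀ by
        rw [Matrix.transpose_smul, Matrix.transpose_vecMulVec], htr _ hχ₀,
        ← AddChar.map_add_eq_mul, ← add_smul, add_halves] at h1
      exact h1
    apply hχ₀1
    rw [Matrix.matrix_eq_sum_single M₀]
    have hs : ∀ i j, φ₀ (Matrix.single i j (M₀ i j)) = 1 := fun i j => by
      rw [show Matrix.single i j (M₀ i j) = M₀ i j • vecMulVec (Pi.single i 1) (Pi.single j 1) by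
        rw [Matrix.vecMulVec_eq Unit]
        ext a b
        by_cases ha : i = a <;> by_cases hb : j = b <;>
          simp [Matrix.single_apply, Matrix.mul_apply, ha, hb, Ne.symm]]
      exact hxy _ _ _
    exact Finset.sum_induction _ (fun M => φ₀ M = 1)
      (fun a b ha hb => by rw [AddChar.map_add_eq_mul, ha, hb, one_mul]) φ₀.map_zero_eq_one
      (fun i _ => Finset.sum_induction _ (fun M => φ₀ M = 1)
        (fun a b ha hb => by rw [AddChar.map_add_eq_mul, ha, hb, one_mul]) φ₀.map_zero_eq_one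
        (fun j _ => hs i j))
  have hx₁0 : x₁ ≠ 0 := by
    rintro rfl
    simp at hx₁
  -- weights transported by the Levi subgroup
  have hconj : ∀ (φ : AddChar (Matrix (Fin (k + 1)) (Fin (k + 1)) F) ℂ),
      IsWeight (fun M => R (siegel M)) ⇑φ → ∀ g : SpecialLinearGroup (Fin (k + 1)) F,
        IsWeight (fun M => R (siegel M)) (fun M => φ (g.1 * M * g.1ᵀ)) := fun φ hφ g =>
    hφ.transport (R (leviSp (k + 1) g)⁻¹) (hinj _) (fun M => g.1 * M * g.1ᵀ)
      (fun M => by rw [← map_mul, ← map_mul, siegel_conj])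
  obtain ⟨g₁, hg₁⟩ := exists_sl_apply_single (F := F) (show 2 ≤ k + 1 by omega) x₁ hx₁0
  change g₁.1 *ᵥ Pi.single 0 1 = x₁ at hg₁
  obtain ⟨φ, hφeq⟩ := weight_addChar R siegel siegel_add _ (hconj φ₀ hχ₀ g₁)
  have hφ : IsWeight (fun M => R (siegel M)) ⇑φ := hφeq ▸ hconj φ₀ hχ₀ g₁
  let e₀ : Fin (k + 1) → F := Pi.single 0 1
  let ψ : AddChar F ℂ := φ.compAddMonoidHom
    ((LinearMap.toSpanSingleton F (Matrix (Fin (k + 1)) (Fin (k + 1)) F)
      (vecMulVec e₀ e₀)).toAddMonoidHom)
  have hψ : ∀ s, ψ s = φ (s • vecMulVec e₀ e₀) := fun s => by simp [ψ]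
  have hψ1 : ψ s₁ ≠ 1 := by
    rw [hψ, congrFun hφeq, conj_vecMulVec, hg₁]
    exact hx₁
  have hprim : ∀ c c' : F, (∀ x, ψ (c * x) = ψ (c' * x)) → c = c' := by
    intro c c' h
    by_contra hne
    apply hψ1
    have hz : c - c' ≠ 0 := sub_ne_zero.2 hne
    rw [show s₁ = (c - c') * ((c - c')⁻¹ * s₁) by rw [← mul_assoc, mul_inv_cancel₀ hz, one_mul],
      sub_mul, AddChar.map_sub_eq_div, h]
    exact div_self (AddChar.val_isUnit ψ _).ne_zero
  obtain ⟨W, hW⟩ := exists_weightFinset (fun M => R (siegel M))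
  let P : (Matrix (Fin (k + 1)) (Fin (k + 1)) F → ℂ) → (Fin (k + 1) → F) → Prop := fun χ x =>
    ∃ u : Fˣ, ∀ s, χ (s • vecMulVec x x) = ψ ((u : F) ^ 2 * s)
  obtain ⟨γ, hγ⟩ := IsCyclic.exists_generator (α := Fˣ)
  have hord : orderOf γ = Fintype.card F - 1 := by
    rw [orderOf_eq_card_of_forall_mem_zpowers hγ, Nat.card_eq_fintype_card, Fintype.card_units]
  set h := (Fintype.card F - 1) / 2 with hh
  have heven : 2 * h = Fintype.card F - 1 :=
    Nat.mul_div_cancel' (Nat.Odd.sub_odd hodd odd_one).two_dvd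
  have hsquares : ∀ u : Fˣ, ∃ i : Fin h, u ^ 2 = (γ ^ (i : ℕ)) ^ 2 := by
    intro u
    obtain ⟨j, hj⟩ := (mem_zpowers_iff_mem_range_orderOf (x := γ)).1 (hγ u) |> Finset.mem_image.1
    have hpos : 0 < h := by
      have := Fintype.one_lt_card (α := F)
      omega
    refine ⟨⟨j % h, Nat.mod_lt _ hpos⟩, ?_⟩
    rw [← hj.2, ← pow_mul, ← pow_mul, pow_eq_pow_iff_modEq, hord, ← heven, mul_comm 2 h]
    exact (Nat.ModEq.mul_right' _ (Nat.mod_modEq j h)).symm
  -- many weights are large at a given vector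
  have hlow : ∀ x : {x : Fin (k + 1) → F // x ≠ 0},
      h * Fintype.card F ^ k ≤ (W.filter fun χ => P χ x.1).card := by
    intro x
    obtain ⟨g₂, hg₂⟩ := exists_sl_apply_single (F := F) (show 2 ≤ k + 1 by omega) x.1 x.2
    change g₂.1 *ᵥ Pi.single 0 1 = x.1 at hg₂
    let f : Fin h × (Fin k → F) → (Matrix (Fin (k + 1)) (Fin (k + 1)) F → ℂ) := fun p M =>
      φ ((spShift hk (γ ^ (p.1 : ℕ)) p.2 * g₂⁻¹).1 * M * ((spShift hk (γ ^ (p.1 : ℕ)) p.2 * g₂⁻¹).1)ᵀ)
    have hfix : ∀ (s : Fˣ) (w : Fin k → F), (spShift hk s w).1 *ᵥ e₀ = (s : F) • e₀ := by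
      intro s w
      ext m
      rw [spShift_mulVec]
      rcases eq_or_ne m 0 with rfl | hm
      · simp [spScale, e₀]
      · simp [hm, e₀]
    have hx : ∀ (p : Fin h × (Fin k → F)),
        (spShift hk (γ ^ (p.1 : ℕ)) p.2 * g₂⁻¹).1 *ᵥ x.1 = ((γ ^ (p.1 : ℕ) : Fˣ) : F) • e₀ := by
      intro p
      change (_ * (g₂⁻¹).1) *ᵥ _ = _
      rw [← Matrix.mulVec_mulVec, ← hg₂, Matrix.mulVec_mulVec _ (g₂⁻¹).1, coe_inv_mul_coe,
        Matrix.one_mulVec, hfix]
    have hinjf : Function.Injective f := by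
      rintro ⟨i, w⟩ ⟨i', w'⟩ heq
      have hev : ∀ N : Matrix (Fin (k + 1)) (Fin (k + 1)) F, ∀ p, f p (g₂.1 * N * g₂.1ᵀ) =
          φ ((spShift hk (γ ^ ((p : Fin h × (Fin k → F)).1 : ℕ)) p.2).1 * N *
            ((spShift hk (γ ^ (p.1 : ℕ)) p.2).1)ᵀ) := by
        intro N p
        simp only [f]
        congr 1
        change ((spShift hk (γ ^ (p.1 : ℕ)) p.2).1 * (g₂⁻¹).1) * (g₂.1 * N * g₂.1ᵀ) *
          ((spShift hk (γ ^ (p.1 : ℕ)) p.2).1 * (g₂⁻¹).1)ᵀ = _
        rw [Matrix.transpose_mul]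
        have : g₂.1ᵀ * (g₂⁻¹).1ᵀ = 1 := by
          rw [← Matrix.transpose_mul, coe_inv_mul_coe, Matrix.transpose_one]
        rw [show ∀ A B C D E G : Matrix (Fin (k + 1)) (Fin (k + 1)) F,
          A * B * (C * D * E) * (G * Aᵀ) = A * ((B * C) * D * (E * G)) * Aᵀ from
            fun A B C D E G => by simp only [Matrix.mul_assoc],
          this, coe_inv_mul_coe, Matrix.one_mul, Matrix.mul_one]
      have hN := fun N => (hev N (i, w)).symm.trans
        ((congrFun heq (g₂.1 * N * g₂.1ᵀ)).trans (hev N (i', w')))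
      have h0 := fun z : F => hN (z • vecMulVec e₀ e₀)
      simp only [conj_vecMulVec, hfix, Matrix.smul_vecMulVec, Matrix.vecMulVec_smul, smul_smul,
        ← hψ] at h0
      have hsq := hprim (((γ ^ (i : ℕ) : Fˣ) : F) ^ 2) (((γ ^ (i' : ℕ) : Fˣ) : F) ^ 2) (fun z => by
        calc ψ (((γ ^ (i : ℕ) : Fˣ) : F) ^ 2 * z)
            = ψ (z * ((γ ^ (i : ℕ) : Fˣ) : F) * ((γ ^ (i : ℕ) : Fˣ) : F)) := by congr 1; ring
          _ = ψ (z * ((γ ^ (i' : ℕ) : Fˣ) : F) * ((γ ^ (i' : ℕ) : Fˣ) : F)) := by simpa only [mul_assoc] using h0 z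
          _ = _ := by congr 1; ring)
      have hi : i = i' := by
        apply Fin.ext
        simp only [← Units.val_pow_eq_pow_val] at hsq
        have h1 : γ ^ ((i : ℕ) * 2) = γ ^ ((i' : ℕ) * 2) := by
          rw [pow_mul, pow_mul]; exact Units.ext hsq
        have hb : ∀ l : Fin h, (l : ℕ) * 2 ∈ Set.Iio (orderOf γ) := fun l => by
          rw [Set.mem_Iio, hord]
          have := l.2
          omega
        have := pow_injOn_Iio_orderOf (hb i) (hb i') h1
        omega
      subst hi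
      refine Prod.ext rfl (funext fun j => ?_)
      set s : Fˣ := γ ^ (i : ℕ)
      have hgj : ∀ w : Fin k → F, (spShift hk s w).1 *ᵥ Pi.single j.succ 1 =
          spScale hk s j.succ • (w j • e₀ + Pi.single j.succ 1) := by
        intro w
        ext m
        rw [spShift_mulVec]
        rcases eq_or_ne m 0 with rfl | hm
        · simp [e₀, (Fin.succ_ne_zero j).symm, mul_comm]
        · simp [e₀, hm, Pi.single_apply, mul_comm]
      have hs : (s : F) * spScale hk s j.succ ≠ 0 := mul_ne_zero s.ne_zero (spScale_ne_zero hk s _)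
      refine hprim _ _ fun z => ?_
      have hz := hN ((z / ((s : F) * spScale hk s j.succ)) • vecMulVec e₀ (Pi.single j.succ 1))
      simp only [conj_vecMulVec, hfix, hgj, Matrix.smul_vecMulVec, Matrix.vecMulVec_smul,
        Matrix.vecMulVec_add, smul_smul, smul_add, AddChar.map_add_eq_mul, ← hψ] at hz
      have hz' := mul_right_cancel₀ (AddChar.val_isUnit φ _).ne_zero hz
      have key : ∀ x : F, z / ((s : F) * spScale hk s j.succ) * (spScale hk s j.succ * x * (s : F)) =
          x * z := fun x => by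
        field_simp [s.ne_zero, spScale_ne_zero hk s j.succ]
      rwa [key, key] at hz'
    have := card_filter_ge_of_injective W (fun χ => P χ x.1) f hinjf
      (fun p => (hW _).2 (hconj φ hφ _))
      (fun p => ⟨γ ^ (p.1 : ℕ), fun s => by
        simp only [f]
        rw [conj_vecMulVec, hx, Matrix.smul_vecMulVec, Matrix.vecMulVec_smul, smul_smul, smul_smul,
          ← hψ]
        congr 1
        ring⟩)
    simpa [Fintype.card_prod, Fintype.card_fun] using this
  -- each weight is large at few vectors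
  have hup : ∀ χ ∈ W, (Finset.univ.filter fun x : {x : Fin (k + 1) → F // x ≠ 0} => P χ x.1).card ≤
      2 * h * Fintype.card F ^ k := by
    intro χ hχW
    obtain ⟨Φ, rfl⟩ := weight_addChar R siegel siegel_add χ ((hW χ).1 hχW)
    refine le_trans (le_of_eq (Finset.card_map ⟨Subtype.val, Subtype.val_injective⟩).symm)
      ((Finset.card_le_card (t := Finset.univ.filter (P ⇑Φ)) fun x hx => ?_).trans ?_)
    · obtain ⟨y, hy, rfl⟩ := Finset.mem_map.1 hx
      exact Finset.mem_filter.2 ⟨Finset.mem_univ _, (Finset.mem_filter.1 hy).2⟩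
    by_cases hex : ∃ x₀, P ⇑Φ x₀
    swap
    · push Not at hex
      rw [Finset.filter_false_of_mem fun x _ => hex x]
      simp
    obtain ⟨x₀, u₀, hu₀⟩ := hex
    have hx₀ : x₀ ≠ 0 := by
      rintro rfl
      have := hu₀ (((u₀ : F) ^ 2)⁻¹ * s₁)
      rw [← mul_assoc, mul_inv_cancel₀ (pow_ne_zero 2 u₀.ne_zero), one_mul] at this
      exact hψ1 (by simpa using this.symm)
    obtain ⟨i₀, hi₀⟩ := Function.ne_iff.1 hx₀
    rw [Pi.zero_apply] at hi₀
    have hbij : ∀ η : AddChar F ℂ, ∃ c : F, ∀ s, η s = ψ (c * s) := fun η => by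
      obtain ⟨c, hc⟩ := character_eq_comp (fun c => ψ.mulShift c)
        (fun x y hxy => hprim x y fun z => by
          simpa [AddChar.mulShift_apply] using DFunLike.congr_fun hxy z) η
      exact ⟨c, fun s => by rw [← hc, AddChar.mulShift_apply]⟩
    have hline : ∀ M : Matrix (Fin (k + 1)) (Fin (k + 1)) F, ∃ c : F, ∀ s,
        Φ (s • M) = ψ (c * s) := fun M => by
      obtain ⟨c, hc⟩ := hbij
        (Φ.compAddMonoidHom ((LinearMap.toSpanSingleton F _ M).toAddMonoidHom))
      exact ⟨c, fun s => by rw [← hc]; simp⟩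
    have := card_filter_le_of_lines x₀ i₀ hi₀ (P ⇑Φ) (2 * h) (fun x _ => ?_)
    · rwa [Fintype.card_fin, Nat.add_sub_cancel] at this
    obtain ⟨a, ha⟩ := hline (vecMulVec x x)
    obtain ⟨b, hb⟩ := hline (vecMulVec x x₀)
    have hb' : ∀ s, Φ (s • vecMulVec x₀ x) = ψ (b * s) := fun s => by
      rw [← hb s, ← htr Φ ((hW _).1 hχW) (s • vecMulVec x x₀), Matrix.transpose_smul,
        Matrix.transpose_vecMulVec]
    let q : F → F := fun t => a + 2 * b * t + (u₀ : F) ^ 2 * t ^ 2
    have hq : ∀ t s, Φ (s • vecMulVec (x + t • x₀) (x + t • x₀)) = ψ (q t * s) := by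
      intro t s
      rw [Matrix.add_vecMulVec, Matrix.vecMulVec_add, Matrix.vecMulVec_add, Matrix.smul_vecMulVec,
        Matrix.smul_vecMulVec, Matrix.vecMulVec_smul, Matrix.vecMulVec_smul, smul_smul, smul_add,
        smul_add, smul_add, smul_smul, smul_smul, smul_smul, AddChar.map_add_eq_mul,
        AddChar.map_add_eq_mul, AddChar.map_add_eq_mul, ha, hb, hb', hu₀, ← AddChar.map_add_eq_mul,
        ← AddChar.map_add_eq_mul, ← AddChar.map_add_eq_mul]
      congr 1
      simp only [q]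
      ring
    let S : Fin h → Finset F := fun i =>
      Finset.univ.filter fun t => q t = ((γ ^ (i : ℕ) : Fˣ) : F) ^ 2
    have hSle : ∀ i, (S i).card ≤ 2 := by
      intro i
      rcases (S i).eq_empty_or_nonempty with he | ⟨t₁, ht₁⟩
      · simp [he]
      refine (Finset.card_le_card (t := {t₁, -(2 * b) / (u₀ : F) ^ 2 - t₁}) fun t ht => ?_).trans
        Finset.card_le_two
      have e1 := (Finset.mem_filter.1 ht).2.trans (Finset.mem_filter.1 ht₁).2.symm
      have hu : (u₀ : F) ^ 2 ≠ 0 := pow_ne_zero 2 u₀.ne_zero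
      have e2 : (t - t₁) * (2 * b + (u₀ : F) ^ 2 * (t + t₁)) = 0 := by
        simp only [q] at e1; linear_combination e1
      rw [Finset.mem_insert, Finset.mem_singleton]
      rcases mul_eq_zero.1 e2 with e3 | e3
      · exact Or.inl (sub_eq_zero.1 e3)
      · refine Or.inr ?_
        rw [eq_sub_iff_add_eq, eq_div_iff hu]
        linear_combination e3
    refine (Finset.card_le_card (t := (Finset.univ : Finset (Fin h)).biUnion S) fun t ht => ?_).trans
      ((Finset.card_biUnion_le).trans ?_)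
    · obtain ⟨u, hu⟩ := (Finset.mem_filter.1 ht).2
      have e1 : q t = (u : F) ^ 2 := hprim _ _ fun s => (hq t s).symm.trans (hu s)
      obtain ⟨i, hi⟩ := hsquares u
      refine Finset.mem_biUnion.2 ⟨i, Finset.mem_univ _, Finset.mem_filter.2 ⟨Finset.mem_univ _, ?_⟩⟩
      rw [e1, ← Units.val_pow_eq_pow_val, hi, Units.val_pow_eq_pow_val]
    · refine (Finset.sum_le_sum fun i _ => hSle i).trans ?_
      simp [mul_comm]
  have hmain := double_count W (fun χ (x : {x : Fin (k + 1) → F // x ≠ 0}) => P χ x.1) _ _ hlow hup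
  have hWle : W.card ≤ Module.finrank ℂ V := by
    have := mul_card_le_finrank (fun M => R (siegel M)) W 1 (fun χ hχ => by
      obtain ⟨v, hv0, hv⟩ := (hW χ).1 hχ
      exact Submodule.one_le_finrank_iff.2 ((Submodule.ne_bot_iff _).2
        ⟨v, mem_weightSpace.2 hv, hv0⟩))
    rwa [mul_one] at this
  have hcard : Fintype.card {x : Fin (k + 1) → F // x ≠ 0} = Fintype.card F ^ (k + 1) - 1 := by
    simp [Fintype.card_subtype_compl]
  rw [hcard] at hmain
  have hpos : 0 < h * Fintype.card F ^ k := by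
    have := Fintype.one_lt_card (α := F)
    exact Nat.mul_pos (by omega) (pow_pos Fintype.card_pos _)
  have : Fintype.card F ^ (k + 1) - 1 ≤ W.card * 2 := by
    refine Nat.le_of_mul_le_mul_right ?_ hpos
    calc (Fintype.card F ^ (k + 1) - 1) * (h * Fintype.card F ^ k)
        ≤ W.card * (2 * h * Fintype.card F ^ k) := hmain
      _ = W.card * 2 * (h * Fintype.card F ^ k) := by ring
  omega

/-- if the Siegel subgroup acts trivially then so does the whole group -/
theorem sp_trivial_of_siegel (hn : 1 ≤ n) (h2 : (2 : F) ≠ 0) {H : Type*} [Monoid H]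
    (R : ↥(Matrix.symplecticGroup (Fin n) F) →* H) (hR : ∀ M, R (siegel M) = 1)
    (g : ↥(Matrix.symplecticGroup (Fin n) F)) : R g = 1 := by
  classical
  let i₀ : Fin n := ⟨0, hn⟩
  let e : Fin n ⊕ Fin n → F := Pi.single (Sum.inl i₀) 1
  have : NeZero (2 : F) := ⟨h2⟩
  have hbase : ∀ c, (⟨Cfsg.sympTransvection n e c, Forms.sympTransvection_mem e c⟩ :
      Matrix.symplecticGroup (Fin n) F) = siegel ((c / 2) • Matrix.single i₀ i₀ 1) := by
    intro c
    apply Subtype.ext
    change Cfsg.sympTransvection n e c = fromBlocks 1 _ 0 1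
    ext a b
    rcases a with a | a <;> rcases b with b | b
    all_goals simp [Cfsg.sympTransvection, e, Matrix.vecMulVec_apply, Matrix.J, Pi.single_apply,
      Matrix.single_apply, Matrix.one_apply, Matrix.transpose_apply, eq_comm]
    by_cases ha : i₀ = a
    · subst ha
      by_cases hb : b = i₀ <;> simp [hb, add_halves]
    · simp [Ne.symm ha]
  have hconjT : ∀ (A : Matrix.symplecticGroup (Fin n) F) (v : Fin n ⊕ Fin n → F) (c : F),
      A * ⟨Cfsg.sympTransvection n v c, Forms.sympTransvection_mem v c⟩ =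
        ⟨Cfsg.sympTransvection n (A.1 *ᵥ v) c, Forms.sympTransvection_mem _ c⟩ * A := by
    intro A v c
    apply Subtype.ext
    apply Matrix.ext_of_mulVec_single
    intro s
    change (A.1 * Cfsg.sympTransvection n v c) *ᵥ _ = (Cfsg.sympTransvection n _ c * A.1) *ᵥ _
    rw [← Matrix.mulVec_mulVec, ← Matrix.mulVec_mulVec, Forms.sympTransvection_mulVec,
      Forms.sympTransvection_mulVec, Matrix.mulVec_add, Matrix.mulVec_smul,
      Forms.mem_symplecticGroup_iff_sympForm.1 A.2]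
  have hinv : ∀ A : Matrix.symplecticGroup (Fin n) F, R A * R A⁻¹ = 1 ∧ R A⁻¹ * R A = 1 :=
    fun A => ⟨by rw [← map_mul, mul_inv_cancel, map_one], by rw [← map_mul, inv_mul_cancel, map_one]⟩
  have hmove : ∀ (A : Matrix.symplecticGroup (Fin n) F) (v : Fin n ⊕ Fin n → F) (c : F),
      R ⟨Cfsg.sympTransvection n v c, Forms.sympTransvection_mem v c⟩ = 1 →
      R ⟨Cfsg.sympTransvection n (A.1 *ᵥ v) c, Forms.sympTransvection_mem _ c⟩ = 1 := by
    intro A v c h1
    have := congrArg R (hconjT A v c)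
    rw [map_mul, map_mul, h1, mul_one] at this
    have := congrArg (· * R A⁻¹) this
    simpa only [mul_assoc, (hinv A).1, mul_one] using this.symm
  have hall : ∀ (v : Fin n ⊕ Fin n → F) (c : F),
      R ⟨Cfsg.sympTransvection n v c, Forms.sympTransvection_mem v c⟩ = 1 := by
    intro v c
    rcases eq_or_ne v 0 with rfl | hv
    · rw [show (⟨Cfsg.sympTransvection n 0 c, Forms.sympTransvection_mem 0 c⟩ :
        Matrix.symplecticGroup (Fin n) F) = 1 from Subtype.ext (by simp [Cfsg.sympTransvection]),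
        map_one]
    have he : R ⟨Cfsg.sympTransvection n e c, Forms.sympTransvection_mem e c⟩ = 1 := by
      rw [hbase, hR]
    have hstep : ∀ x y : Fin n ⊕ Fin n → F, Cfsg.sympForm n F x y ≠ 0 →
        R ⟨Cfsg.sympTransvection n x c, Forms.sympTransvection_mem x c⟩ = 1 →
        R ⟨Cfsg.sympTransvection n y c, Forms.sympTransvection_mem y c⟩ = 1 := by
      intro x y hxy hx
      obtain ⟨A, -, hA, -⟩ := Forms.exists_transvection_map hxy
      subst hA
      exact hmove A x c hx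
    have hne : e ≠ 0 := fun h => by simpa [e] using congrFun h (Sum.inl i₀)
    by_cases h1 : Cfsg.sympForm n F e v = 0
    swap
    · exact hstep e v h1 he
    obtain ⟨z₁, hz₁⟩ : ∃ z, Cfsg.sympForm n F e z ≠ 0 :=
      (Forms.exists_sympForm_eq_one hne).imp fun z (hz : _ = 1) => by rw [hz]; exact one_ne_zero
    obtain ⟨z₂, hz₂⟩ : ∃ z, Cfsg.sympForm n F v z ≠ 0 :=
      (Forms.exists_sympForm_eq_one hv).imp fun z (hz : _ = 1) => by rw [hz]; exact one_ne_zero
    have hz2' : Cfsg.sympForm n F z₂ v ≠ 0 := by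
      rw [Forms.sympForm_swap]; exact neg_ne_zero.2 hz₂
    obtain ⟨z, hz, hz'⟩ : ∃ z, Cfsg.sympForm n F e z ≠ 0 ∧ Cfsg.sympForm n F z v ≠ 0 := by
      by_cases ha : Cfsg.sympForm n F z₁ v ≠ 0
      · exact ⟨z₁, hz₁, ha⟩
      by_cases hb : Cfsg.sympForm n F e z₂ ≠ 0
      · exact ⟨z₂, hb, hz2'⟩
      push Not at ha hb
      refine ⟨z₁ + z₂, ?_, ?_⟩
      · rw [← Forms.sympBil_apply, map_add, Forms.sympBil_apply, Forms.sympBil_apply, hb, add_zero]
        exact hz₁
      · rw [← Forms.sympBil_apply, map_add, LinearMap.add_apply, Forms.sympBil_apply,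
          Forms.sympBil_apply, ha, zero_add]
        exact hz2'
    exact hstep z v hz' (hstep e z hz he)
  have hg : g ∈ Forms.sympTransvectionClosure n F :=
    by rw [Forms.sympTransvectionClosure_eq_top (m := n) (F := F)]; exact Subgroup.mem_top g
  induction hg using Subgroup.closure_induction with
  | mem x hx =>
    obtain ⟨w, c, hx⟩ := hx
    rw [show x = ⟨Cfsg.sympTransvection n w c, Forms.sympTransvection_mem w c⟩ from Subtype.ext hx]
    exact hall w c
  | one => exact map_one R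
  | mul x y _ _ hx hy => rw [map_mul, hx, hy, one_mul]
  | inv x _ hx => rw [← (hinv x).1, hx, one_mul]

end Cfsg.Agent.MinDeg
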